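import Cfsg.Prelude.Def_EvenType
import Cfsg.Agent.Lib.Cores.Basic

/-!
Small helpers for the K-group / even type topics: the rank-0 criterion, the 1-generated core and
strongly p-embedded subgroups.
-/

set_option autoImplicit false

namespace Cfsg.Agent.Lib.K41

open Cfsg

variable {G : Type*} [Group G]

/-- An element of order `p` in `Q` shows `¬ PRankLE p 0 Q`. -/
theorem not_pRankLE_zero {p : ℕ} [hp : Fact p.Prime] {Q : Subgroup G} {x : G} (hxQ : x ∈ Q)
    (hx : orderOf x = p) : ¬ PRankLE p 0 ↥Q := by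
  intro h
  have := h (Subgroup.zpowers (⟨x, hxQ⟩ : Q)) inferInstance (by
    rintro a ⟨k, rfl⟩
    show ((⟨x, hxQ⟩ : Q) ^ k) ^ p = 1
    rw [← zpow_natCast, ← zpow_mul, mul_comm, zpow_mul, zpow_natCast]
    have : (⟨x, hxQ⟩ : Q) ^ p = 1 := Subtype.ext (by simp [← hx, pow_orderOf_eq_one])
    rw [this, one_zpow])
  rw [Nat.card_zpowers, Subgroup.orderOf_mk, hx, pow_zero] at this
  have := hp.out.one_lt
  omega

theorem exists_orderOf_eq_of_not_pRankLE_zero {p : ℕ} [hp : Fact p.Prime] [Finite G]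
    {Q : Subgroup G} (h : ¬ PRankLE p 0 ↥Q) : ∃ x ∈ Q, orderOf x = p := by
  by_contra hno
  simp only [not_exists, not_and] at hno
  refine h fun A _ hA => ?_
  rw [pow_zero]
  apply le_of_eq
  rw [Subgroup.card_eq_one, Subgroup.eq_bot_iff_forall]
  intro a ha
  by_contra hne
  refine hno (a : G) a.2 ?_
  rw [Subgroup.orderOf_coe]
  exact orderOf_eq_prime (hA a ha) hne

/-- The normalizer of a subgroup of `P` with an element of order `p` is in `Γ_{P,1}(G)`. -/
theorem normalizer_le_core {p : ℕ} [Fact p.Prime] {P Q : Subgroup G} (hQP : Q ≤ P) {x : G}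
    (hxQ : x ∈ Q) (hx : orderOf x = p) :
    Subgroup.normalizer (Q : Set G) ≤ kGeneratedCore p 1 P :=
  le_iSup_of_le ⟨Q, hQP, not_pRankLE_zero hxQ hx⟩ le_rfl

theorem core_le_iff {p : ℕ} [Fact p.Prime] [Finite G] {P M : Subgroup G} :
    kGeneratedCore p 1 P ≤ M ↔
      ∀ Q : Subgroup G, Q ≤ P → (∃ x ∈ Q, orderOf x = p) → Subgroup.normalizer (Q : Set G) ≤ M := by
  constructor
  · rintro h Q hQ ⟨x, hx1, hx2⟩
    exact (normalizer_le_core hQ hx1 hx2).trans h
  · intro h
    exact iSup_le fun Q => h Q Q.2.1 (exists_orderOf_eq_of_not_pRankLE_zero Q.2.2)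

theorem normalizer_map_conj (Q : Subgroup G) (m : G) :
    (Subgroup.normalizer (Q : Set G)).map (MulAut.conj m).toMonoidHom =
      Subgroup.normalizer ((Q.map (MulAut.conj m).toMonoidHom : Subgroup G) : Set G) :=
  Subgroup.map_equiv_normalizer_eq Q (MulAut.conj m)

section SE

variable [Finite G] {p : ℕ} [hp : Fact p.Prime]

/-- The Sylow subgroup witnessing strong `p`-embedding lies in the subgroup. -/
theorem sylow_le_of_core_le {M : Subgroup G} (hdvd : p ∣ Nat.card G) {P : Sylow p G}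
    (h : kGeneratedCore p 1 (P : Subgroup G) ≤ M) : (P : Subgroup G) ≤ M := by
  obtain ⟨x, hx⟩ := exists_prime_orderOf_dvd_card' (G := ↥(P : Subgroup G)) p
    (P.dvd_card_of_dvd_card hdvd)
  refine (Subgroup.le_normalizer (H := (P : Subgroup G))).trans ?_
  exact (normalizer_le_core le_rfl x.2 (by rwa [Subgroup.orderOf_coe])).trans h

/-- In a strongly `p`-embedded subgroup `M`, nontrivial `p`-subgroups have normalizers inside `M`. -/
theorem normalizer_le_of_sE {M : Subgroup G} (hM : IsStronglyPEmbedded p M) {Q : Subgroup G}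
    (hQM : Q ≤ M) (hQp : IsPGroup p Q) (hQ : Q ≠ ⊥) :
    Subgroup.normalizer (Q : Set G) ≤ M := by
  obtain ⟨hdvd, -, P, hP⟩ := hM
  have hPM := sylow_le_of_core_le hdvd hP
  let PM : Sylow p ↥M := P.subtype hPM
  obtain ⟨R, hR⟩ := (hQp.comap_subtype (K := M)).exists_le_sylow
  obtain ⟨m, hm⟩ := MulAction.exists_smul_eq ↥M R PM
  have hconj : Q.map (MulAut.conj (m : G)).toMonoidHom ≤ (P : Subgroup G) := by
    rintro _ ⟨q, hq, rfl⟩
    have hqR : (⟨q, hQM hq⟩ : M) ∈ (R : Subgroup M) := hR (Subgroup.mem_subgroupOf.mpr hq)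
    have : m * ⟨q, hQM hq⟩ * m⁻¹ ∈ (PM : Subgroup M) := by
      rw [← hm]
      exact ⟨_, hqR, by simp [MulDistribMulAction.toMonoidEnd_apply]⟩
    simpa [PM, Subgroup.mem_subgroupOf] using this
  obtain ⟨x, hx1, hx2⟩ : ∃ x ∈ Q.map (MulAut.conj (m : G)).toMonoidHom, orderOf x = p := by
    have hne : Nontrivial ↥(Q.map (MulAut.conj (m : G)).toMonoidHom) := by
      rw [Subgroup.nontrivial_iff_ne_bot, Ne, Subgroup.map_eq_bot_iff_of_injective _
        (MulAut.conj (m : G)).injective]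
      exact hQ
    obtain ⟨n, hn, hc⟩ := (hQp.map (MulAut.conj (m : G)).toMonoidHom).nontrivial_iff_card.mp hne
    obtain ⟨x, hx⟩ := exists_prime_orderOf_dvd_card'
      (G := ↥(Q.map (MulAut.conj (m : G)).toMonoidHom)) p (hc ▸ dvd_pow_self p hn.ne')
    exact ⟨x, x.2, by rwa [Subgroup.orderOf_coe]⟩
  have h1 := (normalizer_le_core hconj hx1 hx2).trans hP
  rw [← normalizer_map_conj] at h1
  intro g hg
  have h2 : (m : G) * g * (m : G)⁻¹ ∈ M := h1 ⟨g, hg, rfl⟩
  have h3 := mul_mem (mul_mem (M.inv_mem m.2) h2) m.2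
  simpa [mul_assoc] using h3

/-- In a strongly `p`-embedded subgroup, elements of order `p` have centralizers inside it. -/
theorem centralizer_le_of_sE {M : Subgroup G} (hM : IsStronglyPEmbedded p M) {x : G}
    (hxM : x ∈ M) (hx : orderOf x = p) : Subgroup.centralizer ({x} : Set G) ≤ M := by
  refine le_trans ?_ (normalizer_le_of_sE hM (Q := Subgroup.zpowers x)
    (Subgroup.zpowers_le.mpr hxM) ?_ ?_)
  · rw [Subgroup.zpowers_eq_closure]
    exact (Subgroup.centralizer_closure ({x} : Set G)).ge.trans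
      (Subgroup.centralizer_le_normalizer _)
  · exact IsPGroup.of_card (n := 1) (by rw [Nat.card_zpowers, hx, pow_one])
  · rw [Ne, Subgroup.zpowers_eq_bot]
    rintro rfl
    rw [orderOf_one] at hx
    exact hp.out.ne_one hx.symm

end SE

end Cfsg.Agent.Lib.K41

namespace Cfsg.Agent.Lib.K41

open Cfsg

/-- If `O_{p'}(X) = 1`, the centre of a subnormal subgroup of `X` is a `p`-group. -/
theorem isPGroup_center_of_subnormal {X : Type*} [Group X] [Finite X] {p : ℕ} [hp : Fact p.Prime]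
    (hX : pPrimeCore p X = ⊥) {K : Subgroup X} (hK : K.IsSubnormal) :
    IsPGroup p ↥(Subgroup.center K) := by
  obtain ⟨n, hn⟩ : ∃ n, Nat.card ↥(Subgroup.center K) = p ^ n := by
    refine ⟨_, Nat.eq_prime_pow_of_unique_prime_dvd Nat.card_pos.ne' fun {q} hq hd => ?_⟩
    by_contra hne
    haveI : Fact q.Prime := ⟨hq⟩
    obtain ⟨z, hz⟩ := exists_prime_orderOf_dvd_card' (G := ↥(Subgroup.center K)) q hd
    haveI hN : (Subgroup.zpowers (z : K)).Normal := ⟨fun n hn g => by
      have : n ∈ Subgroup.center K := (Subgroup.zpowers_le.mpr z.2) hn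
      rw [Subgroup.mem_center_iff.mp this g, mul_inv_cancel_right]
      exact hn⟩
    have hsub : ((Subgroup.zpowers (z : K)).map K.subtype).IsSubnormal :=
      (Subgroup.Normal.isSubnormal hN).trans' hK
    have hqg : IsPGroup q ↥((Subgroup.zpowers (z : K)).map K.subtype) :=
      (IsPGroup.of_card (n := 1) (by rw [Nat.card_zpowers, Subgroup.orderOf_coe, hz, pow_one])).map _
    have h1 : ((z : K) : X) ∈ pCore q X :=
      Cfsg.Agent.Lib.Cores.IsSubnormal.le_pCore hsub hqg ⟨_, Subgroup.mem_zpowers _, rfl⟩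
    have h2 : pCore q X ≤ pPrimeCore p X := by
      refine Cfsg.Agent.Lib.Cores.le_pPrimeCore ?_
      obtain ⟨m, hm⟩ := IsPGroup.iff_card.1 (Cfsg.Agent.Lib.Cores.pCore_isPGroup (G := X) q)
      rw [hm]
      exact ((Nat.coprime_primes hq hp.out).2 hne).pow_left m
    have h3 := h2 h1
    rw [hX, Subgroup.mem_bot] at h3
    have h4 : orderOf ((z : K) : X) = q := by rw [Subgroup.orderOf_coe, Subgroup.orderOf_coe, hz]
    rw [h3, orderOf_one] at h4
    exact hq.ne_one h4.symm
  exact IsPGroup.of_card hn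

end Cfsg.Agent.Lib.K41
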