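import Cfsg.Agent.Lib.K41.Symplectic

/-!
A 2-group of symplectic type of exponent at most 4 has commutators of order at most 2, all central.
Consequence for the generalized Fitting subgroup of an involution centraliser, and the swap of an
involution with a conjugate in it.
-/

set_option autoImplicit false
set_option linter.all false

namespace Cfsg.Agent.Lib.K41.Symplectic

open Cfsg
open scoped commutatorElement

/-- The basic two-element computation. -/
theorem sq_comm_eq_one {T : Type*} [Group T] (h4 : ∀ t : T, t ^ 4 = 1) {x y c d : T}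
    (hc : c ∈ Subgroup.center T) (hc2 : c * c = 1) (hd : d ∈ Subgroup.center T) (hd2 : d * d = 1)
    (ha2 : ⁅x, y⁆ * ⁅x, y⁆ ∈ Subgroup.center T)
    (hx : x * ⁅x, y⁆ * x⁻¹ = c * ⁅x, y⁆) (hy : y * ⁅x, y⁆ * y⁻¹ = d * ⁅x, y⁆) :
    ⁅x, y⁆ * ⁅x, y⁆ = 1 := by
  set a := ⁅x, y⁆ with ha
  have hxy : x * y = a * y * x := by simp [ha, commutatorElement_def]
  have hya : y * a = d * a * y := mul_inv_eq_iff_eq_mul.mp hy
  have hxa : x * a = c * a * x := mul_inv_eq_iff_eq_mul.mp hx
  have hcc : ∀ t, c * t = t * c := fun t => (Subgroup.mem_center_iff.mp hc t).symm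
  have hdc : ∀ t, d * t = t * d := fun t => (Subgroup.mem_center_iff.mp hd t).symm
  have hac : ∀ t, a * a * t = t * (a * a) := fun t => (Subgroup.mem_center_iff.mp ha2 t).symm
  have a4 : a * a * (a * a) = 1 := by
    have := h4 a
    simpa [pow_succ, mul_assoc] using this
  have y4 : y * y * (y * y) = 1 := by
    have := h4 y
    simpa [pow_succ, mul_assoc] using this
  have x4 : x * x * (x * x) = 1 := by
    have := h4 x
    simpa [pow_succ, mul_assoc] using this
  have hx2a : x * x * a = a * (x * x) := by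
    calc x * x * a = x * (x * a) := mul_assoc _ _ _
      _ = x * (c * a * x) := by rw [hxa]
      _ = c * (x * a) * x := by simp only [← mul_assoc, hcc x]
      _ = c * c * (a * (x * x)) := by rw [hxa]; simp only [mul_assoc]
      _ = a * (x * x) := by rw [hc2, one_mul]
  have hy2a : y * y * a = a * (y * y) := by
    calc y * y * a = y * (y * a) := mul_assoc _ _ _
      _ = y * (d * a * y) := by rw [hya]
      _ = d * (y * a) * y := by simp only [← mul_assoc, hdc y]
      _ = d * d * (a * (y * y)) := by rw [hya]; simp only [mul_assoc]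
      _ = a * (y * y) := by rw [hd2, one_mul]
  have hx2y : x * x * y = c * (a * a) * (y * (x * x)) := by
    calc x * x * y = x * (x * y) := mul_assoc _ _ _
      _ = x * (a * y * x) := by rw [hxy]
      _ = x * a * y * x := by simp only [mul_assoc]
      _ = c * a * (x * y) * x := by rw [hxa]; simp only [mul_assoc]
      _ = _ := by rw [hxy]; simp only [mul_assoc]
  have hb : ∀ t, c * (a * a) * t = t * (c * (a * a)) := fun t => by
    rw [mul_assoc, hac, ← mul_assoc, hcc, mul_assoc]
  have hb2 : c * (a * a) * (c * (a * a)) = 1 := by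
    calc c * (a * a) * (c * (a * a)) = c * ((a * a) * c) * (a * a) := by simp only [mul_assoc]
      _ = c * (c * (a * a)) * (a * a) := by rw [← hcc (a * a)]
      _ = (c * c) * ((a * a) * (a * a)) := by simp only [mul_assoc]
      _ = 1 := by rw [hc2, a4, mul_one]
  have hx2y2 : x * x * (y * y) = y * y * (x * x) := by
    calc x * x * (y * y) = x * x * y * y := by simp only [mul_assoc]
      _ = c * (a * a) * (y * (x * x)) * y := by rw [hx2y]
      _ = c * (a * a) * y * (x * x * y) := by simp only [mul_assoc]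
      _ = c * (a * a) * y * (c * (a * a) * (y * (x * x))) := by rw [hx2y]
      _ = c * (a * a) * (y * (c * (a * a))) * (y * (x * x)) := by simp only [mul_assoc]
      _ = c * (a * a) * (c * (a * a) * y) * (y * (x * x)) := by rw [← hb y]
      _ = (c * (a * a) * (c * (a * a))) * (y * y * (x * x)) := by simp only [mul_assoc]
      _ = y * y * (x * x) := by rw [hb2, one_mul]
  have hsq : (y * x) * (y * x) = d * a * (y * y * (x * x)) := by
    calc (y * x) * (y * x) = y * (x * y) * x := by simp only [mul_assoc]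
      _ = y * (a * y * x) * x := by rw [hxy]
      _ = y * a * (y * (x * x)) := by simp only [mul_assoc]
      _ = _ := by rw [hya]; simp only [mul_assoc]
  have hw : y * y * (x * x) * (d * a) = d * a * (y * y * (x * x)) := by
    calc y * y * (x * x) * (d * a) = y * y * ((x * x) * d) * a := by simp only [mul_assoc]
      _ = y * y * (d * (x * x)) * a := by rw [← hdc (x * x)]
      _ = (y * y * d) * ((x * x) * a) := by simp only [mul_assoc]
      _ = (d * (y * y)) * (a * (x * x)) := by rw [← hdc (y * y), hx2a]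
      _ = d * ((y * y) * a) * (x * x) := by simp only [mul_assoc]
      _ = d * (a * (y * y)) * (x * x) := by rw [hy2a]
      _ = _ := by simp only [mul_assoc]
  have hxy2 : y * y * (x * x) * (y * y * (x * x)) = 1 := by
    calc y * y * (x * x) * (y * y * (x * x)) = y * y * (x * x * (y * y)) * (x * x) := by
          simp only [mul_assoc]
      _ = y * y * (y * y * (x * x)) * (x * x) := by rw [hx2y2]
      _ = (y * y * (y * y)) * (x * x * (x * x)) := by simp only [mul_assoc]
      _ = 1 := by rw [y4, x4, mul_one]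
  have h1 : (y * x) * (y * x) * ((y * x) * (y * x)) = 1 := by
    have := h4 (y * x)
    simpa [pow_succ, mul_assoc] using this
  rw [hsq] at h1
  calc a * a = d * d * (a * a) := by rw [hd2, one_mul]
    _ = d * (d * a) * a := by simp only [mul_assoc]
    _ = d * (a * d) * a := by rw [hdc a]
    _ = d * a * (d * a) * (y * y * (x * x) * (y * y * (x * x))) := by
        rw [hxy2, mul_one]; simp only [mul_assoc]
    _ = d * a * (d * a * (y * y * (x * x))) * (y * y * (x * x)) := by simp only [mul_assoc]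
    _ = d * a * (y * y * (x * x) * (d * a)) * (y * y * (x * x)) := by rw [hw]
    _ = d * a * (y * y * (x * x)) * (d * a * (y * y * (x * x))) := by simp only [mul_assoc]
    _ = 1 := h1

/-- In a 2-group of symplectic type of exponent at most 4 commutators are central. -/
theorem commElem_mem_center {T : Type*} [Group T] [Finite T] (hT : IsOfSymplecticType T)
    (h4 : ∀ t : T, t ^ 4 = 1) (x y : T) : ⁅x, y⁆ ∈ Subgroup.center T := by
  classical
  haveI : Group.IsNilpotent T := hT.1.isNilpotent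
  let L : ℕ → Subgroup T := fun n => (⊤ : Subgroup T).lowerCentralSeries n
  have hex : ∃ n, L n ≤ Subgroup.center T := by
    obtain ⟨n, hn⟩ := Subgroup.nilpotent_iff_lowerCentralSeries.mp ‹Group.IsNilpotent T›
    exact ⟨n, by show _ ≤ _; rw [show L n = ⊥ from hn]; exact bot_le⟩
  suffices hf : Nat.find hex ≤ 1 by
    have h1 : L 1 ≤ Subgroup.center T :=
      (Subgroup.lowerCentralSeries_antitone _ hf).trans (Nat.find_spec hex)
    exact h1 (Subgroup.commutator_mem_commutator (Subgroup.mem_top x) (Subgroup.mem_top y))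
  by_contra hgt
  obtain ⟨k, hk⟩ : ∃ k, Nat.find hex = k + 2 := ⟨Nat.find hex - 2, by omega⟩
  have hnot : ¬ L (k + 1) ≤ Subgroup.center T := Nat.find_min hex (by omega)
  have hsucc : L (k + 2) ≤ Subgroup.center T := hk ▸ Nat.find_spec hex
  have hcen : ∀ a ∈ L (k + 1), ∀ t : T, ⁅a, t⁆ ∈ L (k + 2) := fun a ha t =>
    Subgroup.commutator_mem_commutator ha (Subgroup.mem_top t)
  have hanti : L (k + 2) ≤ L (k + 1) := Subgroup.lowerCentralSeries_antitone _ (by omega)
  haveI hab : IsMulCommutative ↥(L (k + 1)) := by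
    refine ⟨⟨fun a b => Subtype.ext ?_⟩⟩
    have h1 : L 1 ≤ Subgroup.centralizer ({(a : T)} : Set T) := by
      show ⁅(⊤ : Subgroup T), ⊤⁆ ≤ _
      rw [Subgroup.commutator_le]
      intro p _ q _
      rw [Subgroup.mem_centralizer_singleton_iff]
      have hu := hsucc (hcen _ a.2 p)
      have hw := hsucc (hcen _ a.2 q)
      refine ((mul_inv_eq_iff_eq_mul).mp ?_).symm
      rw [conjugate_commutatorElement,
        show (a : T) * p * (a : T)⁻¹ = ⁅(a : T), p⁆ * p by simp [commutatorElement_def, mul_assoc],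
        show (a : T) * q * (a : T)⁻¹ = ⁅(a : T), q⁆ * q by simp [commutatorElement_def, mul_assoc]]
      generalize ⁅(a : T), p⁆ = u at hu ⊢
      generalize ⁅(a : T), q⁆ = w at hw ⊢
      have hu' : ∀ t, t * u = u * t := Subgroup.mem_center_iff.mp hu
      have hw' : ∀ t, t * w = w * t := Subgroup.mem_center_iff.mp hw
      calc ⁅u * p, w * q⁆ = u * p * (w * q) * (p⁻¹ * u⁻¹) * (q⁻¹ * w⁻¹) := by
            simp [commutatorElement_def]
        _ = u * (p * w) * q * p⁻¹ * (u⁻¹ * q⁻¹) * w⁻¹ := by simp only [mul_assoc]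
        _ = u * (w * p) * q * p⁻¹ * (q⁻¹ * u⁻¹) * w⁻¹ := by
            rw [hw', (Commute.inv_left (hu' q⁻¹).symm).eq]
        _ = (u * w) * (p * q * p⁻¹ * q⁻¹) * (u⁻¹ * w⁻¹) := by simp only [mul_assoc]
        _ = (p * q * p⁻¹ * q⁻¹) * ((u * w) * (u⁻¹ * w⁻¹)) := by
            rw [← Subgroup.mem_center_iff.mp (mul_mem hu hw) (p * q * p⁻¹ * q⁻¹)]
            simp only [mul_assoc]
        _ = ⁅p, q⁆ := by
            rw [show u⁻¹ * w⁻¹ = (w * u)⁻¹ from (mul_inv_rev w u).symm, hw' u, mul_inv_cancel]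
            simp [commutatorElement_def, mul_assoc]
    have := Subgroup.mem_centralizer_singleton_iff.mp
      (h1 (Subgroup.lowerCentralSeries_antitone _ (show 1 ≤ k + 1 by omega) b.2))
    exact this.symm
  haveI hchar : (L (k + 1)).Characteristic := by
    rw [Subgroup.characteristic_iff_map_eq]
    intro e
    show ((⊤ : Subgroup T).lowerCentralSeries (k + 1)).map e.toMonoidHom = _
    rw [Subgroup.map_lowerCentralSeries, Subgroup.map_top_of_surjective _ e.surjective]
  haveI := hT.2 (L (k + 1)) hchar hab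
  have hcent2 : ∀ a ∈ L (k + 1), a * a = 1 → a ∈ Subgroup.center T := by
    intro a ha ha2
    by_cases ha1 : a = 1
    · rw [ha1]; exact one_mem _
    rw [Subgroup.mem_center_iff]
    intro t
    have ho : orderOf a = 2 := orderOf_eq_prime (by rwa [pow_two]) ha1
    have hm : t * a * t⁻¹ ∈ L (k + 1) := (inferInstance : (L (k + 1)).Normal).conj_mem a ha t
    have := invol_unique (H := ↥(L (k + 1))) (a := ⟨a, ha⟩) (b := ⟨_, hm⟩)
      (by rw [Subgroup.orderOf_mk, ho])
      (by rw [Subgroup.orderOf_mk]; exact (orderOf_eq_prime (by rw [pow_two]; simp [ha2]) (by simpa using ha1)))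
    exact (eq_mul_inv_iff_mul_eq.mp (congrArg Subtype.val this)).symm
  have hsq : ∀ a ∈ L (k + 1), a * a ∈ Subgroup.center T := fun a ha =>
    hcent2 _ (mul_mem ha ha) (by have := h4 a; simpa [pow_succ, mul_assoc] using this)
  have hact : ∀ a ∈ L (k + 1), ∀ t : T, ⁅t, a⁆ ∈ Subgroup.center T ∧ ⁅t, a⁆ * ⁅t, a⁆ = 1 := by
    intro a ha t
    have hc : ⁅t, a⁆ ∈ L (k + 2) := by
      rw [← commutatorElement_inv]; exact inv_mem (hcen a ha t)
    refine ⟨hsucc hc, ?_⟩
    have hz := Subgroup.mem_center_iff.mp (hsq a ha) t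
    have h1 : (t * a * t⁻¹) * (t * a * t⁻¹) = a * a := by
      calc (t * a * t⁻¹) * (t * a * t⁻¹) = t * (a * a) * t⁻¹ := by simp [mul_assoc]
        _ = a * a := by rw [hz, mul_inv_cancel_right]
    rw [show t * a * t⁻¹ = ⁅t, a⁆ * a by simp [commutatorElement_def, mul_assoc]] at h1
    have hc' := Subgroup.mem_center_iff.mp (hsucc hc)
    rw [show ⁅t, a⁆ * a * (⁅t, a⁆ * a) = ⁅t, a⁆ * (a * ⁅t, a⁆) * a by simp only [mul_assoc],
      hc' a, show ⁅t, a⁆ * (⁅t, a⁆ * a) * a = (⁅t, a⁆ * ⁅t, a⁆) * (a * a) by simp only [mul_assoc]] at h1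
    exact mul_eq_right.mp h1
  apply hnot
  show ⁅L k, (⊤ : Subgroup T)⁆ ≤ Subgroup.center T
  rw [Subgroup.commutator_le]
  intro p hp q _
  have ha : ⁅p, q⁆ ∈ L (k + 1) := Subgroup.commutator_mem_commutator hp (Subgroup.mem_top q)
  obtain ⟨hc, hc2⟩ := hact _ ha p
  obtain ⟨hd, hd2⟩ := hact _ ha q
  refine hcent2 _ ha (sq_comm_eq_one h4 hc hc2 hd hd2 (hsq _ ha) ?_ ?_) <;>
    simp [commutatorElement_def, mul_assoc]

/-- Commutators of `F*(C(z))` lie in `⟨z⟩`. -/
theorem commElem_Qz {G : Type*} [Group G] [Finite G] {z : G} (hz : orderOf z = 2)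
    (hQ : IsOfSymplecticType ↥(generalizedFittingSubgroup ↥(Subgroup.centralizer ({z} : Set G))))
    (h4 : ∀ q ∈ Qz z, q ^ 4 = 1) {x y : G} (hx : x ∈ Qz z) (hy : y ∈ Qz z) :
    ⁅x, y⁆ = 1 ∨ ⁅x, y⁆ = z := by
  obtain ⟨c, hc, rfl⟩ := hx
  obtain ⟨d, hd, rfl⟩ := hy
  set F := generalizedFittingSubgroup ↥(Subgroup.centralizer ({z} : Set G))
  have h4' : ∀ t : ↥F, t ^ 4 = 1 := fun t => Subtype.ext (Subtype.ext (by
    simpa using h4 _ ⟨t, t.2, rfl⟩))
  let a : ↥F := ⟨c, hc⟩
  let b : ↥F := ⟨d, hd⟩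
  have hcen := commElem_mem_center hQ h4' a b
  have hsq : ⁅a, b⁆ * ⁅a, b⁆ = 1 := by
    have hcc := Subgroup.mem_center_iff.mp hcen
    refine sq_comm_eq_one h4' (one_mem _) (one_mul 1) (one_mem _) (one_mul 1)
      (mul_mem hcen hcen) ?_ ?_ <;> rw [hcc, mul_inv_cancel_right, one_mul]
  by_cases hne : ⁅a, b⁆ = 1
  · left
    exact congrArg (fun t : ↥F => ((t : ↥(Subgroup.centralizer ({z} : Set G))) : G)) hne
  · right
    refine eq_of_central hz hQ ⟨((⁅a, b⁆ : ↥F) : ↥(Subgroup.centralizer ({z} : Set G))),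
      (⁅a, b⁆ : ↥F).2, rfl⟩ ?_ ?_
    · have h2 : orderOf ⁅a, b⁆ = 2 := orderOf_eq_prime (by rwa [pow_two]) hne
      rw [← h2, ← Subgroup.orderOf_coe, ← Subgroup.orderOf_coe]
      rfl
    · rintro q ⟨e, he, rfl⟩
      exact congrArg (fun t : ↥F => ((t : ↥(Subgroup.centralizer ({z} : Set G))) : G))
        (Subgroup.mem_center_iff.mp hcen ⟨e, he⟩)

end Cfsg.Agent.Lib.K41.Symplectic
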