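import Cfsg.Agent.Lib.LargeExtraspecial.Basic

/-!
In an extraspecial group `|C_P(N)| |N| = 2 |P|` for `z ∈ N ≤ P`.
-/

set_option autoImplicit false
set_option linter.all false

namespace Cfsg.Agent.Lib.K41.ESCentralizer

open Cfsg.Agent.Lib.LargeExtraspecial.Basic
open scoped Pointwise

variable {G : Type*} [Group G] [Finite G] {P : Subgroup G} {z : G} (h : ES P z)
include h

/-- Adjoining one element halves the centraliser at most. -/
theorem centralizer_step {N : Subgroup G} (hN : N ≤ P) {q : G} (hq : q ∈ P) :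
    Nat.card ↥(P ⊓ Subgroup.centralizer (N : Set G) : Subgroup G) ≤
      2 * Nat.card ↥(P ⊓ Subgroup.centralizer ((N ⊔ Subgroup.zpowers q : Subgroup G) : Set G) : Subgroup G) := by
  set C := P ⊓ Subgroup.centralizer (N : Set G)
  let φ : Additive ↥C →+ ZMod 2 := AddMonoidHom.mk' (fun x => chi ((Additive.toMul x : ↥C) : G) q)
    (fun x y => h.chi_mul_left (Additive.toMul x : ↥C).2.1 (Additive.toMul y : ↥C).2.1 hq)
  let ψ : ↥C →* Multiplicative (ZMod 2) := AddMonoidHom.toMultiplicativeRight φ
  have hker : ψ.ker.map C.subtype ≤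
      P ⊓ Subgroup.centralizer ((N ⊔ Subgroup.zpowers q : Subgroup G) : Set G) := by
    rintro _ ⟨x, hx, rfl⟩
    have hc : Commute (x : G) q := chi_eq_zero.mp (Multiplicative.ofAdd.injective hx)
    refine Subgroup.mem_inf.mpr ⟨x.2.1, ?_⟩
    have hle : N ⊔ Subgroup.zpowers q ≤ Subgroup.centralizer ({(x : G)} : Set G) := sup_le
      (fun n hn => Subgroup.mem_centralizer_singleton_iff.mpr (x.2.2 n hn))
      (Subgroup.zpowers_le.mpr (Subgroup.mem_centralizer_singleton_iff.mpr hc.eq.symm))
    exact fun y hy => Subgroup.mem_centralizer_singleton_iff.mp (hle hy)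
  have h1 := Subgroup.card_eq_card_quotient_mul_card_subgroup ψ.ker
  rw [Nat.card_congr (QuotientGroup.quotientKerEquivRange ψ).toEquiv] at h1
  rw [h1]
  refine Nat.mul_le_mul ?_ ?_
  · refine (Subgroup.card_le_card_group ψ.range).trans ?_
    simp
  · rw [← Subgroup.card_map_of_injective (K := ψ.ker) C.subtype_injective]
    exact Subgroup.card_le_of_le hker

/-- Adjoining one element to a subgroup containing `z` doubles the order. -/
theorem card_adjoin {N : Subgroup G} (hN : N ≤ P) (hz : z ∈ N) {q : G} (hq : q ∈ P) (hqN : q ∉ N) :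
    Nat.card ↥(N ⊔ Subgroup.zpowers q : Subgroup G) = 2 * Nat.card ↥N := by
  have hn : Subgroup.zpowers q ≤ Subgroup.normalizer (N : Set G) := by
    rw [Subgroup.zpowers_le, Subgroup.mem_normalizer_iff]
    intro n
    constructor
    · intro hn'
      rcases h.conj q hq n (hN hn') with h1 | h1 <;> rw [h1]
      exacts [hn', N.mul_mem hn' hz]
    · intro hn'
      rcases h.conj q⁻¹ (P.inv_mem hq) _ (hN hn') with h1 | h1 <;>
        simp only [inv_inv, mul_assoc, inv_mul_cancel_left, inv_mul_cancel, mul_one] at h1 <;> rw [h1]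
      · simpa [mul_assoc] using hn'
      · simpa [mul_assoc] using N.mul_mem hn' hz
  have hq2 : q * q ∈ N := by
    rcases h.sq_cases hq with h1 | h1 <;> rw [h1]
    exacts [one_mem _, hz]
  refine le_antisymm ?_ ?_
  · let f : Fin 2 × ↥N → ↥(N ⊔ Subgroup.zpowers q : Subgroup G) := fun p =>
      ⟨(p.2 : G) * q ^ (p.1 : ℕ),
        mul_mem (Subgroup.mem_sup_left p.2.2) (pow_mem (Subgroup.mem_sup_right (Subgroup.mem_zpowers q)) _)⟩
    have hf : Function.Surjective f := by
      rintro ⟨x, hx⟩
      have hx' : x ∈ (N : Set G) * (Subgroup.zpowers q : Set G) := by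
        rw [← Subgroup.coe_mul_of_right_le_normalizer_left N _ hn]; exact hx
      obtain ⟨n, hn', _, ⟨k, rfl⟩, rfl⟩ := hx'
      have hk2 : ∀ m : ℤ, q ^ (2 * m) ∈ N := fun m => by
        rw [zpow_mul, show (2 : ℤ) = ((2 : ℕ) : ℤ) from rfl, zpow_natCast, pow_two]
        exact N.zpow_mem hq2 m
      obtain ⟨m, rfl | rfl⟩ := Int.even_or_odd' k
      · exact ⟨(0, ⟨n * q ^ (2 * m), N.mul_mem hn' (hk2 m)⟩), Subtype.ext (by simp [f])⟩
      · exact ⟨(1, ⟨n * q ^ (2 * m), N.mul_mem hn' (hk2 m)⟩),
          Subtype.ext (by simp [f, zpow_add, mul_assoc])⟩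
    have := Nat.card_le_card_of_surjective f hf
    rwa [Nat.card_prod, Nat.card_fin] at this
  · obtain ⟨k, hk⟩ := Subgroup.card_dvd_of_le (le_sup_left : N ≤ N ⊔ Subgroup.zpowers q)
    have hk2 : 2 ≤ k := by
      rcases k with _ | _ | k
      · exact absurd hk (by rw [mul_zero]; exact Nat.card_pos.ne')
      · exfalso
        rw [zero_add, mul_one] at hk
        exact hqN ((Subgroup.eq_of_le_of_card_ge (le_sup_left : N ≤ N ⊔ Subgroup.zpowers q) hk.le).ge
          (Subgroup.mem_sup_right (Subgroup.mem_zpowers q)))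
      · omega
    rw [hk, mul_comm 2]
    exact Nat.mul_le_mul_left _ hk2

theorem card_zpowers_z : Nat.card ↥(Subgroup.zpowers z) = 2 := by
  rw [Nat.card_zpowers]
  exact orderOf_eq_prime (by rw [pow_two]; exact h.sq) h.ne

/-- `|C_P(N)| |N| = 2 |P|`. -/
theorem card_centralizer {N : Subgroup G} (hN : N ≤ P) (hz : z ∈ N) :
    Nat.card ↥(P ⊓ Subgroup.centralizer (N : Set G) : Subgroup G) * Nat.card ↥N =
      2 * Nat.card ↥P := by
  have hle : ∀ m : ℕ, ∀ N : Subgroup G, N ≤ P → z ∈ N → Nat.card ↥P - Nat.card ↥N = m →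
      Nat.card ↥(P ⊓ Subgroup.centralizer (N : Set G) : Subgroup G) * Nat.card ↥N ≤ 2 * Nat.card ↥P := by
    intro m
    induction m using Nat.strong_induction_on with
    | _ m ih =>
      intro N hN hz hm
      by_cases hPN : P ≤ N
      · have he : N = P := le_antisymm hN hPN
        subst he
        refine Nat.mul_le_mul_right _ ?_
        rw [← card_zpowers_z h]
        refine Subgroup.card_le_of_le fun x hx => ?_
        rcases h.center x hx.1 (fun p hp => hx.2 p hp) with h1 | h1 <;> rw [h1]
        exacts [one_mem _, Subgroup.mem_zpowers z]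
      · obtain ⟨q, hq, hqN⟩ := SetLike.not_le_iff_exists.mp hPN
        have hc := card_adjoin h hN hz hq hqN
        have hle' : N ⊔ Subgroup.zpowers q ≤ P := sup_le hN (Subgroup.zpowers_le.mpr hq)
        have h1 := Subgroup.card_le_of_le hle'
        have h2 : 0 < Nat.card ↥N := Nat.card_pos
        have h3 := ih _ (by omega) _ hle' (Subgroup.mem_sup_left hz) rfl
        have h4 := centralizer_step h hN hq
        rw [hc] at h3
        calc _ ≤ 2 * Nat.card ↥(P ⊓ Subgroup.centralizer ((N ⊔ Subgroup.zpowers q : Subgroup G) : Set G) : Subgroup G) * Nat.card ↥N :=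
              Nat.mul_le_mul_right _ h4
          _ ≤ _ := by rw [mul_comm 2, mul_assoc]; exact h3
  refine le_antisymm (hle _ N hN hz rfl) ?_
  have hge : ∀ m : ℕ, ∀ N : Subgroup G, N ≤ P → z ∈ N → Nat.card ↥N ≤ m →
      2 * Nat.card ↥P ≤ Nat.card ↥(P ⊓ Subgroup.centralizer (N : Set G) : Subgroup G) * Nat.card ↥N := by
    intro m
    induction m using Nat.strong_induction_on with
    | _ m ih =>
      intro N hN hz hm
      classical
      have hzN : Subgroup.zpowers z ≤ N := Subgroup.zpowers_le.mpr hz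
      by_cases hNz : N ≤ Subgroup.zpowers z
      · have he : N = Subgroup.zpowers z := le_antisymm hNz hzN
        subst he
        rw [card_zpowers_z h, mul_comm]
        refine Nat.mul_le_mul_right _ (Subgroup.card_le_of_le (le_inf le_rfl fun x hx y hy => ?_))
        obtain ⟨k, rfl⟩ := hy
        exact ((h.comm x hx).zpow_right k).eq.symm
      · -- a maximal proper subgroup of `N` through `z`
        obtain ⟨M, hM, hmax⟩ := (Set.toFinite {M : Subgroup G | z ∈ M ∧ M < N}).exists_maximal
          ⟨Subgroup.zpowers z, Subgroup.mem_zpowers z, lt_of_le_of_ne hzN (fun he => hNz he.ge)⟩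
        obtain ⟨q, hq, hqM⟩ := SetLike.exists_of_lt hM.2
        have hMP := hM.2.le.trans hN
        have hsup : M ⊔ Subgroup.zpowers q = N := by
          by_contra hne
          have hlt : M ⊔ Subgroup.zpowers q < N :=
            lt_of_le_of_ne (sup_le hM.2.le (Subgroup.zpowers_le.mpr hq)) hne
          exact hqM (hmax ⟨Subgroup.mem_sup_left hM.1, hlt⟩ le_sup_left
            (Subgroup.mem_sup_right (Subgroup.mem_zpowers q)))
        have hc := card_adjoin h hMP hM.1 (hN hq) hqM
        have h4 := centralizer_step h hMP (hN hq)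
        rw [hsup] at hc h4
        have h2 : 0 < Nat.card ↥M := Nat.card_pos
        have h3 := ih _ (show Nat.card ↥M < m by omega) M hMP hM.1 le_rfl
        calc 2 * Nat.card ↥P ≤ _ := h3
          _ ≤ 2 * Nat.card ↥(P ⊓ Subgroup.centralizer (N : Set G) : Subgroup G) * Nat.card ↥M :=
              Nat.mul_le_mul_right _ h4
          _ = _ := by rw [hc]; ring
  exact hge _ N hN hz le_rfl

end Cfsg.Agent.Lib.K41.ESCentralizer
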