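import Mathlib

/-!
# A finite Jordan division set of endomorphisms in characteristic two is a field

`A` is an additive group of endomorphisms of a finite elementary abelian 2-group, containing `1`,
such that every nonzero element has its inverse in `A`. Then `A` is commutative and closed under
multiplication.

The proof: take a maximal field `K` inside `A`; decompose along the automorphisms `σ` of `K`
(`e x = x (σ e)`); a nonzero component with `σ ≠ 1` gives one with `σ` of odd order, and then a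
nonzero element of `A` killing a nonzero vector.
-/

set_option autoImplicit false
set_option linter.all false

namespace Cfsg.Agent.Lib.K41.JordanField

/-! ### Semilinear fixed vectors and norms -/

section Semilinear

variable {K : Type*} [Field K] [Finite K] {W : Type*} [AddCommGroup W] [Module K W]

omit [Finite K] in
theorem iterate_smul (ρ : RingAut K) (T : W →+ W) (hT : ∀ (c : K) (w : W), T (c • w) = ρ c • T w)
    (i : ℕ) (c : K) (w : W) : T^[i] (c • w) = (ρ ^ i) c • T^[i] w := by
  induction i with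
  | zero => simp
  | succ i ih =>
    rw [Function.iterate_succ_apply', ih, hT, Function.iterate_succ_apply', pow_succ']
    rfl

omit [Finite K] in
/-- Galois descent: a semilinear map with `T^d w = w` for some `w ≠ 0` has a nonzero fixed vector. -/
theorem exists_fixed (ρ : RingAut K) {d : ℕ} (hd : 0 < d) (hord : orderOf ρ = d)
    (T : W →+ W) (hT : ∀ (c : K) (w : W), T (c • w) = ρ c • T w)
    {w : W} (hw : w ≠ 0) (hfix : T^[d] w = w) : ∃ v : W, v ≠ 0 ∧ T v = v := by
  by_contra hcon
  simp only [not_exists, not_and] at hcon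
  have hzero : ∀ l : K, ∑ i : Fin d, (ρ ^ (i : ℕ)) l • T^[(i : ℕ)] w = 0 := by
    intro l
    by_contra hne
    refine hcon _ hne ?_
    have h1 : ∀ i : Fin d, (ρ ^ (i : ℕ)) l • T^[(i : ℕ)] w = T^[(i : ℕ)] (l • w) := fun i =>
      (iterate_smul ρ T hT _ l w).symm
    simp only [h1, map_sum, ← Function.iterate_succ_apply' (⇑T)]
    have hlast : T^[d] (l • w) = l • w := by
      rw [iterate_smul ρ T hT, hfix, ← hord, pow_orderOf_eq_one]
      rfl
    have hs := Finset.sum_range_succ (fun i => T^[i] (l • w)) d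
    have hs' := Finset.sum_range_succ' (fun i => T^[i] (l • w)) d
    simp only [Function.iterate_zero, id_eq] at hs'
    rw [hs, hlast, add_left_inj] at hs'
    rw [Fin.sum_univ_eq_sum_range (fun i => T^[i + 1] (l • w)),
      Fin.sum_univ_eq_sum_range (fun i => T^[i] (l • w))]
    exact hs'.symm
  refine hw ?_
  rw [← Module.forall_dual_apply_eq_zero_iff K w]
  intro φ
  let f : Fin d → (K →* K) := fun i => ((ρ ^ (i : ℕ) : RingAut K) : K ≃+* K).toMonoidHom
  have hinj : Function.Injective f := by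
    intro i j hij
    have h : ρ ^ (i : ℕ) = ρ ^ (j : ℕ) := by
      apply RingEquiv.ext
      intro x
      exact DFunLike.congr_fun hij x
    exact Fin.ext (pow_injOn_Iio_orderOf (by simp [hord]) (by simp [hord]) h)
  have hli := (linearIndependent_monoidHom K K).comp f hinj
  rw [Fintype.linearIndependent_iff] at hli
  have := hli (fun i => φ (T^[(i : ℕ)] w)) (by
    funext l
    have h := congrArg φ (hzero l)
    simp only [map_sum, map_smul, smul_eq_mul, map_zero] at h
    simp only [Finset.sum_apply, Pi.smul_apply, Function.comp_apply, smul_eq_mul, Pi.zero_apply]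
    refine Eq.trans (Finset.sum_congr rfl fun i _ => ?_) h
    exact mul_comm _ _) ⟨0, hd⟩
  simpa using this

/-- The norm onto the fixed field of an automorphism of a finite field is surjective. -/
theorem norm_surjective (ρ : RingAut K) {d : ℕ} (hord : orderOf ρ = d) {r : K} (hr : r ≠ 0)
    (hfix : ρ r = r) : ∃ γ : K, γ ≠ 0 ∧ ∏ i ∈ Finset.range d, (ρ ^ i) γ = r := by
  classical
  have hd : 0 < d := by
    rw [← hord]
    haveI : Finite (RingAut K) := Finite.of_injective _ DFunLike.coe_injective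
    exact orderOf_pos ρ
  let ρu : Kˣ →* Kˣ := Units.map (ρ : K ≃+* K).toMonoidHom
  let n : Kˣ →* Kˣ := ∏ i ∈ Finset.range d, Units.map ((ρ ^ i : RingAut K) : K ≃+* K).toMonoidHom
  let ψ : Kˣ →* Kˣ := MonoidHom.id Kˣ / ρu
  have hn : ∀ γ : Kˣ, ((n γ : Kˣ) : K) = ∏ i ∈ Finset.range d, (ρ ^ i) (γ : K) := by
    intro γ
    simp [n, MonoidHom.finsetProd_apply, Units.coe_prod]
  have hker : n.ker ≤ ψ.range := by
    intro γ hγ
    let T : K →+ K := (AddMonoidHom.mulLeft (γ : K)).comp (ρ : K ≃+* K).toAddMonoidHom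
    have hT : ∀ c w : K, T (c • w) = ρ c • T w := by
      intro c w
      simp [T, mul_left_comm]
    have hit : ∀ m : ℕ, T^[m] 1 = ∏ i ∈ Finset.range m, (ρ ^ i) (γ : K) := by
      intro m
      induction m with
      | zero => simp
      | succ m ih =>
        rw [Function.iterate_succ_apply', ih, Finset.prod_range_succ', mul_comm _ ((ρ ^ 0) (γ : K))]
        simp only [T, AddMonoidHom.coe_comp, AddMonoidHom.coe_mulLeft, Function.comp_apply,
          pow_zero]
        show (γ : K) * ρ (∏ i ∈ Finset.range m, (ρ ^ i) (γ : K)) = _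
        rw [map_prod]
        congr 1
        refine Finset.prod_congr rfl fun i _ => ?_
        rw [pow_succ']
        rfl
    have h1 : T^[d] 1 = 1 := by
      rw [hit d, ← hn, MonoidHom.mem_ker.mp hγ, Units.val_one]
    obtain ⟨v, hv0, hv⟩ := exists_fixed ρ hd hord T hT one_ne_zero h1
    refine ⟨Units.mk0 v hv0, ?_⟩
    apply Units.ext
    have hv' : (γ : K) * ρ v = v := hv
    have hρv : ρ v ≠ 0 := by simp [hv0]
    simp only [ψ, ρu, MonoidHom.div_apply, MonoidHom.id_apply, Units.val_div_eq_div_val]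
    rw [div_eq_iff (by simpa using hv0)]
    exact hv'.symm
  have hrange : n.range ≤ ψ.ker := by
    rintro _ ⟨γ, rfl⟩
    rw [MonoidHom.mem_ker]
    simp only [ψ, ρu, MonoidHom.div_apply, MonoidHom.id_apply, div_eq_one]
    apply Units.ext
    show ((n γ : Kˣ) : K) = ρ ((n γ : Kˣ) : K)
    rw [hn, map_prod]
    have hs := Finset.prod_range_succ (fun i => (ρ ^ i) (γ : K)) d
    have hs' := Finset.prod_range_succ' (fun i => (ρ ^ i) (γ : K)) d
    have hlast : (ρ ^ d) (γ : K) = (γ : K) := by rw [← hord, pow_orderOf_eq_one]; rfl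
    simp only [pow_zero] at hs'
    rw [hs, hlast] at hs'
    have h1 : (1 : RingAut K) (γ : K) = γ := rfl
    rw [h1] at hs'
    refine (mul_right_cancel₀ γ.ne_zero hs').trans ?_
    refine Finset.prod_congr rfl fun i _ => ?_
    rw [pow_succ']
    rfl
  have e1 := Subgroup.card_mul_index n.ker
  have e2 := Subgroup.card_mul_index ψ.ker
  rw [Subgroup.index_ker] at e1 e2
  have e3 := Subgroup.card_le_of_le hker
  have e4 : Nat.card ψ.ker ≤ Nat.card n.range := by
    by_contra h
    have h5 : 0 < Nat.card ψ.range := Nat.card_pos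
    have h6 := Nat.mul_lt_mul_of_le_of_lt e3 (not_le.mp h) h5
    rw [e1, mul_comm, e2] at h6
    exact lt_irrefl _ h6
  have heq : n.range = ψ.ker := Subgroup.eq_of_le_of_card_ge hrange e4
  have hmem : Units.mk0 r hr ∈ ψ.ker := by
    rw [MonoidHom.mem_ker]
    simp only [ψ, ρu, MonoidHom.div_apply, MonoidHom.id_apply, div_eq_one]
    exact Units.ext hfix.symm
  rw [← heq] at hmem
  obtain ⟨γ, hγ⟩ := hmem
  exact ⟨γ, γ.ne_zero, by rw [← hn, hγ, Units.val_mk0]⟩

/-- An eigenvector for a semilinear map some power of which is a fixed scalar on `w`. -/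
theorem exists_eigen (ρ : RingAut K) {d : ℕ} (hd : 0 < d) (hord : orderOf ρ = d) (y : W →+ W)
    (hy : ∀ (c : K) (w : W), y (c • w) = ρ c • y w) {r : K} (hr : r ≠ 0) (hrf : ρ r = r) {w : W}
    (hw : w ≠ 0) (hyw : y^[d] w = r • w) : ∃ v : W, v ≠ 0 ∧ ∃ γ : K, γ ≠ 0 ∧ y v = γ • v := by
  obtain ⟨γ, hγ0, hγ⟩ := norm_surjective ρ hord hr hrf
  let T : W →+ W := (DistribSMul.toAddMonoidHom W γ⁻¹).comp y
  have hT : ∀ (c : K) (u : W), T (c • u) = ρ c • T u := by
    intro c u
    simp only [T, AddMonoidHom.coe_comp, Function.comp_apply, DistribSMul.toAddMonoidHom_apply, hy]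
    exact smul_comm _ _ _
  have hit : ∀ m : ℕ, T^[m] w = (∏ i ∈ Finset.range m, (ρ ^ i) γ⁻¹) • y^[m] w := by
    intro m
    induction m with
    | zero => simp
    | succ m ih =>
      rw [Function.iterate_succ_apply', ih, Function.iterate_succ_apply', Finset.prod_range_succ']
      simp only [T, AddMonoidHom.coe_comp, Function.comp_apply, DistribSMul.toAddMonoidHom_apply,
        hy, smul_smul, pow_zero, map_prod]
      congr 1
      rw [mul_comm]
      congr 1
      refine Finset.prod_congr rfl fun i _ => ?_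
      rw [pow_succ']
      rfl
  obtain ⟨v, hv0, hv⟩ := exists_fixed ρ hd hord T hT hw (by
    rw [hit, hyw, smul_smul]
    simp only [map_inv₀, Finset.prod_inv_distrib, hγ, inv_mul_cancel₀ hr, one_smul])
  refine ⟨v, hv0, γ, hγ0, ?_⟩
  have h : γ⁻¹ • y v = v := hv
  calc y v = γ • (γ⁻¹ • y v) := by rw [smul_smul, mul_inv_cancel₀ hγ0, one_smul]
    _ = γ • v := by rw [h]

end Semilinear

/-! ### Basic closure properties of `A` -/

variable {V : Type*} [AddCommGroup V]

/-- The hypotheses on the additive group of endomorphisms. -/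
structure IsJordanSet (A : AddSubgroup (AddMonoid.End V)) : Prop where
  two : ∀ v : V, v + v = 0
  one_mem : (1 : AddMonoid.End V) ∈ A
  inv : ∀ a ∈ A, a ≠ 0 → ∃ b ∈ A, a * b = 1 ∧ b * a = 1

namespace IsJordanSet

variable {A : AddSubgroup (AddMonoid.End V)} (hA : IsJordanSet A)
include hA

theorem add_self (x : AddMonoid.End V) : x + x = 0 := AddMonoidHom.ext fun v => hA.two (x v)

theorem eq_of_add {x y : AddMonoid.End V} (h : x + y = 0) : x = y := by
  have h1 := congrArg (· + y) h
  simp only [add_assoc, hA.add_self y, add_zero, zero_add] at h1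
  exact h1

theorem add_cancel (x y : AddMonoid.End V) : x + (x + y) = y := by
  rw [← add_assoc, hA.add_self, zero_add]

theorem inj {a : AddMonoid.End V} (ha : a ∈ A) (h0 : a ≠ 0) {v : V} (hv : a v = 0) : v = 0 := by
  obtain ⟨b, -, -, hba⟩ := hA.inv a ha h0
  have := DFunLike.congr_fun hba v
  have h2 : b (a v) = v := this
  rw [hv, map_zero] at h2
  exact h2.symm

theorem eq_zero_of_mul {a : AddMonoid.End V} (ha : a ∈ A) {x : AddMonoid.End V} (h : a * x = 0)
    (hx : x ≠ 0) : a = 0 := by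
  by_contra h0
  obtain ⟨b, -, -, hba⟩ := hA.inv a ha h0
  exact hx (by rw [← one_mul x, ← hba, mul_assoc, h, mul_zero])

theorem aba_mem {a b : AddMonoid.End V} (ha : a ∈ A) (hb : b ∈ A) : a * b * a ∈ A := by
  by_cases ha0 : a = 0
  · simpa [ha0] using A.zero_mem
  by_cases hb0 : b = 0
  · simpa [hb0] using A.zero_mem
  obtain ⟨a', ha', haa, ha'a⟩ := hA.inv a ha ha0
  obtain ⟨b', hb', hbb, hb'b⟩ := hA.inv b hb hb0
  by_cases hs : b' + a = 0
  · rw [← hA.eq_of_add hs, hb'b, one_mul]
    exact hb'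
  obtain ⟨s', hs', -, hs's⟩ := hA.inv (b' + a) (A.add_mem hb' ha) hs
  have key : (a' + s') * (a + a * b * a) = 1 := by
    have h1 : a + a * b * a = (b' + a) * (b * a) := by
      rw [add_mul, ← mul_assoc b', hb'b, one_mul, mul_assoc a b a]
    have h2 : a' * (a + a * b * a) = 1 + b * a := by
      rw [mul_add, ha'a, ← mul_assoc a', ← mul_assoc a', ha'a, one_mul]
    rw [add_mul, h2, h1, ← mul_assoc s', hs's, one_mul, add_assoc, hA.add_self, add_zero]
  have ht : a' + s' ≠ 0 := by
    intro h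
    rw [h, zero_mul] at key
    exact ha0 (by rw [← one_mul a, ← key, zero_mul])
  obtain ⟨t', ht', -, ht't⟩ := hA.inv _ (A.add_mem ha' hs') ht
  have e : t' = a + a * b * a := by
    calc t' = t' * ((a' + s') * (a + a * b * a)) := by rw [key, mul_one]
      _ = a + a * b * a := by rw [← mul_assoc, ht't, one_mul]
  have := A.add_mem ha ht'
  rwa [e, hA.add_cancel] at this

theorem sq_mem {a : AddMonoid.End V} (ha : a ∈ A) : a * a ∈ A := by
  simpa using hA.aba_mem ha hA.one_mem

theorem jordan_mem {e f x : AddMonoid.End V} (he : e ∈ A) (hf : f ∈ A) (hx : x ∈ A) :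
    e * x * f + f * x * e ∈ A := by
  have h : (e + f) * x * (e + f) = e * x * e + (e * x * f + f * x * e) + f * x * f := by
    simp only [add_mul, mul_add]; abel
  have := A.sub_mem (A.sub_mem (hA.aba_mem (A.add_mem he hf) hx) (hA.aba_mem hf hx))
    (hA.aba_mem he hx)
  rw [h] at this
  simpa using this

theorem pow_mem {a : AddMonoid.End V} (ha : a ∈ A) (n : ℕ) : a ^ n ∈ A := by
  induction n using Nat.strong_induction_on with
  | _ n ih =>
    match n with
    | 0 => simpa using hA.one_mem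
    | 1 => simpa using ha
    | m + 2 =>
      rw [pow_succ, pow_succ']
      exact hA.aba_mem ha (ih m (by omega))

theorem eq_zero_of_sq {a : AddMonoid.End V} (ha : a ∈ A) (h : a * a = 0) : a = 0 := by
  by_contra h0
  exact h0 (hA.eq_zero_of_mul ha h h0)

variable [Finite V]

theorem finite_end : Finite (AddMonoid.End V) :=
  haveI := hA
  Finite.of_injective _ DFunLike.coe_injective

theorem exists_odd_pow {a : AddMonoid.End V} (ha : a ∈ A) (h0 : a ≠ 0) :
    ∃ n : ℕ, Odd n ∧ a ^ n = 1 := by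
  haveI := hA.finite_end
  obtain ⟨b, -, hab, hba⟩ := hA.inv a ha h0
  let u : (AddMonoid.End V)ˣ := ⟨a, b, hab, hba⟩
  have hpos : 0 < orderOf a := by
    rw [show orderOf a = orderOf u from (orderOf_units (y := u))]
    exact orderOf_pos u
  refine ⟨orderOf a, ?_, pow_orderOf_eq_one a⟩
  by_contra hodd
  obtain ⟨m, hm⟩ := Nat.not_odd_iff_even.mp hodd
  have h1 : (a ^ m + 1) * (a ^ m + 1) = 0 := by
    have h2 : a ^ m * a ^ m = 1 := by rw [← pow_add, ← hm, pow_orderOf_eq_one]
    simp only [add_mul, mul_add, h2, one_mul, mul_one]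
    rw [add_comm (1 : AddMonoid.End V) (a ^ m)]
    exact hA.add_self _
  have h3 := hA.eq_of_add (hA.eq_zero_of_sq (A.add_mem (hA.pow_mem ha m) hA.one_mem) h1)
  have h4 := orderOf_le_of_pow_eq_one (by omega) h3
  omega

theorem sq_inj {a b : AddMonoid.End V} (ha : a ∈ A) (hb : b ∈ A) (h : a * a = b * b) : a = b := by
  by_cases ha0 : a = 0
  · rw [ha0, mul_zero] at h
    rw [ha0, hA.eq_zero_of_sq hb h.symm]
  by_cases hb0 : b = 0
  · rw [hb0, mul_zero] at h
    exact absurd (hA.eq_zero_of_sq ha h) ha0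
  obtain ⟨n, hn, han⟩ := hA.exists_odd_pow ha ha0
  obtain ⟨m, hm, hbm⟩ := hA.exists_odd_pow hb hb0
  obtain ⟨k, hk⟩ := hn.mul hm
  have hsq : ∀ x : AddMonoid.End V, x ^ (n * m) = 1 → x = (x * x) ^ (k + 1) := by
    intro x hx
    rw [← pow_two, ← pow_mul, show 2 * (k + 1) = n * m + 1 by omega, pow_succ, hx, one_mul]
  rw [hsq a (by rw [pow_mul, han, one_pow]), hsq b (by rw [mul_comm, pow_mul, hbm, one_pow]), h]

theorem mul_mem_of_comm {p r : AddMonoid.End V} (hp : p ∈ A) (hr : r ∈ A) (h : p * r = r * p) :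
    p * r ∈ A := by
  by_cases hp0 : p = 0
  · simpa [hp0] using A.zero_mem
  obtain ⟨n, ⟨k, hk⟩, hpn⟩ := hA.exists_odd_pow hp hp0
  have hg : p ^ (k + 1) * p ^ (k + 1) = p := by
    rw [← pow_add, show k + 1 + (k + 1) = n + 1 by omega, pow_succ, hpn, one_mul]
  have hc : Commute (p ^ (k + 1)) r := (show Commute p r from h).pow_left _
  have := hA.aba_mem (hA.pow_mem hp (k + 1)) hr
  rwa [hc.eq, mul_assoc, hg, ← h] at this

theorem closure_comm {S : Set (AddMonoid.End V)} (hcomm : ∀ x ∈ S, ∀ y ∈ S, x * y = y * x)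
    {x y : AddMonoid.End V} (hx : x ∈ Subring.closure S) (hy : y ∈ Subring.closure S) :
    x * y = y * x := by
  haveI := hA
  induction hx, hy using Subring.closure_induction₂ with
  | mem_mem a b ha hb => exact hcomm a ha b hb
  | zero_left => simp
  | zero_right => simp
  | one_left => simp
  | one_right => simp
  | neg_left a b _ _ h => simp [h]
  | neg_right a b _ _ h => simp [h]
  | add_left a b c _ _ _ h1 h2 => simp [add_mul, mul_add, h1, h2]
  | add_right a b c _ _ _ h1 h2 => simp [add_mul, mul_add, h1, h2]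
  | mul_left a b c _ _ _ h1 h2 => rw [mul_assoc, h2, ← mul_assoc, h1, mul_assoc]
  | mul_right a b c _ _ _ h1 h2 => rw [← mul_assoc, h1, mul_assoc, h2, ← mul_assoc]

theorem closure_mem {S : Set (AddMonoid.End V)} (hS : S ⊆ A)
    (hcomm : ∀ x ∈ S, ∀ y ∈ S, x * y = y * x) {x : AddMonoid.End V} (hx : x ∈ Subring.closure S) :
    x ∈ A := by
  induction hx using Subring.closure_induction with
  | mem a ha => exact hS ha
  | zero => exact A.zero_mem
  | one => exact hA.one_mem
  | add a b _ _ ha hb => exact A.add_mem ha hb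
  | neg a _ ha => exact A.neg_mem ha
  | mul a b h1 h2 ha hb => exact hA.mul_mem_of_comm ha hb (hA.closure_comm hcomm h1 h2)

end IsJordanSet

/-! ### Components along automorphisms of a subfield -/

section Components

variable {K : Type*} [Field K] (ι : K →+* AddMonoid.End V)

/-- `x` lies in the component of `σ`. -/
def InM (σ : RingAut K) (x : AddMonoid.End V) : Prop := ∀ e : K, ι e * x = x * ι (σ e)

theorem InM.mul {σ τ : RingAut K} {x y : AddMonoid.End V} (hx : InM ι σ x) (hy : InM ι τ y) :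
    InM ι (τ * σ) (x * y) := by
  intro e
  rw [← mul_assoc, hx e, mul_assoc, hy (σ e), ← mul_assoc]
  rfl

theorem InM.add {σ : RingAut K} {x y : AddMonoid.End V} (hx : InM ι σ x) (hy : InM ι σ y) :
    InM ι σ (x + y) := by
  intro e
  rw [mul_add, add_mul, hx e, hy e]

theorem inM_one_iota (c : K) : InM ι 1 (ι c) := by
  intro e
  show ι e * ι c = ι c * ι e
  rw [← map_mul, ← map_mul, mul_comm]

theorem InM.pow {σ : RingAut K} {x : AddMonoid.End V} (hx : InM ι σ x) (n : ℕ) :
    InM ι (σ ^ n) (x ^ n) := by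
  induction n with
  | zero =>
    intro e
    show ι e * x ^ 0 = x ^ 0 * ι e
    simp
  | succ n ih =>
    rw [pow_succ', pow_succ]
    exact ih.mul ι hx

/-- Moving a scalar from the right to the left of an element of a component. -/
theorem InM.right {σ : RingAut K} {x : AddMonoid.End V} (hx : InM ι σ x) (e : K) :
    x * ι e = ι (σ⁻¹ e) * x := by
  rw [hx (σ⁻¹ e)]
  congr 2
  exact (σ.apply_symm_apply e).symm

theorem aut_inv_apply (σ : RingAut K) (e : K) : σ⁻¹ (σ e) = e := σ.symm_apply_apply e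

theorem aut_apply_inv (σ : RingAut K) (e : K) : σ (σ⁻¹ e) = e := σ.apply_symm_apply e

variable [Fintype K] [DecidableEq K]

/-- The projection to the component of `σ`. -/
def proj (σ : RingAut K) : AddMonoid.End V →+ AddMonoid.End V where
  toFun x := ∑ e : Kˣ, ι (e : K) * x * ι (σ ((e⁻¹ : Kˣ) : K))
  map_zero' := by simp
  map_add' x y := by simp [mul_add, add_mul, Finset.sum_add_distrib]

theorem proj_apply (σ : RingAut K) (x : AddMonoid.End V) :
    proj ι σ x = ∑ e : Kˣ, ι (e : K) * x * ι (σ ((e⁻¹ : Kˣ) : K)) := rfl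

theorem inM_proj (σ : RingAut K) (x : AddMonoid.End V) : InM ι σ (proj ι σ x) := by
  intro e
  by_cases he : e = 0
  · simp [he]
  rw [proj_apply, Finset.mul_sum, Finset.sum_mul]
  refine Fintype.sum_equiv (Equiv.mulLeft (Units.mk0 e he)) _ _ fun f => ?_
  rw [Equiv.coe_mulLeft, mul_assoc _ (ι (σ _)) (ι (σ e)), ← map_mul ι (σ _) (σ e), ← map_mul σ,
    ← mul_assoc (ι e), ← mul_assoc (ι e), ← map_mul ι e, Units.val_mul, Units.val_mk0]
  congr 3
  simp only [Units.val_inv_eq_inv_val, Units.val_mul, Units.val_mk0]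
  field_simp

variable [CharP K 2]

theorem card_units_odd : Odd (Fintype.card Kˣ) := by
  obtain ⟨n, -, hn⟩ := FiniteField.card K 2
  rw [Fintype.card_units, hn]
  have h2 : 1 ≤ 2 ^ (n : ℕ) := Nat.one_le_two_pow
  have h : Even (2 ^ (n : ℕ)) := (Nat.even_pow.mpr ⟨even_two, n.pos.ne'⟩)
  rw [Nat.odd_iff]
  rw [Nat.even_iff] at h
  omega

theorem sum_ortho (σ τ : RingAut K) :
    ∑ e : Kˣ, σ (e : K) * τ ((e⁻¹ : Kˣ) : K) = if σ = τ then 1 else 0 := by
  classical
  let f : Kˣ →* K :=
    { toFun := fun e => σ (e : K) * τ ((e⁻¹ : Kˣ) : K)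
      map_one' := by simp
      map_mul' := fun a b => by
        simp only [Units.val_mul, mul_inv_rev, map_mul]
        ring }
  have hf : f = 1 ↔ σ = τ := by
    constructor
    · intro h
      apply RingEquiv.ext
      intro e
      by_cases he : e = 0
      · simp [he]
      have h1 : σ e * τ e⁻¹ = 1 := by simpa [f] using DFunLike.congr_fun h (Units.mk0 e he)
      calc σ e = σ e * τ (e⁻¹ * e) := by rw [inv_mul_cancel₀ he, map_one, mul_one]
        _ = τ e := by rw [map_mul, ← mul_assoc, h1, one_mul]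
    · rintro rfl
      ext e
      show σ (e : K) * σ ((e⁻¹ : Kˣ) : K) = 1
      rw [← map_mul, Units.mul_inv, map_one]
  refine (sum_hom_units f).trans ?_
  by_cases h : σ = τ
  · rw [if_pos h, if_pos (hf.mpr h)]
    obtain ⟨m, hm⟩ := card_units_odd (K := K)
    rw [hm]
    push_cast
    rw [CharTwo.two_eq_zero]
    simp
  · rw [if_neg h, if_neg (mt hf.mp h), Nat.cast_zero]

theorem proj_of_inM {σ τ : RingAut K} {x : AddMonoid.End V} (hx : InM ι τ x) :
    proj ι σ x = if τ = σ then x else 0 := by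
  rw [proj_apply]
  have : ∀ e : Kˣ, ι (e : K) * x * ι (σ ((e⁻¹ : Kˣ) : K))
      = x * ι (τ (e : K) * σ ((e⁻¹ : Kˣ) : K)) := by
    intro e
    rw [hx (e : K), mul_assoc, ← map_mul]
  rw [Finset.sum_congr rfl fun e _ => this e, ← Finset.mul_sum, ← map_sum, sum_ortho]
  split_ifs <;> simp

theorem proj_self {σ : RingAut K} {x : AddMonoid.End V} (hx : InM ι σ x) : proj ι σ x = x := by
  rw [proj_of_inM ι hx, if_pos rfl]

theorem proj_ne {σ τ : RingAut K} {x : AddMonoid.End V} (hx : InM ι τ x) (h : τ ≠ σ) :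
    proj ι σ x = 0 := by
  rw [proj_of_inM ι hx, if_neg h]

theorem sum_proj [Fintype (RingAut K)] (x : AddMonoid.End V) :
    ∑ σ : RingAut K, proj ι σ x = x := by
  classical
  have hfix : ∀ e : K, ∀ τ : RingAut K, τ (∑ σ : RingAut K, σ e) = ∑ σ : RingAut K, σ e := by
    intro e τ
    rw [map_sum]
    exact Fintype.sum_equiv (Equiv.mulLeft τ) _ _ fun σ => rfl
  let Fr : RingAut K := frobeniusEquiv K 2
  have h01 : ∀ e : K, (∑ σ : RingAut K, σ e) = 0 ∨ (∑ σ : RingAut K, σ e) = 1 := by
    intro e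
    set t := ∑ σ : RingAut K, σ e with ht
    have : t ^ 2 = t := hfix e Fr
    have h2 : t * (t - 1) = 0 := by ring_nf; rw [this]; ring
    rcases mul_eq_zero.mp h2 with h | h
    · exact Or.inl h
    · exact Or.inr (sub_eq_zero.mp h)
  calc ∑ σ : RingAut K, proj ι σ x
      = ∑ e : Kˣ, ι (e : K) * x * ι (∑ σ : RingAut K, σ ((e⁻¹ : Kˣ) : K)) := by
        simp only [proj_apply]
        rw [Finset.sum_comm]
        refine Finset.sum_congr rfl fun e _ => ?_
        rw [map_sum, Finset.mul_sum]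
    _ = ∑ e : Kˣ, ι ((e : K) * ∑ σ : RingAut K, σ ((e⁻¹ : Kˣ) : K)) * x := by
        refine Finset.sum_congr rfl fun e _ => ?_
        rcases h01 ((e⁻¹ : Kˣ) : K) with h | h <;>
          simp only [h, map_zero, map_one, map_mul, mul_zero, zero_mul, mul_one]
    _ = ι (∑ σ : RingAut K, ∑ e : Kˣ, (1 : RingAut K) (e : K) * σ ((e⁻¹ : Kˣ) : K)) * x := by
        rw [← Finset.sum_mul, ← map_sum, Finset.sum_comm]
        simp only [Finset.mul_sum]
        rfl
    _ = x := by
        rw [Finset.sum_congr rfl (fun σ _ => sum_ortho (1 : RingAut K) σ), Finset.sum_ite_eq,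
          if_pos (Finset.mem_univ _), map_one, one_mul]

end Components

/-! ### The contradiction -/

section Core

variable [Finite V] {A : AddSubgroup (AddMonoid.End V)} (hA : IsJordanSet A)
  {K : Type*} [Field K] [Fintype K] [DecidableEq K] [CharP K 2] (ι : K →+* AddMonoid.End V)
  (hι : ∀ e, ι e ∈ A)
  (hmax : ∀ c ∈ A, (∀ e, ι e * c = c * ι e) → ∃ k, ι k = c)

include hA hι

omit [Finite V] in
theorem sum_involution_mem {x : AddMonoid.End V} (hx : x ∈ A) (φ : Kˣ → Kˣ)
    (hφ : ∀ e, φ (φ e) = e) (s : Finset Kˣ) (hs : ∀ e ∈ s, φ e ∈ s) :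
    ∑ e ∈ s, ι (e : K) * x * ι (φ e : K) ∈ A := by
  induction s using Finset.strongInduction with
  | H s ih =>
    rcases s.eq_empty_or_nonempty with rfl | ⟨e, he⟩
    · simp
    by_cases h : φ e = e
    · rw [← Finset.add_sum_erase s _ he]
      refine A.add_mem ?_ (ih _ (Finset.erase_ssubset he) ?_)
      · rw [h]; exact hA.aba_mem (hι _) hx
      · intro f hf
        rw [Finset.mem_erase] at hf ⊢
        exact ⟨fun hfe => hf.1 (by rw [← hφ f, hfe, h]), hs f hf.2⟩
    · have h2 : φ e ∈ s.erase e := Finset.mem_erase.mpr ⟨h, hs e he⟩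
      rw [← Finset.add_sum_erase s _ he, ← Finset.add_sum_erase _ _ h2, ← add_assoc]
      refine A.add_mem ?_ (ih _ ((Finset.erase_ssubset h2).trans (Finset.erase_ssubset he)) ?_)
      · rw [hφ]; exact hA.jordan_mem (hι _) (hι _) hx
      · intro f hf
        rw [Finset.mem_erase, Finset.mem_erase] at hf ⊢
        refine ⟨fun hfe => hf.2.1 ?_, fun hfe => hf.1 ?_, hs f hf.2.2⟩
        · rw [← hφ f, hfe, hφ]
        · rw [← hφ f, hfe]

omit [Finite V] [CharP K 2] in
theorem pair_mem (σ : RingAut K) {x : AddMonoid.End V} (hx : x ∈ A) :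
    proj ι σ x + proj ι σ⁻¹ x ∈ A := by
  let φ : Kˣ ≃ Kˣ :=
    (Units.mapEquiv (σ : K ≃+* K).toMulEquiv).toEquiv.trans (Equiv.inv Kˣ)
  have : proj ι σ⁻¹ x = ∑ e : Kˣ, ι (σ ((e⁻¹ : Kˣ) : K)) * x * ι (e : K) := by
    rw [proj_apply]
    refine (Fintype.sum_equiv φ _ _ fun e => ?_).symm
    have h1 : ((φ e : Kˣ) : K) = σ ((e⁻¹ : Kˣ) : K) := by simp [φ]
    have h2 : (((φ e)⁻¹ : Kˣ) : K) = σ (e : K) := by simp [φ]
    rw [h1, h2, aut_inv_apply]
  rw [this, proj_apply, ← Finset.sum_add_distrib]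
  exact sum_mem fun e _ => hA.jordan_mem (hι _) (hι _) hx

omit [Finite V] in
theorem single_mem (σ : RingAut K) (hσ : σ * σ = 1) {x : AddMonoid.End V} (hx : x ∈ A) :
    proj ι σ x ∈ A := by
  refine sum_involution_mem hA ι hι hx (fun e => Units.map (σ : K ≃+* K).toMonoidHom e⁻¹) ?_
    Finset.univ (fun _ _ => Finset.mem_univ _)
  intro e
  have h : σ (σ (e : K)) = e := DFunLike.congr_fun hσ (e : K)
  apply Units.ext
  simp [h]

include hmax

omit [Finite V] [CharP K 2] hA hι in
theorem mem_range_of_inM_one {c : AddMonoid.End V} (hc : c ∈ A) (h : InM ι 1 c) : ∃ k, ι k = c :=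
  hmax c hc fun e => h e

theorem eq_zero_of_selfpair {σ : RingAut K} (hσ : σ ≠ 1) (hσ2 : σ * σ = 1) {x : AddMonoid.End V}
    (hx : x ∈ A) (hM : InM ι σ x) : x = 0 := by
  have h1 : InM ι 1 (x * x) := hσ2 ▸ hM.mul ι hM
  obtain ⟨f, hf⟩ := mem_range_of_inM_one ι hmax (hA.sq_mem hx) h1
  obtain ⟨g, hg⟩ := FiniteField.isSquare_of_char_two (ringChar.eq K 2) f
  have h2 : x = ι g := hA.sq_inj hx (hι g) (by rw [← map_mul, ← hg, hf])
  rw [← proj_self ι hM, h2]
  exact proj_ne ι (inM_one_iota ι g) (Ne.symm hσ)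

theorem exists_odd (n : ℕ) : ∀ (σ : RingAut K), orderOf σ = n → σ ≠ 1 → ∀ x ∈ A, proj ι σ x ≠ 0 →
    ∃ τ : RingAut K, τ ≠ 1 ∧ Odd (orderOf τ) ∧ ∃ z ∈ A, proj ι τ z ≠ 0 := by
  induction n using Nat.strong_induction_on with
  | _ n ih =>
    intro σ hn hσ x hx hy
    rcases Nat.even_or_odd n with hev | hodd
    swap
    · exact ⟨σ, hσ, hn ▸ hodd, x, hx, hy⟩
    by_cases hσ2 : σ * σ = 1
    · exact absurd (eq_zero_of_selfpair hA ι hι hmax hσ hσ2 (single_mem hA ι hι σ hσ2 hx)
        (inM_proj ι σ x)) hy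
    set y := proj ι σ x
    set y' := proj ι σ⁻¹ x
    have hX : y + y' ∈ A := pair_mem hA ι hι σ hx
    have hyM : InM ι σ y := inM_proj ι σ x
    have hy'M : InM ι σ⁻¹ y' := inM_proj ι σ⁻¹ x
    have hinv : σ⁻¹ * σ⁻¹ = (σ * σ)⁻¹ := (mul_inv_rev σ σ).symm
    have hXX : (y + y') * (y + y') = (y * y + y' * y') + (y * y' + y' * y) := by
      simp only [mul_add, add_mul]; abel
    have hM1 : InM ι 1 (y * y' + y' * y) :=
      InM.add ι (inv_mul_cancel σ ▸ hyM.mul ι hy'M) (mul_inv_cancel σ ▸ hy'M.mul ι hyM)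
    haveI : Finite (RingAut K) := Finite.of_injective _ DFunLike.coe_injective
    have hlt : orderOf (σ * σ) < n := by
      rw [← pow_two, orderOf_pow, hn, Nat.gcd_eq_right (even_iff_two_dvd.mp hev)]
      exact Nat.div_lt_self (hn ▸ orderOf_pos σ) one_lt_two
    by_cases h1 : proj ι (σ * σ) ((y + y') * (y + y')) = 0
    swap
    · exact ih _ hlt _ rfl hσ2 _ (hA.sq_mem hX) h1
    by_cases h2 : proj ι (σ * σ)⁻¹ ((y + y') * (y + y')) = 0
    swap
    · exact ih _ (orderOf_inv (σ * σ) ▸ hlt) _ (orderOf_inv (σ * σ)) (inv_ne_one.mpr hσ2) _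
        (hA.sq_mem hX) h2
    exfalso
    have hy'y' : InM ι (σ * σ)⁻¹ (y' * y') := by rw [← hinv]; exact hy'M.mul ι hy'M
    have hyy : InM ι (σ * σ) (y * y) := hyM.mul ι hyM
    have hs1 : (1 : RingAut K) ≠ (σ * σ)⁻¹ := fun h => hσ2 (inv_eq_one.mp h.symm)
    have hzero : y * y + y' * y' = 0 := by
      by_cases hs : (σ * σ)⁻¹ = σ * σ
      · rw [hs] at hy'y'
        rw [hXX, map_add, proj_self ι (hyy.add ι hy'y'), proj_ne ι hM1 (Ne.symm hσ2), add_zero] at h1
        exact h1
      · rw [hXX, map_add, map_add, proj_self ι hyy, proj_ne ι hy'y' hs,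
          proj_ne ι hM1 (Ne.symm hσ2), add_zero, add_zero] at h1
        rw [hXX, map_add, map_add, proj_self ι hy'y', proj_ne ι hyy (Ne.symm hs),
          proj_ne ι hM1 hs1, add_zero, zero_add] at h2
        rw [h1, h2, add_zero]
    rw [hzero, zero_add] at hXX
    obtain ⟨f, hf⟩ := mem_range_of_inM_one ι hmax (hA.sq_mem hX) (hXX ▸ hM1)
    obtain ⟨g, hg⟩ := FiniteField.isSquare_of_char_two (ringChar.eq K 2) f
    have h3 : y + y' = ι g := hA.sq_inj hX (hι g) (by rw [← map_mul, ← hg, hf])
    have h4 := congrArg (proj ι σ) h3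
    rw [map_add, proj_self ι hyM,
      proj_ne ι hy'M (fun h => hσ2 (by rw [← mul_inv_cancel σ, h])),
      proj_ne ι (inM_one_iota ι g) (Ne.symm hσ), add_zero] at h4
    exact hy h4

/-- Twisted diagonal elements: for `σ` of odd order and `u + u' ∈ A` a pair for `σ`, all
`u c + u' (σ⁻¹ c)` are in `A`. -/
theorem phi_mem {σ : RingAut K} (hodd : Odd (orderOf σ)) {u u' : AddMonoid.End V}
    (hu : InM ι σ u) (hu' : InM ι σ⁻¹ u') (hmem : u + u' ∈ A) (c : K) :
    u * ι c + u' * ι (σ⁻¹ c) ∈ A := by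
  haveI := hmax
  by_cases hc : c = 0
  · simpa [hc] using A.zero_mem
  let f : Kˣ →* Kˣ := MonoidHom.id Kˣ * Units.map (σ : K ≃+* K).toMonoidHom
  have hf : Function.Injective f := by
    rw [injective_iff_map_eq_one]
    intro e he
    have h1 : (e : K) * σ (e : K) = 1 := by simpa [f] using congrArg Units.val he
    have hσe : σ (e : K) = (e : K)⁻¹ := by
      rw [← mul_left_inj' e.ne_zero, inv_mul_cancel₀ e.ne_zero, mul_comm]; exact h1
    have hfix : ∀ m : ℕ, ((σ * σ) ^ m) (e : K) = e := by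
      intro m
      induction m with
      | zero => rfl
      | succ m ih =>
        rw [pow_succ]
        show ((σ * σ) ^ m) (σ (σ (e : K))) = e
        rw [hσe, map_inv₀, hσe, inv_inv, ih]
    obtain ⟨m, hm⟩ := hodd
    have h2 : σ (e : K) = e := by
      have h3 : (σ * σ) ^ (m + 1) = σ := by
        rw [← pow_two, ← pow_mul, show 2 * (m + 1) = (2 * m + 1) + 1 by omega, ← hm, pow_succ,
          pow_orderOf_eq_one, one_mul]
      conv_rhs => rw [← hfix (m + 1), h3]
    rw [h2] at h1
    have h4 : ((e : K) + 1) * ((e : K) + 1) = 0 := by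
      rw [CharTwo.add_mul_self, h1, one_mul, CharTwo.add_self_eq_zero]
    exact Units.ext (CharTwo.add_eq_zero.mp (mul_self_eq_zero.mp h4))
  obtain ⟨e, he⟩ := (Finite.injective_iff_surjective.mp hf) (Units.mk0 c hc)
  have hce : (e : K) * σ (e : K) = c := by simpa [f] using congrArg Units.val he
  have h := hA.aba_mem (hι (e : K)) hmem
  rw [mul_add, add_mul, hu (e : K), hu' (e : K), mul_assoc, mul_assoc, ← map_mul, ← map_mul] at h
  rw [← hce, map_mul σ⁻¹, aut_inv_apply, mul_comm (e : K) (σ (e : K))]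
  exact h

section Odd

variable {σ : RingAut K} (hσ : σ ≠ 1) (hodd : Odd (orderOf σ)) {y y' : AddMonoid.End V}
  (hy : InM ι σ y) (hy' : InM ι σ⁻¹ y') (hX : y + y' ∈ A) (hy0 : y ≠ 0)

omit [Finite V] [Fintype K] [DecidableEq K] [CharP K 2] hA hι hmax in
theorem iota_mul_eq_zero {k : K} {x : AddMonoid.End V} (h : ι k * x = 0) (hx : x ≠ 0) : k = 0 := by
  by_contra hk
  exact hx (by rw [← one_mul x, ← map_one ι, ← inv_mul_cancel₀ hk, map_mul, mul_assoc, h, mul_zero])

include hσ hodd

omit hι hmax hA [Finite V] [DecidableEq K] [CharP K 2] in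
theorem sq_ne_one : σ * σ ≠ 1 := by
  intro h
  obtain ⟨m, hm⟩ := hodd
  have h1 : orderOf σ ∣ 2 := orderOf_dvd_of_pow_eq_one (by rw [pow_two, h])
  have := Nat.le_of_dvd two_pos h1
  exact hσ (orderOf_eq_one_iff.mp (by omega))

include hy hy' hX hy0

theorem exists_P : ∃ P : K, y * y' = ι P ∧ y' * y = ι (σ P) := by
  have hne := sq_ne_one (σ := σ) hσ hodd
  have hyy' : InM ι 1 (y * y') := inv_mul_cancel σ ▸ hy.mul ι hy'
  have hy'y : InM ι 1 (y' * y) := mul_inv_cancel σ ▸ hy'.mul ι hy
  -- the component of `1` of the square of an element `y c + y' c'`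
  have hsq : ∀ c : K, ∃ k : K, (y * y') * ι (σ⁻¹ c * σ⁻¹ c) + (y' * y) * ι (c * c) = ι k := by
    intro c
    have hmem := phi_mem hA ι hι hmax hodd hy hy' hX c
    have h1 : (1 : RingAut K) * 1 = 1 := one_mul 1
    obtain ⟨k, hk⟩ := mem_range_of_inM_one ι hmax
      (single_mem hA ι hι 1 h1 (hA.sq_mem hmem)) (inM_proj ι 1 _)
    refine ⟨k, ?_⟩
    rw [hk]
    set u := y * ι c with hu_def
    set u' := y' * ι (σ⁻¹ c) with hu'_def
    have hu : InM ι σ u := one_mul σ ▸ hy.mul ι (inM_one_iota ι c)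
    have hu' : InM ι σ⁻¹ u' := one_mul σ⁻¹ ▸ hy'.mul ι (inM_one_iota ι (σ⁻¹ c))
    have e1 : u * u' = (y * y') * ι (σ⁻¹ c * σ⁻¹ c) := by
      rw [hu_def, hu'_def, ← mul_assoc, mul_assoc y, hy' c, ← mul_assoc, mul_assoc, ← map_mul]
    have e2 : u' * u = (y' * y) * ι (c * c) := by
      rw [hu_def, hu'_def, ← mul_assoc, mul_assoc y', hy (σ⁻¹ c), aut_apply_inv, ← mul_assoc,
        mul_assoc, ← map_mul]
    have e3 : (u + u') * (u + u') = (u * u + u' * u') + (u * u' + u' * u) := by
      simp only [mul_add, add_mul]; abel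
    rw [e3, map_add, map_add, proj_ne ι (hu.mul ι hu) hne,
      proj_ne ι (hu'.mul ι hu') (fun h => hne (by rw [← inv_inv (σ * σ), mul_inv_rev, h, inv_one])),
      add_zero, zero_add, proj_self ι, e1, e2]
    exact InM.add ι (inv_mul_cancel σ ▸ hu.mul ι hu') (mul_inv_cancel σ ▸ hu'.mul ι hu)
  obtain ⟨S, hS⟩ := hsq 1
  simp only [map_one, mul_one] at hS
  have hP'e : y' * y = ι S + y * y' := by
    rw [← hS, add_right_comm, hA.add_self, zero_add]
  obtain ⟨c, hc⟩ : ∃ c : K, σ⁻¹ c ≠ c := by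
    by_contra h
    simp only [not_exists, not_not] at h
    exact hσ (inv_eq_one.mp (RingEquiv.ext h))
  obtain ⟨k, hk⟩ := hsq c
  set D := σ⁻¹ c * σ⁻¹ c + c * c
  have hD : D ≠ 0 := by
    simp only [D, ← CharTwo.add_mul_self]
    intro h
    exact hc (CharTwo.add_eq_zero.mp (mul_self_eq_zero.mp h))
  have hD' : y * y' * ι D = ι (k + S * (c * c)) := by
    rw [map_add ι k, ← hk, map_mul ι S, hP'e, add_mul, map_add ι (σ⁻¹ c * σ⁻¹ c), mul_add]
    generalize ι S * ι (c * c) = m
    generalize y * y' * ι (σ⁻¹ c * σ⁻¹ c) = n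
    generalize y * y' * ι (c * c) = o
    rw [add_comm m o, ← add_assoc n, add_assoc (n + o), hA.add_self, add_zero]
  set P := (k + S * (c * c)) * D⁻¹
  have hP : y * y' = ι P := by
    rw [map_mul, ← hD', mul_assoc, ← map_mul, mul_inv_cancel₀ hD, map_one, mul_one]
  refine ⟨P, hP, ?_⟩
  have hP' : y' * y = ι (S + P) := by rw [hP'e, hP, map_add]
  have h1 : y * ι (S + P) = y * ι (σ P) := by rw [← hP', ← mul_assoc, hP, hy P]
  rw [hP']
  congr 1
  by_contra hne'
  have h2 : ι (σ⁻¹ (S + P + σ P)) * y = 0 := by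
    rw [← hy.right, map_add ι, mul_add, h1, hA.add_self]
  have h3 := iota_mul_eq_zero ι h2 hy0
  rw [map_eq_zero_iff _ (σ⁻¹).injective] at h3
  exact hne' (CharTwo.add_eq_zero.mp h3)

/-- `y^n y'^n` is a scalar, nonzero when `y y'` is. -/
theorem pow_mul_pow {P : K} (hP : y * y' = ι P) (n : ℕ) :
    ∃ m : K, y ^ n * y' ^ n = ι m ∧ (P ≠ 0 → m ≠ 0) := by
  haveI := hX
  induction n with
  | zero => exact ⟨1, by simp, fun _ => one_ne_zero⟩
  | succ n ih =>
    obtain ⟨m, hm, hm'⟩ := ih
    refine ⟨σ⁻¹ m * P, ?_, fun h => mul_ne_zero (by simpa using hm' h) h⟩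
    rw [pow_succ' y, pow_succ y', mul_assoc, ← mul_assoc (y ^ n), hm, ← mul_assoc, hy.right,
      mul_assoc, hP, ← map_mul]

/-- `y` commutes with `y'^d`, `d` the order of `σ`. -/
theorem commute_pow_order {P : K} (hP : y * y' = ι P) (hP' : y' * y = ι (σ P)) :
    y * y' ^ orderOf σ = y' ^ orderOf σ * y := by
  haveI := hX
  obtain ⟨m, hm⟩ : ∃ m, orderOf σ = m + 1 := ⟨orderOf σ - 1, by obtain ⟨k, hk⟩ := hodd; omega⟩
  rw [hm, pow_succ' y', ← mul_assoc y, hP, ← pow_succ', pow_succ, mul_assoc, hP',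
    (hy'.pow ι m).right, inv_pow, inv_inv]
  have : (σ ^ m) (σ P) = P := by
    have h : σ ^ m * σ = 1 := by rw [← pow_succ, ← hm, pow_orderOf_eq_one]
    exact DFunLike.congr_fun h P
  rw [this]

/-- The component of `1` of `(y + y')^d`. -/
theorem proj_pow_order {P : K} (hP : y * y' = ι P) (hP' : y' * y = ι (σ P)) :
    proj ι 1 ((y + y') ^ orderOf σ) = y ^ orderOf σ + y' ^ orderOf σ := by
  haveI := hX
  let gens : ℕ → Set (AddMonoid.End V) := fun i =>
    {w | ∃ (e : K) (l : ℕ), l < i ∧ l % 2 = i % 2 ∧ (w = ι e * y ^ l ∨ w = ι e * y' ^ l)}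
  let N : ℕ → AddSubgroup (AddMonoid.End V) := fun i => AddSubgroup.closure (gens i)
  have mem1 : ∀ (i : ℕ) (e : K) (l : ℕ), l < i → l % 2 = i % 2 → ι e * y ^ l ∈ N i :=
    fun i e l h1 h2 => AddSubgroup.subset_closure ⟨e, l, h1, h2, Or.inl rfl⟩
  have mem2 : ∀ (i : ℕ) (e : K) (l : ℕ), l < i → l % 2 = i % 2 → ι e * y' ^ l ∈ N i :=
    fun i e l h1 h2 => AddSubgroup.subset_closure ⟨e, l, h1, h2, Or.inr rfl⟩
  have hstep : ∀ i, ∀ w ∈ N i, (y + y') * w ∈ N (i + 1) := by
    intro i w hw
    induction hw using AddSubgroup.closure_induction with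
    | zero => simp
    | add a b _ _ ha hb => rw [mul_add]; exact (N (i + 1)).add_mem ha hb
    | neg a _ ha => rw [mul_neg]; exact (N (i + 1)).neg_mem ha
    | mem a ha =>
      obtain ⟨e, l, hl, hpar, rfl | rfl⟩ := ha
      · rw [add_mul, ← mul_assoc, hy.right, ← mul_assoc y', hy'.right, inv_inv, mul_assoc,
          mul_assoc, ← pow_succ']
        refine (N (i + 1)).add_mem (mem1 _ _ _ (by omega) (by omega)) ?_
        rcases l with - | l
        · have h := mem2 (i + 1) (σ e) 1 (by omega) (by omega)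
          simpa using h
        · rw [pow_succ', ← mul_assoc y', hP', ← mul_assoc, ← map_mul]
          exact mem1 _ _ _ (by omega) (by omega)
      · rw [add_mul, ← mul_assoc, hy.right, ← mul_assoc y', hy'.right, inv_inv, mul_assoc,
          mul_assoc, ← pow_succ']
        refine (N (i + 1)).add_mem ?_ (mem2 _ _ _ (by omega) (by omega))
        rcases l with - | l
        · have h := mem1 (i + 1) (σ⁻¹ e) 1 (by omega) (by omega)
          simpa using h
        · rw [pow_succ', ← mul_assoc y, hP, ← mul_assoc, ← map_mul]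
          exact mem2 _ _ _ (by omega) (by omega)
  have hpow : ∀ i, (y + y') ^ (i + 1) + (y ^ (i + 1) + y' ^ (i + 1)) ∈ N (i + 1) := by
    intro i
    induction i with
    | zero => simp [hA.add_self]
    | succ i ih =>
      have h1 := hstep _ _ ih
      rw [mul_add, ← pow_succ'] at h1
      have e : (y + y') * (y ^ (i + 1) + y' ^ (i + 1))
          = (y ^ (i + 1 + 1) + y' ^ (i + 1 + 1)) + (ι (σ P) * y ^ i + ι P * y' ^ i) := by
        rw [add_mul, mul_add, mul_add, pow_succ' y (i + 1), pow_succ' y' (i + 1),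
          pow_succ' y i, pow_succ' y' i, ← mul_assoc y' y, hP', ← mul_assoc y y', hP]
        abel
      rw [e, ← add_assoc] at h1
      have h2 := (N (i + 1 + 1)).add_mem (mem1 (i + 1 + 1) (σ P) i (by omega) (by omega))
        (mem2 (i + 1 + 1) P i (by omega) (by omega))
      have h3 := (N (i + 1 + 1)).sub_mem h1 h2
      rwa [add_sub_cancel_right] at h3
  obtain ⟨k, hk⟩ := id hodd
  have hpos : 2 * k < orderOf σ := by omega
  have hzero : ∀ w ∈ N (orderOf σ), proj ι 1 w = 0 := by
    intro w hw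
    induction hw using AddSubgroup.closure_induction with
    | zero => simp
    | add a b _ _ ha hb => rw [map_add, ha, hb, add_zero]
    | neg a _ ha => rw [map_neg, ha, neg_zero]
    | mem a ha =>
      obtain ⟨e, l, hl, hpar, rfl | rfl⟩ := ha
      · refine proj_ne ι ((inM_one_iota ι e).mul ι (hy.pow ι l)) ?_
        rw [mul_one]
        exact pow_ne_one_of_lt_orderOf (by omega) hl
      · refine proj_ne ι ((inM_one_iota ι e).mul ι (hy'.pow ι l)) ?_
        rw [mul_one]
        exact pow_ne_one_of_lt_orderOf (by omega) (by rw [orderOf_inv]; exact hl)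
  have h := hpow (2 * k)
  rw [← hk] at h
  have h' := hzero _ h
  have h1 : InM ι 1 (y ^ orderOf σ + y' ^ orderOf σ) := by
    have e1 := hy.pow ι (orderOf σ)
    have e2 := hy'.pow ι (orderOf σ)
    rw [pow_orderOf_eq_one] at e1
    rw [inv_pow, pow_orderOf_eq_one, inv_one] at e2
    exact e1.add ι e2
  rw [map_add, proj_self ι h1] at h'
  exact hA.eq_of_add h'

/-- The main contradiction. -/
theorem no_odd_component [Nontrivial V] : False := by
  classical
  haveI : Nontrivial (AddMonoid.End V) := by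
    obtain ⟨v, hv⟩ := exists_ne (0 : V)
    exact ⟨0, 1, fun h => hv (DFunLike.congr_fun h v).symm⟩
  letI : Module K V := Module.compHom V ι
  have hd : 0 < orderOf σ := by obtain ⟨k, hk⟩ := hodd; omega
  have hne := sq_ne_one (σ := σ) hσ hodd
  obtain ⟨P, hP, hP'⟩ := exists_P hA ι hι hmax hσ hodd hy hy' hX hy0
  set d := orderOf σ with hd_def
  set α := y ^ d with hα_def
  set α' := y' ^ d with hα'_def
  have hαM : InM ι 1 α := by
    have := hy.pow ι d
    rwa [hd_def, pow_orderOf_eq_one] at this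
  have hα'M : InM ι 1 α' := by
    have := hy'.pow ι d
    rwa [inv_pow, hd_def, pow_orderOf_eq_one, inv_one] at this
  have hproj := proj_pow_order hA ι hι hmax hσ hodd hy hy' hX hy0 hP hP'
  obtain ⟨S, hS⟩ := mem_range_of_inM_one ι hmax
    (single_mem hA ι hι 1 (one_mul 1) (hA.pow_mem hX d)) (inM_proj ι 1 _)
  rw [hd_def, hproj, ← hd_def, ← hα_def, ← hα'_def] at hS
  obtain ⟨N, hN, hN'⟩ := pow_mul_pow hA ι hι hmax hσ hodd hy hy' hX hy0 hP d
  rw [← hα_def, ← hα'_def] at hN
  have hα'eq : α' = α + ι S := by rw [hS, hA.add_cancel]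
  have hαι : ∀ e, ι e * α = α * ι e := fun e => hαM e
  have hyα : y * α = α * y := by rw [hα_def, ← pow_succ', ← pow_succ]
  have hyα' : y * α' = α' * y := commute_pow_order hA ι hι hmax hσ hodd hy hy' hX hy0 hP hP'
  -- scalars commuting with `y` are fixed
  have hfix : ∀ k : K, y * ι k = ι k * y → σ k = k := by
    intro k hk
    have h2 : ι (σ⁻¹ k + k) * y = 0 := by rw [map_add, add_mul, ← hy.right, hk, hA.add_self]
    have h3 := CharTwo.add_eq_zero.mp (iota_mul_eq_zero ι h2 hy0)
    conv_lhs => rw [← h3, aut_apply_inv]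
  have hSf : σ S = S := hfix S (by rw [hS, mul_add, add_mul, hyα, hyα'])
  have hNf : σ N = N := hfix N (by rw [← hN, ← mul_assoc, hyα, mul_assoc, hyα', ← mul_assoc])
  have hquad : α * α = ι S * α + ι N := by
    rw [← hN, hα'eq, mul_add, hαι S, add_comm (α * ι S), add_assoc, hA.add_self, add_zero]
  have hιinj : Function.Injective ι := ι.injective
  have hXne : (y + y') ≠ 0 := by
    intro h
    have h1 := congrArg (proj ι σ) h
    rw [map_add, proj_self ι hy, proj_ne ι hy' (fun h => hne (by rw [← mul_inv_cancel σ, h])),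
      map_zero, add_zero] at h1
    exact hy0 h1
  have hP0 : N = 0 → P = 0 := fun h => by by_contra hP0; exact hN' hP0 h
  -- with `P = 0` the `d`-th power is `α + α'`
  have hPpow : P = 0 → (y + y') ^ d = α + α' := by
    intro h0
    have hp : y * y' = 0 := by rw [hP, h0, map_zero]
    have hp' : y' * y = 0 := by rw [hP', h0, map_zero, map_zero]
    have : ∀ i : ℕ, (y + y') ^ (i + 1) = y ^ (i + 1) + y' ^ (i + 1) := by
      intro i
      induction i with
      | zero => simp
      | succ i ih =>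
        rw [pow_succ', ih, add_mul, mul_add, mul_add, pow_succ' y' i, ← mul_assoc y y', hp, zero_mul,
          pow_succ' y i, ← mul_assoc y' y, hp', zero_mul, add_zero, zero_add, ← pow_succ', ← pow_succ',
          ← pow_succ', ← pow_succ']
    rw [hα_def, hα'_def]
    conv => rw [show d = (d - 1) + 1 by omega]
    exact this _
  have hSne : N = 0 → S ≠ 0 := by
    intro h0 hS0
    have h1 : (y + y') ^ d = 0 := by rw [hPpow (hP0 h0), ← hS, hS0, map_zero]
    obtain ⟨b, -, hXb, hbX⟩ := hA.inv _ hX hXne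
    let u : (AddMonoid.End V)ˣ := ⟨y + y', b, hXb, hbX⟩
    exact (u ^ d).ne_zero h1
  have hαne : α ≠ 0 := by
    intro h0
    have hN0 : N = 0 := hιinj (by rw [← hN, h0, zero_mul, map_zero])
    have h2 : y * α' = 0 := by
      have e : α' = y' * y' ^ (d - 1) := by rw [hα'_def, ← pow_succ', Nat.sub_add_cancel hd]
      rw [e, ← mul_assoc, hP, hP0 hN0, map_zero, zero_mul]
    rw [hα'eq, h0, zero_add] at h2
    rw [hy.right] at h2
    have := iota_mul_eq_zero ι h2 hy0
    exact hSne hN0 (by simpa using this)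
  have hyσ : ∀ (c : K) (u : V), y (c • u) = σ⁻¹ c • y u := fun c u =>
    DFunLike.congr_fun (hy.right (e := c)) u
  have hY'σ : ∀ (c : K) (u : V), y' (c • u) = σ c • y' u := fun c u => by
    have h := DFunLike.congr_fun (hy'.right (e := c)) u
    rwa [inv_inv] at h
  by_cases hroot : ∃ r : K, r * r + S * r + N = 0
  · obtain ⟨r, hr⟩ := hroot
    -- both roots are fixed by `σ`
    have hσr : σ r * σ r + S * σ r + N = 0 := by
      have := congrArg σ hr
      rwa [map_add, map_add, map_mul, map_mul, hSf, hNf, map_zero] at this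
    have hr2 : (σ r + r) * (σ r + r + S) = 0 := by
      have h2 : (σ r + r) * (σ r + r + S) = (σ r * σ r + S * σ r + N) + (r * r + S * r + N) := by
        linear_combination (σ r * r - N) * (CharTwo.two_eq_zero (R := K))
      rw [h2, hσr, hr, add_zero]
    have hσσr : (σ * σ) r = r := by
      show σ (σ r) = r
      rcases mul_eq_zero.mp hr2 with h | h
      · rw [CharTwo.add_eq_zero.mp h, CharTwo.add_eq_zero.mp h]
      · have h' : σ r = r + S := by linear_combination h - (r + S) * (CharTwo.two_eq_zero (R := K))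
        rw [h', map_add, h', hSf]
        linear_combination S * (CharTwo.two_eq_zero (R := K))
    have hrf : σ r = r := by
      obtain ⟨m, hm⟩ := hodd
      have h3 : (σ * σ) ^ (m + 1) = σ := by
        rw [← pow_two, ← pow_mul, show 2 * (m + 1) = (2 * m + 1) + 1 by omega, ← hm, pow_succ,
          hd_def, pow_orderOf_eq_one, one_mul]
      have h4 : ∀ l : ℕ, ((σ * σ) ^ l) r = r := by
        intro l
        induction l with
        | zero => rfl
        | succ l ih =>
          rw [pow_succ]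
          show ((σ * σ) ^ l) ((σ * σ) r) = r
          rw [hσσr, ih]
      have := h4 (m + 1)
      rwa [h3] at this
    have hrS : σ (r + S) = r + S := by rw [map_add, hrf, hSf]
    -- a nonzero eigenvalue
    obtain ⟨r₀, hr₀, hr₀f, w, hw, hαw⟩ : ∃ r₀ : K, r₀ ≠ 0 ∧ σ r₀ = r₀ ∧
        ∃ w : V, w ≠ 0 ∧ α w = r₀ • w := by
      have hfact : ∀ a b : K, a + b = S → a * b = N → (α + ι a) * (α + ι b) = 0 := by
        intro a b hab habN
        rw [add_mul, mul_add, mul_add, ← hαι b, ← map_mul, habN, hquad, ← hab, map_add, add_mul]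
        generalize ι a * α = p
        generalize ι b * α = q
        generalize ι N = m
        calc p + q + m + q + (p + m) = (p + p) + (q + q) + (m + m) := by abel
          _ = 0 := by simp [hA.add_self]
      have hker : ∀ a b : K, a + b = S → a * b = N →
          (∃ u : V, u ≠ 0 ∧ α u = a • u) ∨ α = ι b := by
        intro a b hab habN
        by_cases h : ∃ u : V, u ≠ 0 ∧ α u = a • u
        · exact Or.inl h
        refine Or.inr (hA.eq_of_add (AddMonoidHom.ext fun u => ?_))
        by_contra hu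
        refine h ⟨(α + ι b) u, hu, ?_⟩
        have h1 := DFunLike.congr_fun (hfact a b hab habN) u
        have h2 : α ((α + ι b) u) + a • (α + ι b) u = 0 := h1
        have h3 := congrArg (· + a • (α + ι b) u) h2
        simp only [add_assoc, hA.two, add_zero, zero_add] at h3
        exact h3
      have hab : r + (r + S) = S := by
        linear_combination r * (CharTwo.two_eq_zero (R := K))
      have habN : r * (r + S) = N := by
        linear_combination hr - N * (CharTwo.two_eq_zero (R := K))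
      obtain ⟨u₀, hu₀⟩ := exists_ne (0 : V)
      rcases hker r (r + S) hab habN with ⟨u, hu, hαu⟩ | hα
      · by_cases hr0 : r = 0
        · subst hr0
          simp only [zero_add, zero_mul] at habN hab hrS
          have hN0 : N = 0 := habN.symm
          rcases hker S 0 (by simp) (by simp [hN0]) with ⟨u', hu', hαu'⟩ | hα0
          · exact ⟨S, hSne hN0, hrS, u', hu', hαu'⟩
          · rw [map_zero] at hα0
            exact absurd hα0 hαne
        · exact ⟨r, hr0, hrf, u, hu, hαu⟩
      · refine ⟨r + S, fun h => hαne (by rw [hα, h, map_zero]), hrS, u₀, hu₀, ?_⟩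
        rw [hα]
        rfl
    have hitd : (⇑y)^[d] w = r₀ • w := by
      rw [← AddMonoid.End.coe_pow, ← hα_def]
      exact hαw
    obtain ⟨v, hv, γ, hγ, hyv'⟩ := exists_eigen (σ⁻¹) hd (by rw [orderOf_inv]) y hyσ hr₀
      (by conv_lhs => rw [← hr₀f, aut_inv_apply]) hw hitd
    have hyv : y v = γ • v := hyv'
    have hy'v : y' v = (σ γ⁻¹ * σ P) • v := by
      have h1 : v = γ⁻¹ • y v := by rw [hyv, smul_smul, inv_mul_cancel₀ hγ, one_smul]
      conv_lhs => rw [h1, hY'σ]
      rw [mul_smul]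
      congr 1
      exact DFunLike.congr_fun hP' v
    obtain ⟨f, hf⟩ : ∃ f : K, f = γ + σ γ⁻¹ * σ P := ⟨_, rfl⟩
    have hzero : (ι f + (y + y')) v = 0 := by
      show f • v + (y v + y' v) = 0
      rw [hyv, hy'v, hf, add_smul, hA.two]
    have hop : ι f + (y + y') = 0 := by
      by_contra h
      exact hv (hA.inj (A.add_mem (hι f) hX) h hzero)
    have h1 := congrArg (proj ι σ) hop
    rw [map_add, map_add, proj_ne ι (inM_one_iota ι f) (Ne.symm hσ), proj_self ι hy,
      proj_ne ι hy' (fun h => hne (by rw [← mul_inv_cancel σ, h])), map_zero, add_zero, zero_add] at h1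
    exact hy0 h1
  · simp only [not_exists] at hroot
    have hNne : N ≠ 0 := fun h => hroot 0 (by simp [h])
    have hPne : P ≠ 0 := by
      intro h0
      apply hNne
      apply hιinj
      rw [← hN, map_zero, hα_def, hα'_def, show d = (d - 1) + 1 by omega, pow_succ y, pow_succ' y',
        mul_assoc, ← mul_assoc y y', hP, h0, map_zero, zero_mul, mul_zero]
    have hprod : ∀ e f g h : K, (ι e + ι f * α) * (ι g + ι h * α)
        = ι (e * g + f * h * N) + ι (e * h + f * g + f * h * S) * α := by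
      intro e f g h
      have e1 : ι f * α * ι g = ι (f * g) * α := by
        rw [mul_assoc, ← hαι g, ← mul_assoc, ← map_mul]
      have e2 : ι f * α * (ι h * α) = ι (f * h * S) * α + ι (f * h * N) := by
        rw [mul_assoc (ι f), ← mul_assoc α, ← hαι h, mul_assoc (ι h), hquad, ← mul_assoc (ι f),
          ← map_mul, mul_add, ← mul_assoc (ι (f * h)), ← map_mul, ← map_mul]
      have e3 : ι e * (ι h * α) = ι (e * h) * α := by rw [← mul_assoc, ← map_mul]
      rw [add_mul, mul_add, mul_add, e1, e2, e3, ← map_mul ι e g, map_add ι (e * g),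
        map_add ι (e * h + f * g), map_add ι (e * h), add_mul, add_mul]
      abel
    let K2 : Subring (AddMonoid.End V) :=
      { carrier := {u | ∃ e f : K, u = ι e + ι f * α}
        one_mem' := ⟨1, 0, by simp⟩
        zero_mem' := ⟨0, 0, by simp⟩
        add_mem' := by
          rintro _ _ ⟨e, f, rfl⟩ ⟨g, h, rfl⟩
          exact ⟨e + g, f + h, by rw [map_add, map_add, add_mul]; abel⟩
        neg_mem' := by
          rintro _ ⟨e, f, rfl⟩
          exact ⟨-e, -f, by rw [map_neg, map_neg, neg_mul]; abel⟩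
        mul_mem' := by
          rintro _ _ ⟨e, f, rfl⟩ ⟨g, h, rfl⟩
          exact ⟨_, _, hprod e f g h⟩ }
    have hK2mem : ∀ e f : K, ι e + ι f * α ∈ K2 := fun e f => ⟨e, f, rfl⟩
    haveI : Finite ↥K2 := by haveI := hA.finite_end; infer_instance
    haveI : Nontrivial ↥K2 := ⟨0, 1, fun h => zero_ne_one (α := AddMonoid.End V) (congrArg Subtype.val h)⟩
    have hfield : IsField ↥K2 := by
      refine ⟨exists_pair_ne _, ?_, ?_⟩
      · rintro ⟨_, e, f, rfl⟩ ⟨_, g, h, rfl⟩
        apply Subtype.ext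
        show (ι e + ι f * α) * (ι g + ι h * α) = (ι g + ι h * α) * (ι e + ι f * α)
        rw [hprod, hprod]
        congr 2
        · ring
        · congr 1; ring
      · rintro ⟨_, e, f, rfl⟩ hne'
        have hΔ : e * e + e * f * S + f * f * N ≠ 0 := by
          intro h
          by_cases hf : f = 0
          · subst hf
            simp only [mul_zero, zero_mul, add_zero, mul_self_eq_zero] at h
            subst h
            exact hne' (Subtype.ext (by simp))
          · refine hroot (e / f) ?_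
            field_simp
            linear_combination h
        set Δ := e * e + e * f * S + f * f * N
        refine ⟨⟨_, hK2mem ((e + f * S) * Δ⁻¹) (f * Δ⁻¹)⟩, Subtype.ext ?_⟩
        show (ι e + ι f * α) * (ι ((e + f * S) * Δ⁻¹) + ι (f * Δ⁻¹) * α) = 1
        rw [hprod]
        have h1 : e * ((e + f * S) * Δ⁻¹) + f * (f * Δ⁻¹) * N = 1 := by
          rw [show e * ((e + f * S) * Δ⁻¹) + f * (f * Δ⁻¹) * N = Δ * Δ⁻¹ by ring, mul_inv_cancel₀ hΔ]
        have h2 : e * (f * Δ⁻¹) + f * ((e + f * S) * Δ⁻¹) + f * (f * Δ⁻¹) * S = 0 := by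
          linear_combination (e * f + f * f * S) * Δ⁻¹ * (CharTwo.two_eq_zero (R := K))
        rw [h1, h2, map_one, map_zero, zero_mul, add_zero]
    letI : Field ↥K2 := hfield.toField
    letI : Module ↥K2 V := Module.compHom V K2.subtype
    -- conjugation by `y`
    have hY1 : y * (y' * ι P⁻¹) = 1 := by
      rw [← mul_assoc, hP, ← map_mul, mul_inv_cancel₀ hPne, map_one]
    have hY2 : y' * ι P⁻¹ * y = 1 := by
      rw [mul_assoc, hy P⁻¹, ← mul_assoc, hP', ← map_mul, ← map_mul, mul_inv_cancel₀ hPne, map_one,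
        map_one]
    let Yu : (AddMonoid.End V)ˣ := ⟨y, y' * ι P⁻¹, hY1, hY2⟩
    have hconj : ∀ e f : K, y * (ι e + ι f * α) * (y' * ι P⁻¹) = ι (σ⁻¹ e) + ι (σ⁻¹ f) * α := by
      intro e f
      rw [mul_add, ← mul_assoc y (ι f), hy.right, hy.right, mul_assoc _ y α, hyα, ← mul_assoc _ α,
        add_mul, mul_assoc _ y, hY1, mul_assoc (ι (σ⁻¹ f) * α) y, hY1, mul_one, mul_one]
    let ρ₀ : ↥K2 →+* ↥K2 :=
      { toFun := fun u => ⟨y * u * (y' * ι P⁻¹), by
          obtain ⟨e, f, hu⟩ := u.2
          rw [hu, hconj]; exact hK2mem _ _⟩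
        map_one' := Subtype.ext (show y * 1 * (y' * ι P⁻¹) = 1 by rw [mul_one, hY1])
        map_zero' := Subtype.ext (show y * 0 * (y' * ι P⁻¹) = 0 by simp)
        map_add' := fun a b => Subtype.ext (show y * ((a : AddMonoid.End V) + b) * (y' * ι P⁻¹) = _ by
          rw [mul_add, add_mul]; rfl)
        map_mul' := fun a b => Subtype.ext (show y * ((a : AddMonoid.End V) * b) * (y' * ι P⁻¹) = _ by
          calc y * ((a : AddMonoid.End V) * b) * (y' * ι P⁻¹)
              = y * a * (y' * ι P⁻¹ * y) * b * (y' * ι P⁻¹) := by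
                rw [hY2, mul_one]; simp only [mul_assoc]
            _ = _ := by simp only [mul_assoc]; rfl) }
    have hρinj : Function.Injective ρ₀ := by
      intro a b h
      have h' : y * (a : AddMonoid.End V) * (y' * ι P⁻¹) = y * b * (y' * ι P⁻¹) :=
        congrArg Subtype.val h
      exact Subtype.ext ((Yu.mul_right_inj).mp ((Yu⁻¹).mul_left_inj.mp h'))
    let ρ₂ : RingAut ↥K2 := RingEquiv.ofBijective ρ₀ ⟨hρinj, Finite.injective_iff_surjective.mp hρinj⟩
    have hρval : ∀ (n : ℕ) (e f : K), (((ρ₂ ^ n) ⟨_, hK2mem e f⟩ : ↥K2) : AddMonoid.End V)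
        = ι ((σ⁻¹ ^ n) e) + ι ((σ⁻¹ ^ n) f) * α := by
      intro n
      induction n with
      | zero => intro e f; rfl
      | succ n ih =>
        intro e f
        have h2 : ρ₂ ⟨_, hK2mem e f⟩ = ⟨_, hK2mem (σ⁻¹ e) (σ⁻¹ f)⟩ := Subtype.ext (hconj e f)
        have h3 : (ρ₂ ^ (n + 1)) ⟨_, hK2mem e f⟩ = (ρ₂ ^ n) ⟨_, hK2mem (σ⁻¹ e) (σ⁻¹ f)⟩ := by
          rw [pow_succ, ← h2]; rfl
        rw [h3, ih, pow_succ]
        rfl
    have hordρ : orderOf ρ₂ = d := by
      rw [orderOf_eq_iff hd]
      constructor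
      · apply RingEquiv.ext
        rintro ⟨_, e, f, rfl⟩
        apply Subtype.ext
        rw [hρval, inv_pow, hd_def, pow_orderOf_eq_one, inv_one]
        rfl
      · intro m hm hm0 hone
        refine pow_ne_one_of_lt_orderOf (Nat.pos_iff_ne_zero.mp hm0)
          (show m < orderOf σ⁻¹ by rw [orderOf_inv]; exact hm) (RingEquiv.ext fun e => hιinj ?_)
        have h := congrArg Subtype.val (DFunLike.congr_fun hone ⟨_, hK2mem e 0⟩)
        rw [hρval] at h
        simpa using h
    let r₂ : ↥K2 := ⟨α, ⟨0, 1, by simp⟩⟩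
    have hr₂ : r₂ ≠ 0 := fun h => hαne (congrArg Subtype.val h)
    have hr₂f : ρ₂ r₂ = r₂ := Subtype.ext (show y * α * (y' * ι P⁻¹) = α by
      rw [hyα, mul_assoc, hY1, mul_one])
    have hy₂ : ∀ (c : ↥K2) (u : V), y (c • u) = ρ₂ c • y u := by
      intro c u
      show (y * (c : AddMonoid.End V)) u = (y * c * (y' * ι P⁻¹) * y) u
      rw [mul_assoc (y * (c : AddMonoid.End V)), hY2, mul_one]
    obtain ⟨w, hw⟩ := exists_ne (0 : V)
    have hit : (⇑y)^[d] w = r₂ • w := by
      rw [← AddMonoid.End.coe_pow, ← hα_def]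
      rfl
    obtain ⟨v, hv, γ, hγ, hyv'⟩ := exists_eigen ρ₂ hd hordρ y hy₂ hr₂ hr₂f hw hit
    have hyv : y v = γ • v := hyv'
    -- the `K2`-line through `v` is stable under `ι K`, `y` and `y'`
    let L : AddSubgroup V :=
      ((AddMonoidHom.flip (smulAddHom ↥K2 V)) v).range
    have hLι : ∀ (e : K), ∀ u ∈ L, (ι e : AddMonoid.End V) u ∈ L := by
      rintro e _ ⟨c, rfl⟩
      exact ⟨⟨_, hK2mem e 0⟩ * c, by simp [mul_smul]; rfl⟩
    have hLy : ∀ u ∈ L, y u ∈ L := by
      rintro _ ⟨c, rfl⟩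
      refine ⟨ρ₂ c * γ, ?_⟩
      show (ρ₂ c * γ) • v = y (c • v)
      rw [hy₂, hyv, mul_smul]
    have hyinj : Function.Injective y := fun a b h => by
      have := congrArg (y' * ι P⁻¹ : AddMonoid.End V) h
      have e1 := DFunLike.congr_fun hY2 a
      have e2 := DFunLike.congr_fun hY2 b
      exact e1.symm.trans (this.trans e2)
    have hLy' : ∀ u ∈ L, y' u ∈ L := by
      intro u hu
      let yL : ↥L → ↥L := fun a => ⟨y a, hLy a a.2⟩
      have hsurj : Function.Surjective yL :=
        Finite.injective_iff_surjective.mp fun a b h => Subtype.ext (hyinj (congrArg Subtype.val h))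
      obtain ⟨a, ha⟩ := hsurj ⟨u, hu⟩
      have ha' : y (a : V) = u := congrArg Subtype.val ha
      rw [← ha']
      show (y' * y) (a : V) ∈ L
      rw [hP']
      exact hLι _ _ a.2
    -- the second pair
    have hYM : InM ι (σ * σ) (y * y) := hy.mul ι hy
    have hY'M : InM ι (σ * σ)⁻¹ (y' * y') := by
      rw [mul_inv_rev]; exact hy'.mul ι hy'
    have hZ : y * y + y' * y' ∈ A := by
      have h1 : y * y + y' * y' = (y + y') * (y + y') + ι (P + σ P) := by
        rw [map_add, ← hP, ← hP', mul_add, add_mul, add_mul]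
        calc y * y + y' * y' = y * y + y' * y' + (y * y' + y * y') + (y' * y + y' * y) := by
              simp [hA.add_self]
          _ = _ := by abel
      rw [h1]
      exact A.add_mem (hA.sq_mem hX) (hι _)
    have hodd2 : Odd (orderOf (σ * σ)) := by
      have h1 : orderOf (σ * σ) ∣ orderOf σ := by rw [← pow_two]; exact orderOf_pow_dvd 2
      exact Odd.of_dvd_nat hodd h1
    let op : K × K × K →+ AddMonoid.End V :=
      { toFun := fun q => ι q.1 + (y * ι q.2.1 + y' * ι (σ⁻¹ q.2.1))
          + (y * y * ι q.2.2 + y' * y' * ι ((σ * σ)⁻¹ q.2.2))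
        map_zero' := by simp
        map_add' := fun a b => by
          simp only [Prod.fst_add, Prod.snd_add, map_add, mul_add]
          abel }
    have hopA : ∀ q, op q ∈ A := fun q =>
      A.add_mem (A.add_mem (hι _) (phi_mem hA ι hι hmax hodd hy hy' hX _))
        (phi_mem hA ι hι hmax hodd2 hYM hY'M hZ _)
    have hopL : ∀ q, op q v ∈ L := by
      intro q
      have hvL : v ∈ L := ⟨1, by simp⟩
      exact L.add_mem (L.add_mem (hLι _ _ hvL)
        (L.add_mem (hLy _ (hLι _ _ hvL)) (hLy' _ (hLι _ _ hvL))))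
        (L.add_mem (hLy _ (hLy _ (hLι _ _ hvL))) (hLy' _ (hLy' _ (hLι _ _ hvL))))
    let Lmap : K × K × K → ↥L := fun q => ⟨op q v, hopL q⟩
    have hnotinj : ¬ Function.Injective Lmap := by
      intro hinj
      have h1 := Nat.card_le_card_of_injective Lmap hinj
      have h2 : Nat.card ↥L ≤ Nat.card ↥K2 :=
        Nat.card_le_card_of_surjective _ (AddMonoidHom.rangeRestrict_surjective _)
      have h3 : Nat.card ↥K2 ≤ Nat.card (K × K) := by
        refine Nat.card_le_card_of_surjective (fun q : K × K => ⟨_, hK2mem q.1 q.2⟩) ?_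
        rintro ⟨_, e, f, rfl⟩
        exact ⟨(e, f), rfl⟩
      simp only [Nat.card_prod, Nat.card_eq_fintype_card, Fintype.card_prod] at h1 h2 h3
      have h4 := Fintype.one_lt_card (α := K)
      have h5 : Fintype.card K * Fintype.card K < Fintype.card K * (Fintype.card K * Fintype.card K) :=
        lt_mul_of_one_lt_left (Nat.mul_pos (by omega) (by omega)) h4
      omega
    simp only [Function.Injective, not_forall] at hnotinj
    obtain ⟨a, b, hab, hne'⟩ := hnotinj
    obtain ⟨⟨f, c, c₂⟩, hq, hq0⟩ : ∃ q : K × K × K, op q v = 0 ∧ q ≠ 0 := by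
      refine ⟨a - b, ?_, sub_ne_zero.mpr hne'⟩
      rw [map_sub]
      show op a v - op b v = 0
      exact sub_eq_zero.mpr (congrArg Subtype.val hab)
    have hop : ι f + (y * ι c + y' * ι (σ⁻¹ c)) + (y * y * ι c₂ + y' * y' * ι ((σ * σ)⁻¹ c₂)) = 0 := by
      by_contra h
      exact hv (hA.inj (hopA ⟨f, c, c₂⟩) h hq)
    have hne1 : σ⁻¹ ≠ 1 := inv_ne_one.mpr hσ
    have hne2 : (σ * σ)⁻¹ ≠ 1 := inv_ne_one.mpr hne
    have hsσ : σ⁻¹ ≠ σ := fun h => hne (by rw [← mul_inv_cancel σ, h])
    have hσσσ : σ * σ ≠ σ := fun h => hσ (mul_eq_left.mp h)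
    have m1 : InM ι σ (y * ι c) := one_mul σ ▸ hy.mul ι (inM_one_iota ι c)
    have m2 : InM ι σ⁻¹ (y' * ι (σ⁻¹ c)) := one_mul σ⁻¹ ▸ hy'.mul ι (inM_one_iota ι _)
    have m3 : InM ι (σ * σ) (y * y * ι c₂) := one_mul (σ * σ) ▸ hYM.mul ι (inM_one_iota ι c₂)
    have m4 : InM ι (σ * σ)⁻¹ (y' * y' * ι ((σ * σ)⁻¹ c₂)) :=
      one_mul (σ * σ)⁻¹ ▸ hY'M.mul ι (inM_one_iota ι _)
    have hf : f = 0 := by
      have h1 := congrArg (proj ι 1) hop
      rw [map_add, map_add, map_add, map_add, proj_self ι (inM_one_iota ι f), proj_ne ι m1 hσ,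
        proj_ne ι m2 hne1, proj_ne ι m3 hne, proj_ne ι m4 hne2, map_zero, add_zero, add_zero,
        add_zero] at h1
      exact hιinj (h1.trans (map_zero ι).symm)
    have hcancel : ∀ {k : K}, y * ι k = 0 → k = 0 := by
      intro k h
      apply hιinj
      rw [map_zero, ← one_mul (ι k), ← hY2, mul_assoc, h, mul_zero]
    subst hf
    by_cases h3 : (σ * σ)⁻¹ = σ
    · -- order three
      have m4' : InM ι σ (y' * y' * ι ((σ * σ)⁻¹ c₂)) := fun e => (m4 e).trans (by rw [h3])
      have h1 := congrArg (proj ι σ) hop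
      rw [map_zero ι, zero_add, map_add, map_add, map_add, map_zero, proj_self ι m1,
        proj_ne ι m2 hsσ, proj_ne ι m3 hσσσ, proj_self ι m4', add_zero, zero_add] at h1
      by_cases hc₂ : c₂ = 0
      · subst hc₂
        simp only [map_zero, mul_zero, add_zero] at h1
        exact hq0 (by simp [hcancel h1])
      set c₂' := (σ * σ)⁻¹ c₂
      have hc₂' : c₂' ≠ 0 := by simp [c₂', hc₂]
      have h2 : y' * y' = y * ι (c * c₂'⁻¹) := by
        rw [map_mul, ← mul_assoc, hA.eq_of_add h1, mul_assoc, ← map_mul, mul_inv_cancel₀ hc₂',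
          map_one, mul_one]
      obtain ⟨m, hm, hm'⟩ := pow_mul_pow hA ι hι hmax hσ hodd hy hy' hX hy0 hP 2
      rw [pow_two y', h2, ← mul_assoc, ← pow_succ] at hm
      have h3' : d = 3 := by
        have : σ ^ 3 = 1 := by
          calc σ ^ 3 = (σ * σ) * σ := by rw [pow_succ, pow_two]
            _ = (σ * σ) * (σ * σ)⁻¹ := by rw [h3]
            _ = 1 := mul_inv_cancel _
        have hdvd : d ∣ 3 := orderOf_dvd_of_pow_eq_one this
        rcases (Nat.dvd_prime Nat.prime_three).mp hdvd with h | h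
        · exact absurd (orderOf_eq_one_iff.mp h) hσ
        · exact h
      set k := c * c₂'⁻¹
      have hk : k ≠ 0 := by
        intro hk
        apply hm' hPne
        apply hιinj
        rw [← hm, hk, map_zero, mul_zero]
      have hα3 : α = ι (m * k⁻¹) := by
        rw [map_mul, ← hm, mul_assoc, ← map_mul, mul_inv_cancel₀ hk, map_one, mul_one, hα_def, h3']
      refine hroot (m * k⁻¹) (hιinj ?_)
      rw [map_zero, map_add, map_add, map_mul, map_mul ι S, ← hα3, hquad]
      calc ι S * α + ι N + ι S * α + ι N = (ι S * α + ι S * α) + (ι N + ι N) := by abel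
        _ = 0 := by simp [hA.add_self]
    · have h1 := congrArg (proj ι σ) hop
      rw [map_zero ι, zero_add, map_add, map_add, map_add, map_zero, proj_self ι m1,
        proj_ne ι m2 hsσ, proj_ne ι m3 hσσσ, proj_ne ι m4 h3] at h1
      simp only [add_zero, zero_add] at h1
      have hc : c = 0 := hcancel h1
      subst hc
      simp only [map_zero, mul_zero, add_zero, zero_add] at hop
      have h4 : (σ * σ)⁻¹ ≠ σ * σ := by
        intro h
        have h5 : (σ * σ) * (σ * σ) = 1 := by
          calc (σ * σ) * (σ * σ) = (σ * σ) * (σ * σ)⁻¹ := by rw [h]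
            _ = 1 := mul_inv_cancel _
        exact sq_ne_one (σ := σ * σ) hne hodd2 h5
      have h2 := congrArg (proj ι (σ * σ)) hop
      rw [map_add, map_zero, proj_self ι m3, proj_ne ι m4 h4, add_zero] at h2
      have hc₂ : c₂ = 0 := by
        apply hcancel
        have := congrArg ((y' * ι P⁻¹) * ·) h2
        simp only [mul_zero] at this
        rw [← mul_assoc, ← mul_assoc (y' * ι P⁻¹), hY2, one_mul] at this
        exact this
      exact hq0 (by simp [hc₂])

end Odd

end Core

/-! ### Conclusion -/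

namespace IsJordanSet

variable [Finite V] {A : AddSubgroup (AddMonoid.End V)} (hA : IsJordanSet A)
include hA

/-- A commutative subring inside `A` is a field. -/
theorem isField_of_subring [Nontrivial (AddMonoid.End V)] (R : Subring (AddMonoid.End V))
    (hR : ∀ x ∈ R, x ∈ A) (hcomm : ∀ x ∈ R, ∀ y ∈ R, x * y = y * x) : IsField ↥R := by
  haveI := hA.finite_end
  refine ⟨exists_pair_ne _, fun x y => Subtype.ext (hcomm _ x.2 _ y.2), ?_⟩
  intro a ha
  have hinj : Function.Injective fun x : ↥R => a * x := by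
    intro x y h
    refine Subtype.ext (sub_eq_zero.mp ?_)
    by_contra hxy
    refine ha (Subtype.ext (hA.eq_zero_of_mul (hR _ a.2) ?_ hxy))
    rw [mul_sub, sub_eq_zero]
    exact congrArg Subtype.val h
  exact Finite.injective_iff_surjective.mp hinj 1

/-- `A` is commutative; with `mul_mem_of_comm` it is therefore a field. -/
theorem comm {a b : AddMonoid.End V} (ha : a ∈ A) (hb : b ∈ A) : a * b = b * a := by
  classical
  rcases subsingleton_or_nontrivial V with hV | hV
  · exact AddMonoidHom.ext fun v => Subsingleton.elim _ _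
  haveI : Nontrivial (AddMonoid.End V) := by
    obtain ⟨v, hv⟩ := exists_ne (0 : V)
    exact ⟨0, 1, fun h => hv (DFunLike.congr_fun h v).symm⟩
  haveI := hA.finite_end
  obtain ⟨c₀, hc₀⟩ := Finite.exists_max fun c : ↥A =>
    Nat.card ↥(Subring.closure ({(c : AddMonoid.End V)} : Set (AddMonoid.End V)))
  set E := Subring.closure ({(c₀ : AddMonoid.End V)} : Set (AddMonoid.End V))
  have hcomm₀ : ∀ x ∈ ({(c₀ : AddMonoid.End V)} : Set (AddMonoid.End V)),
      ∀ y ∈ ({(c₀ : AddMonoid.End V)} : Set (AddMonoid.End V)), x * y = y * x := by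
    intro x hx y hy
    rw [Set.mem_singleton_iff.mp hx, Set.mem_singleton_iff.mp hy]
  have hEA : ∀ x ∈ E, x ∈ A := fun x hx =>
    hA.closure_mem (Set.singleton_subset_iff.mpr c₀.2) hcomm₀ hx
  have hEc : ∀ x ∈ E, ∀ y ∈ E, x * y = y * x := fun x hx y hy => hA.closure_comm hcomm₀ hx hy
  letI : Field ↥E := (hA.isField_of_subring E hEA hEc).toField
  haveI : CharP ↥E 2 := (CharP.charP_iff_prime_eq_zero Nat.prime_two).mpr
    (by
      rw [Nat.cast_ofNat, ← one_add_one_eq_two]
      exact Subtype.ext (hA.add_self 1))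
  letI : Fintype ↥E := Fintype.ofFinite _
  haveI : Finite (RingAut ↥E) := Finite.of_injective _ DFunLike.coe_injective
  letI : Fintype (RingAut ↥E) := Fintype.ofFinite _
  let ι : ↥E →+* AddMonoid.End V := E.subtype
  have hι : ∀ e, ι e ∈ A := fun e => hEA _ e.2
  have hmax : ∀ c ∈ A, (∀ e, ι e * c = c * ι e) → ∃ k, ι k = c := by
    intro c hc hce
    have hS : ∀ x ∈ insert c (E : Set (AddMonoid.End V)),
        ∀ y ∈ insert c (E : Set (AddMonoid.End V)), x * y = y * x := by
      rintro x (rfl | hx) y (rfl | hy)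
      · rfl
      · exact (hce ⟨y, hy⟩).symm
      · exact hce ⟨x, hx⟩
      · exact hEc _ hx _ hy
    have hSA : insert c (E : Set (AddMonoid.End V)) ⊆ A := Set.insert_subset hc hEA
    set F := Subring.closure (insert c (E : Set (AddMonoid.End V)))
    have hEF : (E : Set (AddMonoid.End V)) ⊆ F :=
      (Set.subset_insert c _).trans Subring.subset_closure
    letI : Field ↥F := (hA.isField_of_subring F (fun x hx => hA.closure_mem hSA hS hx)
      (fun x hx y hy => hA.closure_comm hS hx hy)).toField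
    obtain ⟨g, hg⟩ := IsCyclic.exists_monoid_generator (α := (↥F)ˣ)
    have hgA : ((g : ↥F) : AddMonoid.End V) ∈ A := hA.closure_mem hSA hS (g : ↥F).2
    have hFG : (F : Set (AddMonoid.End V)) ⊆
        Subring.closure ({((g : ↥F) : AddMonoid.End V)} : Set (AddMonoid.End V)) := by
      intro x hx
      by_cases h0 : (⟨x, hx⟩ : ↥F) = 0
      · rw [show x = 0 from congrArg Subtype.val h0]
        exact zero_mem _
      · obtain ⟨n, hn⟩ := hg (Units.mk0 _ h0)
        have h1 : ((g : ↥F) : AddMonoid.End V) ^ n = x := by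
          have := congrArg (fun u : (↥F)ˣ => ((u : ↥F) : AddMonoid.End V)) hn
          simpa using this
        rw [← h1]
        exact _root_.pow_mem (Subring.subset_closure (Set.mem_singleton _)) n
    have heq : (E : Set (AddMonoid.End V)) = F := by
      refine Set.eq_of_subset_of_ncard_le hEF ?_
      calc (F : Set (AddMonoid.End V)).ncard
          ≤ (Subring.closure ({((g : ↥F) : AddMonoid.End V)} : Set (AddMonoid.End V))
              : Set (AddMonoid.End V)).ncard := Set.ncard_le_ncard hFG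
        _ ≤ (E : Set (AddMonoid.End V)).ncard := by
            simpa [← Nat.card_coe_set_eq] using hc₀ ⟨_, hgA⟩
    have hcE : c ∈ E := by
      have h1 : c ∈ (F : Set (AddMonoid.End V)) := Subring.subset_closure (Set.mem_insert _ _)
      rwa [← heq] at h1
    exact ⟨⟨c, hcE⟩, rfl⟩
  have hzero : ∀ σ : RingAut ↥E, σ ≠ 1 → ∀ x ∈ A, proj ι σ x = 0 := by
    intro σ hσ x hx
    by_contra hne
    obtain ⟨τ, hτ, hodd, z, hz, hzne⟩ := exists_odd hA ι hι hmax _ σ rfl hσ x hx hne
    exact no_odd_component hA ι hι hmax hτ hodd (inM_proj ι τ z) (inM_proj ι τ⁻¹ z)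
      (pair_mem hA ι hι τ hz) hzne
  have hrange : ∀ x ∈ A, ∃ k, ι k = x := by
    intro x hx
    refine mem_range_of_inM_one ι hmax hx ?_
    have h := sum_proj ι x
    rw [Finset.sum_eq_single (1 : RingAut ↥E) (fun σ _ hσ => hzero σ hσ x hx)
      (fun h => absurd (Finset.mem_univ _) h)] at h
    rw [← h]
    exact inM_proj ι 1 x
  obtain ⟨k, rfl⟩ := hrange a ha
  obtain ⟨l, rfl⟩ := hrange b hb
  exact hEc _ k.2 _ l.2

/-- `A` is closed under multiplication. -/
theorem mul_mem {a b : AddMonoid.End V} (ha : a ∈ A) (hb : b ∈ A) : a * b ∈ A :=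
  hA.mul_mem_of_comm ha hb (hA.comm ha hb)

end IsJordanSet

end Cfsg.Agent.Lib.K41.JordanField
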