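import Cfsg.Prelude.Def_ClassificationK
import Cfsg.Agent.Lib.Components.GenFitting

/-!
Basic facts on an involution `z` whose centralizer has a 2-group of symplectic type as generalized
Fitting subgroup.
-/

set_option autoImplicit false

namespace Cfsg.Agent.Lib.K41.Symplectic

open Cfsg

variable {G : Type*} [Group G] [Finite G]

/-- An element in the centre of a group lies in `F*`. -/
theorem mem_gfit_of_mem_center {H : Type*} [Group H] [Finite H] {x : H}
    (hx : x ∈ Subgroup.center H) : x ∈ generalizedFittingSubgroup H :=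
  Cfsg.Agent.Lib.Components.GenFitting.centralizer_le
    (Subgroup.center_le_centralizer _ hx)

/-- `z` as an element of its centralizer lies in the centre. -/
theorem self_mem_center (z : G) :
    (⟨z, Subgroup.mem_centralizer_singleton_iff.mpr rfl⟩ : ↥(Subgroup.centralizer ({z} : Set G))) ∈
      Subgroup.center ↥(Subgroup.centralizer ({z} : Set G)) := by
  rw [Subgroup.mem_center_iff]
  intro c
  exact Subtype.ext (Subgroup.mem_centralizer_singleton_iff.mp c.2)

/-- The image of `F*(C(z))` in `G`. -/
noncomputable def Qz (z : G) : Subgroup G :=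
  (generalizedFittingSubgroup ↥(Subgroup.centralizer ({z} : Set G))).map
    (Subgroup.centralizer ({z} : Set G)).subtype

theorem self_mem_Qz (z : G) : z ∈ Qz z :=
  ⟨_, mem_gfit_of_mem_center (self_mem_center z), rfl⟩

theorem Qz_le (z : G) : Qz z ≤ Subgroup.centralizer ({z} : Set G) := Subgroup.map_subtype_le _

omit [Finite G] in
theorem commute_of_mem_Qz {z q : G} (hq : q ∈ Qz z) : q * z = z * q := by
  obtain ⟨c, -, rfl⟩ := hq
  exact Subgroup.mem_centralizer_singleton_iff.mp c.2

/-- In a cyclic group an element of order two is unique. -/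
theorem invol_unique {H : Type*} [Group H] [Finite H] [IsCyclic H] {a b : H} (ha : orderOf a = 2)
    (hb : orderOf b = 2) : a = b := by
  classical
  haveI := Fintype.ofFinite H
  have hd : 2 ∣ Fintype.card H := ha ▸ orderOf_dvd_card
  have h1 := IsCyclic.card_orderOf_eq_totient (α := H) hd
  by_contra hne
  have h2 : ({a, b} : Finset H) ⊆ Finset.univ.filter (fun x => orderOf x = 2) := by
    intro x hx
    simp only [Finset.mem_insert, Finset.mem_singleton] at hx
    rcases hx with rfl | rfl <;> simp [ha, hb]
  have := Finset.card_le_card h2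
  rw [Finset.card_pair hne, h1, Nat.totient_two] at this
  omega

/-- In a 2-group of symplectic type the centre has a unique involution. -/
theorem central_invol_unique {T : Type*} [Group T] [Finite T] (hT : IsOfSymplecticType T) {a b : T}
    (ha : a ∈ Subgroup.center T) (hb : b ∈ Subgroup.center T) (ha2 : orderOf a = 2)
    (hb2 : orderOf b = 2) : a = b := by
  haveI : IsMulCommutative ↥(Subgroup.center T) := inferInstance
  haveI := hT.2 (Subgroup.center T) inferInstance inferInstance
  have := invol_unique (a := (⟨a, ha⟩ : Subgroup.center T)) (b := ⟨b, hb⟩)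
    (by rw [Subgroup.orderOf_mk, ha2]) (by rw [Subgroup.orderOf_mk, hb2])
  exact congrArg Subtype.val this

/-- An element of order two of `Qz z` which is central in `Qz z` equals `z`. -/
theorem eq_of_central {z : G} (hz : orderOf z = 2)
    (hQ : IsOfSymplecticType ↥(generalizedFittingSubgroup ↥(Subgroup.centralizer ({z} : Set G))))
    {u : G} (hu : u ∈ Qz z) (hu2 : orderOf u = 2) (huc : ∀ q ∈ Qz z, q * u = u * q) : u = z := by
  obtain ⟨c, hc, rfl⟩ := hu
  set F := generalizedFittingSubgroup ↥(Subgroup.centralizer ({z} : Set G))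
  have hzF : (⟨z, Subgroup.mem_centralizer_singleton_iff.mpr rfl⟩ :
      ↥(Subgroup.centralizer ({z} : Set G))) ∈ F := mem_gfit_of_mem_center (self_mem_center z)
  have := central_invol_unique hQ (a := (⟨c, hc⟩ : F)) (b := ⟨_, hzF⟩)
    (Subgroup.mem_center_iff.mpr fun q => Subtype.ext (Subtype.ext (huc _ ⟨q, q.2, rfl⟩)))
    (Subgroup.mem_center_iff.mpr fun q => Subtype.ext
      (Subgroup.mem_center_iff.mp (self_mem_center z) q))
    (by rw [Subgroup.orderOf_mk, ← hu2]; exact (Subgroup.orderOf_coe c).symm)
    (by rw [Subgroup.orderOf_mk, Subgroup.orderOf_mk, hz])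
  exact congrArg (fun v : F => ((v : ↥(Subgroup.centralizer ({z} : Set G))) : G)) this

end Cfsg.Agent.Lib.K41.Symplectic
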