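import Cfsg.Prelude.Def_Amalgam
import Cfsg.Prelude.Def_Local
import Cfsg.Prelude.Def_Transfer
import Cfsg.Agent.S1757
import Cfsg.Agent.Lib.CosetGraph.SylowIn
import Cfsg.Agent.Lib.Components.GenFitting
import Cfsg.Agent.Lib.PGroups.Omega
import Cfsg.Agent.Lib.PGroups.Frattini

/-!
A TI maximal abelian normal subgroup `V` of its normalizer with a conjugate in `O₂(N(V))`:
elementary consequences, up to `V ≤ O₂(N(V'))`.
-/

set_option autoImplicit false
set_option linter.all false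

namespace Cfsg.Agent.Lib.K41.TIWeak

open Cfsg
open Cfsg.Agent.Lib.CosetGraph
open scoped commutatorElement Pointwise

variable {G : Type*} [Group G]

/-- Conjugate of a subgroup. -/
abbrev cj (x : G) (H : Subgroup G) : Subgroup G := H.map (MulAut.conj x).toMonoidHom

/-- The normalizer. -/
abbrev Nm (V : Subgroup G) : Subgroup G := Subgroup.normalizer (V : Set G)

/-- `O₂(N(V))`. -/
abbrev Qof (V : Subgroup G) : Subgroup G := (pCore 2 ↥(Nm V)).map (Nm V).subtype

/-- `C_{O₂(N(V))}(V)`. -/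
abbrev Pof (V : Subgroup G) : Subgroup G := Qof V ⊓ Subgroup.centralizer (V : Set G)

theorem mem_cj {x y : G} {H : Subgroup G} : y ∈ cj x H ↔ x⁻¹ * y * x ∈ H := by
  constructor
  · rintro ⟨h, hh, rfl⟩
    simpa [mul_assoc] using hh
  · intro h
    exact ⟨_, h, by simp [mul_assoc]⟩

theorem conj_mem_cj {x h : G} {H : Subgroup G} (hh : h ∈ H) : x * h * x⁻¹ ∈ cj x H := ⟨h, hh, rfl⟩

theorem cj_mul (x y : G) (H : Subgroup G) : cj x (cj y H) = cj (x * y) H := by
  ext z
  simp only [mem_cj, mul_inv_rev, mul_assoc]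

theorem cj_one (H : Subgroup G) : cj 1 H = H := by
  ext z; simp only [mem_cj, inv_one, one_mul, mul_one]

theorem cj_inv_cj (x : G) (H : Subgroup G) : cj x⁻¹ (cj x H) = H := by
  rw [cj_mul, inv_mul_cancel, cj_one]

theorem cj_mono (x : G) {H K : Subgroup G} (h : H ≤ K) : cj x H ≤ cj x K := Subgroup.map_mono h

theorem card_cj (x : G) (H : Subgroup G) : Nat.card ↥(cj x H) = Nat.card ↥H :=
  Subgroup.card_map_of_injective (MulAut.conj x).injective

theorem nm_cj (x : G) (V : Subgroup G) : cj x (Nm V) = Nm (cj x V) :=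
  Subgroup.map_equiv_normalizer_eq V (MulAut.conj x)

theorem qof_cj (x : G) (V : Subgroup G) : cj x (Qof V) = Qof (cj x V) := by
  have h := SylowIn.pCoreOf_map 2 (Nm V) (MulAut.conj x).toMonoidHom (MulAut.conj x).injective
  rw [show (Nm V).map (MulAut.conj x).toMonoidHom = Nm (cj x V) from nm_cj x V] at h
  exact h

theorem cent_cj (x : G) (V : Subgroup G) :
    cj x (Subgroup.centralizer (V : Set G)) = Subgroup.centralizer (cj x V : Set G) := by
  ext y
  simp only [mem_cj, Subgroup.mem_centralizer_iff, SetLike.mem_coe]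
  constructor
  · intro h z hz
    have := h _ hz
    have h2 := congrArg (fun t => x * t * x⁻¹) this
    simpa [mul_assoc] using h2
  · intro h z hz
    have := h (x * z * x⁻¹) (by simpa [mul_assoc] using hz)
    have h2 := congrArg (fun t => x⁻¹ * t * x) this
    simpa [mul_assoc] using h2

theorem pof_cj (x : G) (V : Subgroup G) : cj x (Pof V) = Pof (cj x V) := by
  rw [cj, Subgroup.map_inf_eq _ _ _ (MulAut.conj x).injective]
  exact congrArg₂ (· ⊓ ·) (qof_cj x V) (cent_cj x V)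

theorem cj_eq_of_mem {m : G} {V : Subgroup G} (hm : m ∈ Nm V) : cj m V = V := by
  ext y
  rw [mem_cj]
  exact (Subgroup.mem_normalizer_iff''.mp hm y).symm

theorem mem_nm_of_cj_eq {m : G} {V : Subgroup G} (h : cj m V = V) : m ∈ Nm V := by
  rw [Subgroup.mem_normalizer_iff]
  intro y
  constructor
  · intro hy; rw [← h]; exact conj_mem_cj hy
  · intro hy
    rw [← h, mem_cj] at hy
    simpa [mul_assoc] using hy

/-! ### Commutator identities with central values -/

theorem commElem_mul_right {x y z : G} (h : y * ⁅x, z⁆ = ⁅x, z⁆ * y) :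
    ⁅x, y * z⁆ = ⁅x, y⁆ * ⁅x, z⁆ := by
  calc ⁅x, y * z⁆ = ⁅x, y⁆ * (y * ⁅x, z⁆ * y⁻¹) := by
        simp [commutatorElement_def, mul_assoc]
    _ = ⁅x, y⁆ * ⁅x, z⁆ := by rw [h, mul_inv_cancel_right]

theorem commElem_mul_left {x y z : G} (h : x * ⁅y, z⁆ = ⁅y, z⁆ * x) :
    ⁅x * y, z⁆ = ⁅y, z⁆ * ⁅x, z⁆ := by
  calc ⁅x * y, z⁆ = (x * ⁅y, z⁆ * x⁻¹) * ⁅x, z⁆ := by
        simp [commutatorElement_def, mul_assoc]
    _ = ⁅y, z⁆ * ⁅x, z⁆ := by rw [h, mul_inv_cancel_right]

theorem conj_eq_mul (x y : G) : x * y * x⁻¹ = ⁅x, y⁆ * y := by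
  simp [commutatorElement_def, mul_assoc]

/-- The data of a TI maximal abelian normal subgroup of a normalizer of characteristic 2. -/
structure TIData (V : Subgroup G) : Prop where
  comm : ∀ x ∈ V, ∀ y ∈ V, x * y = y * x
  sq : ∀ x ∈ V, x * x = 1
  maxAb : ∀ A : Subgroup G, V ≤ A → A ≤ Nm V → IsMulCommutative ↥A →
      (∀ m ∈ Nm V, ∀ a ∈ A, m * a * m⁻¹ ∈ A) → A = V
  cent : ∀ x ∈ Nm V, (∀ q ∈ Qof V, x * q = q * x) → x ∈ Qof V
  ti : ∀ x : G, cj x V = V ∨ cj x V ⊓ V = ⊥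

theorem TIData.map {V : Subgroup G} (T : TIData V) (g : G) : TIData (cj g V) where
  comm := by
    rintro _ ⟨a, ha, rfl⟩ _ ⟨b, hb, rfl⟩
    rw [← map_mul, ← map_mul, T.comm a ha b hb]
  sq := by
    rintro _ ⟨a, ha, rfl⟩
    rw [← map_mul, T.sq a ha, map_one]
  maxAb := by
    intro A hVA hA hc hinv
    have h1 : cj g⁻¹ A = V := by
      refine T.maxAb _ ?_ ?_ inferInstance ?_
      · rw [← cj_inv_cj g V]; exact cj_mono _ hVA
      · rw [← cj_inv_cj g (Nm V), nm_cj]; exact cj_mono _ hA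
      · intro m hm a ha
        have hm' : g * m * g⁻¹ ∈ Nm (cj g V) := nm_cj g V ▸ conj_mem_cj hm
        rw [mem_cj, inv_inv] at ha ⊢
        have := hinv _ hm' _ ha
        simpa [mul_assoc] using this
    rw [← h1, cj_mul, mul_inv_cancel, cj_one]
  cent := by
    intro x hx hq
    rw [← nm_cj, mem_cj] at hx
    rw [← qof_cj, mem_cj]
    refine T.cent _ hx fun q hq' => ?_
    have := hq (g * q * g⁻¹) (qof_cj g V ▸ conj_mem_cj hq')
    have h2 := congrArg (fun t => g⁻¹ * t * g) this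
    simpa [mul_assoc] using h2
  ti := by
    intro x
    have e : cj x (cj g V) = cj g (cj (g⁻¹ * x * g) V) := by
      rw [cj_mul, cj_mul]; congr 1; group
    rcases T.ti (g⁻¹ * x * g) with h | h
    · left; rw [e, h]
    · right
      rw [e, cj, cj, ← Subgroup.map_inf_eq _ _ _ (MulAut.conj g).injective]
      rw [show cj (g⁻¹ * x * g) V ⊓ V = ⊥ from h, Subgroup.map_bot]

namespace TIData

variable [Finite G] {V : Subgroup G} (T : TIData V)
include T

omit [Finite G] in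
theorem inv_eq {x : G} (hx : x ∈ V) : x⁻¹ = x := inv_eq_of_mul_eq_one_left (T.sq x hx)

omit [Finite G] in
theorem eq_of_common {x y w : G} (h1 : w ∈ cj x V) (h2 : w ∈ cj y V) (hw : w ≠ 1) :
    cj x V = cj y V := by
  rcases T.ti (y⁻¹ * x) with h | h
  · rw [← congrArg (cj y) h, cj_mul, mul_inv_cancel_left]
  · exfalso
    have h3 : y⁻¹ * w * y ∈ cj (y⁻¹ * x) V ⊓ V := by
      refine ⟨mem_cj.mpr ?_, mem_cj.mp h2⟩
      have := mem_cj.mp h1
      simpa [mul_assoc] using this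
    rw [h, Subgroup.mem_bot] at h3
    exact hw (by simpa [mul_assoc, mul_eq_one_iff_eq_inv] using congrArg (fun t => y * t * y⁻¹) h3)

theorem isPGroup_self : IsPGroup 2 ↥V :=
  fun x => ⟨1, Subtype.ext (by simpa [pow_two] using T.sq _ x.2)⟩

theorem le_qof : V ≤ Qof V :=
  SylowIn.le_pCoreOf Subgroup.le_normalizer le_rfl T.isPGroup_self

theorem qof_le : Qof V ≤ Nm V := Subgroup.map_subtype_le _

theorem isPGroup_qof : IsPGroup 2 ↥(Qof V) := SylowIn.isPGroup_pCoreOf 2 (Nm V)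

theorem isPGroup_pof : IsPGroup 2 ↥(Pof V) := T.isPGroup_qof.to_le inf_le_left

theorem le_pof : V ≤ Pof V := le_inf T.le_qof fun x hx y hy => T.comm y hy x hx

omit [Finite G] in
theorem pof_comm {x v : G} (hx : x ∈ Pof V) (hv : v ∈ V) : x * v = v * x := (hx.2 v hv).symm

theorem pof_le : Pof V ≤ Nm V := inf_le_left.trans T.qof_le

theorem pof_conj {m x : G} (hm : m ∈ Nm V) (hx : x ∈ Pof V) : m * x * m⁻¹ ∈ Pof V := by
  have h := conj_mem_cj (x := m) hx
  rwa [pof_cj, cj_eq_of_mem hm] at h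

theorem qof_conj {m x : G} (hm : m ∈ Nm V) (hx : x ∈ Qof V) : m * x * m⁻¹ ∈ Qof V := by
  have h := conj_mem_cj (x := m) hx
  rwa [qof_cj, cj_eq_of_mem hm] at h

/-- An invariant abelian subgroup of `P` lies in `V`. -/
theorem abel_le {A : Subgroup G} (hA : A ≤ Pof V) (hc : ∀ a ∈ A, ∀ b ∈ A, a * b = b * a)
    (hinv : ∀ m ∈ Nm V, ∀ a ∈ A, m * a * m⁻¹ ∈ A) : A ≤ V := by
  have hle : A ⊔ V ≤ Nm V := sup_le (hA.trans T.pof_le) Subgroup.le_normalizer
  have hcent : A ⊔ V ≤ Subgroup.centralizer ((A ⊔ V : Subgroup G) : Set G) := by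
    rw [Subgroup.le_centralizer_iff, sup_le_iff]
    refine ⟨?_, ?_⟩ <;> rw [Subgroup.le_centralizer_iff, sup_le_iff]
    · exact ⟨fun a ha b hb => hc b hb a ha, fun v hv a ha => T.pof_comm (hA ha) hv⟩
    · exact ⟨fun a ha v hv => (T.pof_comm (hA ha) hv).symm, fun v hv w hw => T.comm w hw v hv⟩
  have h := T.maxAb (A ⊔ V) le_sup_right hle
    ⟨⟨fun a b => Subtype.ext ((hcent a.2 (b : G) b.2).symm)⟩⟩ ?_
  · exact h ▸ le_sup_left
  intro m hm a ha
  have : cj m (A ⊔ V) ≤ A ⊔ V := by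
    rw [cj, Subgroup.map_sup, sup_le_iff]
    exact ⟨fun x ⟨a, ha, e⟩ => e ▸ Subgroup.mem_sup_left (hinv m hm a ha),
      (cj_eq_of_mem hm).le.trans le_sup_right⟩
  exact this (conj_mem_cj ha)

theorem center_pof {x : G} (hx : x ∈ Pof V) (hc : ∀ y ∈ Pof V, x * y = y * x) : x ∈ V := by
  refine T.abel_le (A := Pof V ⊓ Subgroup.centralizer (Pof V : Set G)) inf_le_left
    (fun a ha b hb => (ha.2 b hb.1).symm) ?_ ⟨hx, fun y hy => (hc y hy).symm⟩
  intro m hm a ha
  refine ⟨T.pof_conj hm ha.1, fun y hy => ?_⟩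
  have := ha.2 _ (T.pof_conj ((Nm V).inv_mem hm) hy)
  have h2 := congrArg (fun t => m * t * m⁻¹) this
  simpa [mul_assoc] using h2

/-- `P/V` is abelian. -/
theorem commElem_mem {x y : G} (hx : x ∈ Pof V) (hy : y ∈ Pof V) : ⁅x, y⁆ ∈ V := by
  by_contra hne
  let E : Subgroup G :=
    { carrier := {d | d ∈ ⁅Pof V, Pof V⁆ ∧ d ∈ Pof V ∧ ∀ z ∈ Pof V, ⁅d, z⁆ ∈ V}
      one_mem' := ⟨one_mem _, one_mem _, fun z _ => by simp [one_mem]⟩
      mul_mem' := fun {a b} ⟨a1, a2, a3⟩ ⟨b1, b2, b3⟩ => ⟨mul_mem a1 b1, mul_mem a2 b2, fun z hz => by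
        rw [commElem_mul_left (T.pof_comm a2 (b3 z hz))]
        exact mul_mem (b3 z hz) (a3 z hz)⟩
      inv_mem' := fun {a} ⟨a1, a2, a3⟩ => ⟨inv_mem a1, inv_mem a2, fun z hz => by
        have h : ⁅a, z⁆⁻¹ ∈ V := inv_mem (a3 z hz)
        rw [commutatorElement_inv_left, ← commutatorElement_inv, mul_assoc,
          ← T.pof_comm a2 h, inv_mul_cancel_left]
        exact h⟩ }
  have hE : E ≤ V := by
    refine T.abel_le (fun d hd => hd.2.1) ?_ ?_
    · intro a ha b hb
      have hsub : ⁅Pof V, Pof V⁆ ≤ Subgroup.centralizer ({a} : Set G) := by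
        rw [Subgroup.commutator_le]
        intro p hp q hq
        rw [Subgroup.mem_centralizer_singleton_iff]
        have e : a * ⁅p, q⁆ * a⁻¹ = ⁅p, q⁆ := by
          rw [conjugate_commutatorElement, conj_eq_mul a p, conj_eq_mul a q]
          have hu := ha.2.2 p hp
          have hw := ha.2.2 q hq
          have hq' : ⁅a, q⁆ * q ∈ Pof V := mul_mem (T.le_pof hw) hq
          have c1 : ⁅⁅a, p⁆, q⁆ = 1 :=
            commutatorElement_eq_one_iff_mul_comm.mpr (T.pof_comm hq hu).symm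
          have c2 : ⁅⁅a, p⁆, ⁅a, q⁆⁆ = 1 :=
            commutatorElement_eq_one_iff_mul_comm.mpr (T.comm _ hu _ hw)
          have c3 : ⁅p, ⁅a, q⁆⁆ = 1 :=
            commutatorElement_eq_one_iff_mul_comm.mpr (T.pof_comm hp hw)
          have c4 : ⁅⁅a, p⁆, ⁅a, q⁆ * q⁆ = 1 :=
            commutatorElement_eq_one_iff_mul_comm.mpr (T.pof_comm hq' hu).symm
          rw [commutatorElement_mul_left_eq_conj_mul]
          simp only [c4, mul_one]
          have h5 : ⁅p, ⁅a, q⁆ * q⁆ = ⁅p, q⁆ := by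
            rw [commutatorElement_mul_right_eq_mul_conj, c3, one_mul]
            have : ⁅a, q⁆ * ⁅p, q⁆ = ⁅p, q⁆ * ⁅a, q⁆ :=
              (T.pof_comm (commutatorElement_def p q ▸
                mul_mem (mul_mem (mul_mem hp hq) (inv_mem hp)) (inv_mem hq)) hw).symm
            rw [this, mul_inv_cancel_right]
          rw [h5]
          have h6 : ⁅a, p⁆ * ⁅p, q⁆ = ⁅p, q⁆ * ⁅a, p⁆ :=
            (T.pof_comm (commutatorElement_def p q ▸
              mul_mem (mul_mem (mul_mem hp hq) (inv_mem hp)) (inv_mem hq)) hu).symm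
          rw [h6, mul_inv_cancel_right]
        exact mul_inv_eq_iff_eq_mul.mp e |>.symm
      exact (Subgroup.mem_centralizer_singleton_iff.mp (hsub hb.1)).symm
    · intro m hm a ha
      refine ⟨?_, T.pof_conj hm ha.2.1, fun z hz => ?_⟩
      · have h := conj_mem_cj (x := m) ha.1
        have e : (Pof V).map (MulAut.conj m).toMonoidHom = Pof V :=
          (pof_cj m V).trans (by rw [cj_eq_of_mem hm])
        rwa [cj, Subgroup.map_commutator, e] at h
      · have h := ha.2.2 _ (T.pof_conj ((Nm V).inv_mem hm) hz)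
        have h2 := conj_mem_cj (x := m) h
        rw [cj_eq_of_mem hm, conjugate_commutatorElement] at h2
        simpa [mul_assoc] using h2
  -- a nontrivial normal subgroup of `P/V` meets the centre
  haveI : (V.subgroupOf (Pof V)).Normal := ⟨fun n hn g => by
    show ((g : G) * n * (g : G)⁻¹) ∈ V
    rw [T.pof_comm g.2 (show (n : G) ∈ V from hn), mul_inv_cancel_right]
    exact hn⟩
  set N : Subgroup (↥(Pof V) ⧸ V.subgroupOf (Pof V)) :=
    (commutator ↥(Pof V)).map (QuotientGroup.mk' _)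
  haveI : N.Normal := Subgroup.Normal.map inferInstance _ (QuotientGroup.mk'_surjective _)
  have hN : N ≠ ⊥ := by
    intro h
    have hm : QuotientGroup.mk' (V.subgroupOf (Pof V)) ⁅(⟨x, hx⟩ : ↥(Pof V)), ⟨y, hy⟩⁆ ∈ N :=
      Subgroup.mem_map_of_mem _ (Subgroup.commutator_mem_commutator trivial trivial)
    rw [h, Subgroup.mem_bot, QuotientGroup.mk'_apply, QuotientGroup.eq_one_iff] at hm
    exact hne hm
  have hmeet := Cfsg.Agent.Lib.PGroups.normal_inf_center_ne_bot
    (T.isPGroup_pof.to_quotient (V.subgroupOf (Pof V))) N hN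
  obtain ⟨d', hd', hdne⟩ := SetLike.exists_of_lt (bot_lt_iff_ne_bot.mpr hmeet)
  obtain ⟨d, hd, rfl⟩ := hd'.1
  refine hdne ?_
  rw [Subgroup.mem_bot, QuotientGroup.mk'_apply, QuotientGroup.eq_one_iff]
  show (d : G) ∈ V
  refine hE ⟨?_, d.2, fun z hz => ?_⟩
  · have h1 : (commutator ↥(Pof V)).map (Pof V).subtype = ⁅Pof V, Pof V⁆ :=
      Subgroup.map_subtype_commutator _
    rw [← h1]
    exact ⟨d, hd, rfl⟩
  · have h1 := Subgroup.mem_center_iff.mp hd'.2 (QuotientGroup.mk' _ ⟨z, hz⟩)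
    have h2 : QuotientGroup.mk' (V.subgroupOf (Pof V)) ⁅d, (⟨z, hz⟩ : ↥(Pof V))⁆ = 1 := by
      rw [map_commutatorElement, commutatorElement_eq_one_iff_mul_comm]
      exact h1.symm
    rw [QuotientGroup.mk'_apply, QuotientGroup.eq_one_iff] at h2
    exact h2

theorem sq_mem {x : G} (hx : x ∈ Pof V) : x * x ∈ V := by
  refine T.center_pof (mul_mem hx hx) fun y hy => ?_
  have hc := T.commElem_mem hx hy
  have h : ⁅x * x, y⁆ = 1 := by
    rw [commElem_mul_left (T.pof_comm hx hc), T.sq _ hc]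
  exact commutatorElement_eq_one_iff_mul_comm.mp h

end TIData

/-- `V'` is a conjugate of `V`, different from it, inside `O₂(N(V))`. -/
structure Pair (V V' : Subgroup G) : Prop where
  T : TIData V
  conj : ∃ g : G, V' = cj g V
  ne : V' ≠ V
  le : V' ≤ Qof V

/-- A conjugate of `V` in `P` that nowhere commutes with `V'`. -/
structure Opp (V V' B : Subgroup G) : Prop where
  conj : ∃ x : G, B = cj x V
  ne : B ≠ V
  le : B ≤ Pof V
  ncomm : ∀ b ∈ B, b ≠ 1 → ∀ u ∈ V', u ≠ 1 → b * u ≠ u * b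

/-- The centralizer of `V'` in `P`. -/
abbrev Cof (V V' : Subgroup G) : Subgroup G := Pof V ⊓ Subgroup.centralizer (V' : Set G)

namespace Pair

variable [Finite G] {V V' : Subgroup G} (h : Pair V V')
include h

omit [Finite G] in
theorem T' : TIData V' := by
  obtain ⟨g, rfl⟩ := h.conj
  exact h.T.map g

omit [Finite G] in
theorem card_eq : Nat.card ↥V' = Nat.card ↥V := by
  obtain ⟨g, rfl⟩ := h.conj
  exact card_cj g V

omit [Finite G] in
theorem eq_one_of_mem {w : G} (h1 : w ∈ V) (h2 : w ∈ V') : w = 1 := by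
  by_contra hw
  obtain ⟨g, hg⟩ := h.conj
  have := h.T.eq_of_common (x := g) (y := 1) (hg ▸ h2) (by rwa [cj_one]) hw
  rw [cj_one, ← hg] at this
  exact h.ne this

theorem comm' {v u : G} (hv : v ∈ V) (hu : u ∈ V') : v * u = u * v := by
  have hb : ⁅V, V'⁆ = ⊥ := Cfsg.Agent.S1757.result 2 V V' h.T.isPGroup_self h.T'.isPGroup_self
    h.T.ti h.T'.ti h.card_eq.ge
    (eq_bot_iff.mpr fun w hw => Subgroup.mem_bot.mpr (h.eq_one_of_mem hw.1 hw.2))
    (h.le.trans h.T.qof_le)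
  exact (Subgroup.mem_centralizer_iff.mp
    ((Subgroup.commutator_eq_bot_iff_le_centralizer.mp hb) hv) u hu).symm

theorem le_pof : V' ≤ Pof V := le_inf h.le fun _u hu _v hv => h.comm' hv hu

theorem le_cof : V ≤ Cof V V' :=
  le_inf h.T.le_pof fun _v hv _u hu => (h.comm' hv hu).symm

omit [Finite G] in
theorem exists_ne_one : ∃ u ∈ V', u ≠ 1 := by
  by_contra hcon
  simp only [not_exists, not_and, not_not] at hcon
  have h1 : V' = ⊥ := (Subgroup.eq_bot_iff_forall _).mpr hcon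
  obtain ⟨g, hg⟩ := h.conj
  have h2 : V = ⊥ := (Subgroup.map_eq_bot_iff_of_injective _ (MulAut.conj g).injective).mp
    (show cj g V = ⊥ from hg ▸ h1)
  exact h.ne (h1.trans h2.symm)

theorem exists_ne_one_left : ∃ v ∈ V, v ≠ 1 := by
  obtain ⟨u, hu, hu1⟩ := h.exists_ne_one
  obtain ⟨g, hg⟩ := h.conj
  obtain ⟨v, hv, rfl⟩ := (hg ▸ hu : u ∈ cj g V)
  exact ⟨v, hv, fun hv1 => hu1 (by rw [hv1, map_one])⟩

theorem fix_all {X : Subgroup G} (hX : ∃ a : G, X = cj a V) (hXne : X ≠ V) (hXP : X ≤ Pof V)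
    {x u : G} (hx : x ∈ Pof V) (hu : u ∈ X) (hu1 : u ≠ 1) (hc : x * u = u * x) :
    ∀ w ∈ X, x * w = w * x := by
  obtain ⟨a, rfl⟩ := hX
  have hfix : cj x (cj a V) = cj a V := by
    have h1 : u ∈ cj (x * a) V := by
      rw [← cj_mul, mem_cj]
      rw [show x⁻¹ * u * x = u by rw [mul_assoc, ← hc, inv_mul_cancel_left]]
      exact hu
    rw [cj_mul, h.T.eq_of_common h1 hu hu1]
  intro w hw
  refine commutatorElement_eq_one_iff_mul_comm.mp ?_
  by_contra hne
  have h1 : ⁅x, w⁆ ∈ cj a V := by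
    rw [commutatorElement_def]
    refine mul_mem ?_ (inv_mem hw)
    rw [← hfix]
    exact conj_mem_cj hw
  have h2 := h.T.commElem_mem hx (hXP hw)
  have := h.T.eq_of_common (y := 1) h1 (by rwa [cj_one]) hne
  rw [cj_one] at this
  exact hXne this

theorem fix_V' {x u : G} (hx : x ∈ Pof V) (hu : u ∈ V') (hu1 : u ≠ 1) (hc : x * u = u * x) :
    x ∈ Cof V V' :=
  ⟨hx, fun w hw => (h.fix_all h.conj h.ne h.le_pof hx hu hu1 hc w hw).symm⟩

theorem exists_opp : ∃ B : Subgroup G, Opp V V' B := by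
  by_contra hcon
  have hall : ∀ m ∈ Nm V, ∀ b ∈ cj m V', ∀ u ∈ V', b * u = u * b := by
    intro m hm b hb u hu
    by_contra hne
    obtain ⟨g, hg⟩ := h.conj
    have hBP : cj m V' ≤ Pof V := by
      rintro _ ⟨w, hw, rfl⟩
      exact h.T.pof_conj hm (h.le_pof hw)
    have hBne : cj m V' ≠ V := fun he => hne (h.comm' (he ▸ hb) hu)
    refine hcon ⟨cj m V', ⟨m * g, by rw [hg, cj_mul]⟩, hBne, hBP, fun b' hb' hb1 u' hu' hu1 he => ?_⟩
    have hb'C := h.fix_V' (hBP hb') hu' hu1 he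
    have := h.fix_all (X := cj m V') ⟨m * g, by rw [hg, cj_mul]⟩ hBne hBP (h.le_pof hu) hb' hb1
      (hb'C.2 u hu) b hb
    exact hne this.symm
  let A : Subgroup G := Subgroup.closure {x | ∃ m ∈ Nm V, x ∈ cj m V'}
  have hpair : ∀ x ∈ {x | ∃ m ∈ Nm V, x ∈ cj m V'}, ∀ y ∈ {x | ∃ m ∈ Nm V, x ∈ cj m V'},
      x * y = y * x := by
    rintro x ⟨m, hm, hx⟩ y ⟨n, hn, hy⟩
    have hx' : n⁻¹ * x * n ∈ cj (n⁻¹ * m) V' := by
      rw [← cj_mul]
      have := conj_mem_cj (x := n⁻¹) hx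
      rwa [inv_inv] at this
    have := hall _ (mul_mem ((Nm V).inv_mem hn) hm) _ hx' (n⁻¹ * y * n) (mem_cj.mp hy)
    have h2 := congrArg (fun t => n * t * n⁻¹) this
    simpa [mul_assoc] using h2
  have hA : A ≤ V := by
    refine h.T.abel_le ?_ ?_ ?_
    · rw [Subgroup.closure_le]
      rintro x ⟨m, hm, w, hw, rfl⟩
      exact h.T.pof_conj hm (h.le_pof hw)
    · intro a ha b hb
      haveI : IsMulCommutative ↥A := Subgroup.isMulCommutative_closure hpair
      exact congrArg Subtype.val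
        (IsMulCommutative.is_comm.comm (⟨a, ha⟩ : ↥A) ⟨b, hb⟩)
    · intro m hm a ha
      have : cj m A ≤ A := by
        rw [cj, MonoidHom.map_closure]
        refine Subgroup.closure_mono ?_
        rintro _ ⟨x, ⟨n, hn, hx⟩, rfl⟩
        exact ⟨m * n, mul_mem hm hn, by rw [← cj_mul]; exact conj_mem_cj hx⟩
      exact this (conj_mem_cj ha)
  obtain ⟨u, hu, hu1⟩ := h.exists_ne_one
  exact hu1 (h.eq_one_of_mem (hA (Subgroup.subset_closure ⟨1, one_mem _, by rwa [cj_one]⟩)) hu)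

variable {B : Subgroup G} (hB : Opp V V' B)
include hB

omit [Finite G] in
theorem card_opp : Nat.card ↥B = Nat.card ↥V := by
  obtain ⟨x, rfl⟩ := hB.conj
  exact card_cj x V

omit [Finite G] h in
theorem opp_inf {b : G} (hb : b ∈ B) (hu : b ∈ Cof V V') (hne : ∃ u ∈ V', u ≠ 1) : b = 1 := by
  by_contra hb1
  obtain ⟨u, hu', hu1⟩ := hne
  exact hB.ncomm b hb hb1 u hu' hu1 (hu.2 u hu').symm

theorem surj_right {b : G} (hb : b ∈ B) (hb1 : b ≠ 1) {v : G} (hv : v ∈ V) :
    ∃ u ∈ V', ⁅b, u⁆ = v := by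
  let f : ↥V' → ↥V := fun u => ⟨⁅b, u⁆, h.T.commElem_mem (hB.le hb) (h.le_pof u.2)⟩
  have hf : Function.Injective f := by
    intro u w he
    have he' : ⁅b, (u : G)⁆ = ⁅b, (w : G)⁆ := congrArg Subtype.val he
    by_contra hne
    refine hB.ncomm b hb hb1 ((u : G)⁻¹ * w) (mul_mem (inv_mem u.2) w.2)
      (fun he1 => hne (Subtype.ext (inv_mul_eq_one.mp he1))) ?_
    refine commutatorElement_eq_one_iff_mul_comm.mp ?_
    have h3 := commElem_mul_right (x := b) (y := (u : G)) (z := (u : G)⁻¹ * w)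
      (h.comm' (h.T.commElem_mem (hB.le hb) (h.le_pof (mul_mem (inv_mem u.2) w.2))) u.2).symm
    rw [mul_inv_cancel_left, ← he'] at h3
    exact mul_eq_left.mp h3.symm
  obtain ⟨u, hu⟩ := ((Nat.bijective_iff_injective_and_card f).mpr ⟨hf, h.card_eq⟩).2 ⟨v, hv⟩
  exact ⟨u, u.2, congrArg Subtype.val hu⟩

theorem surj_left {u : G} (hu : u ∈ V') (hu1 : u ≠ 1) {v : G} (hv : v ∈ V) :
    ∃ b ∈ B, ⁅b, u⁆ = v := by
  let f : ↥B → ↥V := fun b => ⟨⁅(b : G), u⁆, h.T.commElem_mem (hB.le b.2) (h.le_pof hu)⟩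
  have hf : Function.Injective f := by
    intro b c he
    have he' : ⁅(b : G), u⁆ = ⁅(c : G), u⁆ := congrArg Subtype.val he
    by_contra hne
    refine hB.ncomm ((b : G)⁻¹ * c) (mul_mem (inv_mem b.2) c.2)
      (fun he1 => hne (Subtype.ext (inv_mul_eq_one.mp he1))) u hu hu1 ?_
    refine commutatorElement_eq_one_iff_mul_comm.mp ?_
    have h3 := commElem_mul_left (x := (b : G)) (y := (b : G)⁻¹ * c) (z := u)
      (h.T.pof_comm (hB.le b.2) (h.T.commElem_mem (mul_mem (inv_mem (hB.le b.2)) (hB.le c.2))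
        (h.le_pof hu)))
    rw [mul_inv_cancel_left, ← he'] at h3
    exact mul_eq_right.mp h3.symm
  obtain ⟨b, hb⟩ := ((Nat.bijective_iff_injective_and_card f).mpr ⟨hf, h.card_opp hB⟩).2 ⟨v, hv⟩
  exact ⟨b, b.2, congrArg Subtype.val hb⟩

theorem decomp {x : G} (hx : x ∈ Pof V) : ∃ b ∈ B, b⁻¹ * x ∈ Cof V V' := by
  obtain ⟨u, hu, hu1⟩ := h.exists_ne_one
  obtain ⟨b, hb, he⟩ := h.surj_left hB hu hu1 (h.T.commElem_mem hx (h.le_pof hu))
  refine ⟨b, hb, h.fix_V' (mul_mem (inv_mem (hB.le hb)) hx) hu hu1 ?_⟩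
  have h1 : b * u * b⁻¹ = x * u * x⁻¹ := by rw [conj_eq_mul, conj_eq_mul, he]
  have h2 := congrArg (fun t => b⁻¹ * t * x) h1
  simpa [mul_assoc] using h2.symm

theorem decomp' {x : G} (hx : x ∈ Pof V) :
    ∃ u ∈ V', ∀ b ∈ B, (u⁻¹ * x) * b = b * (u⁻¹ * x) := by
  obtain ⟨v, hv, hv1⟩ := h.exists_ne_one_left
  obtain ⟨w, hw, hw1⟩ := h.exists_ne_one
  obtain ⟨b0, hb0, he0⟩ := h.surj_left hB hw hw1 hv
  have hb01 : b0 ≠ 1 := fun he => hv1 (by rw [← he0, he, commutatorElement_one_left])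
  obtain ⟨u, hu, he⟩ := h.surj_right hB hb0 hb01 (h.T.commElem_mem (hB.le hb0) hx)
  refine ⟨u, hu, ?_⟩
  have hy : u⁻¹ * x ∈ Pof V := mul_mem (inv_mem (h.le_pof hu)) hx
  refine h.fix_all hB.conj hB.ne hB.le hy hb0 hb01 ?_
  have h1 := commElem_mul_right (x := b0) (y := u) (z := u⁻¹ * x)
    (h.comm' (h.T.commElem_mem (hB.le hb0) hy) hu).symm
  rw [mul_inv_cancel_left, he] at h1
  exact (commutatorElement_eq_one_iff_mul_comm.mp (mul_eq_left.mp h1.symm)).symm

omit hB

theorem mem_W {w : G} : w ∈ V ⊔ V' ↔ ∃ v ∈ V, ∃ u ∈ V', w = v * u := by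
  constructor
  · intro hw
    have hw' : w ∈ (V : Set G) * (V' : Set G) := by
      rw [← Subgroup.coe_mul_of_right_le_normalizer_left V V' (h.le.trans h.T.qof_le)]; exact hw
    obtain ⟨v, hv, u, hu, rfl⟩ := hw'
    exact ⟨v, hv, u, hu, rfl⟩
  · rintro ⟨v, hv, u, hu, rfl⟩
    exact mul_mem (Subgroup.mem_sup_left hv) (Subgroup.mem_sup_right hu)

theorem cj_le_W {x : G} (hx : x ∈ Pof V) : cj x V' ≤ V ⊔ V' := by
  rintro _ ⟨u, hu, rfl⟩
  show x * u * x⁻¹ ∈ V ⊔ V'
  rw [conj_eq_mul]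
  exact mul_mem (Subgroup.mem_sup_left (h.T.commElem_mem hx (h.le_pof hu)))
    (Subgroup.mem_sup_right hu)

include hB

theorem cover {w : G} (hw : w ∈ V ⊔ V') (hwV : w ∉ V) : ∃ b ∈ B, w ∈ cj b V' := by
  obtain ⟨v, hv, u, hu, rfl⟩ := h.mem_W.mp hw
  have hu1 : u ≠ 1 := fun he => hwV (by rwa [he, mul_one])
  obtain ⟨b, hb, he⟩ := h.surj_left hB hu hu1 hv
  exact ⟨b, hb, u, hu, by show b * u * b⁻¹ = v * u; rw [conj_eq_mul, he]⟩

omit hB

theorem existsUnique_conj {w : G} (hw : w ∈ V ⊔ V') (hw1 : w ≠ 1) :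
    ∃! U : Subgroup G, (∃ x : G, U = cj x V) ∧ U ≤ V ⊔ V' ∧ w ∈ U := by
  have huniq : ∀ U₁ U₂ : Subgroup G, (∃ x : G, U₁ = cj x V) → (∃ x : G, U₂ = cj x V) → w ∈ U₁ →
      w ∈ U₂ → U₁ = U₂ := by
    rintro _ _ ⟨x, rfl⟩ ⟨y, rfl⟩ h1 h2
    exact h.T.eq_of_common h1 h2 hw1
  by_cases hwV : w ∈ V
  · exact ⟨V, ⟨⟨1, (cj_one V).symm⟩, le_sup_left, hwV⟩,
      fun U hU => huniq U V hU.1 ⟨1, (cj_one V).symm⟩ hU.2.2 hwV⟩
  · obtain ⟨B, hB⟩ := h.exists_opp
    obtain ⟨b, hb, hwb⟩ := h.cover hB hw hwV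
    obtain ⟨g, hg⟩ := h.conj
    have hc : ∃ x : G, cj b V' = cj x V := ⟨b * g, by rw [hg, cj_mul]⟩
    exact ⟨cj b V', ⟨hc, h.cj_le_W (hB.le hb), hwb⟩, fun U hU => huniq U _ hU.1 hc hU.2.2 hwb⟩

end Pair

namespace TIData

variable [Finite G] {V : Subgroup G} (T : TIData V)
include T

/-- `C_{N(V)}(P) = V`. -/
theorem cent_pof {x : G} (hx : x ∈ Nm V) (hc : ∀ y ∈ Pof V, x * y = y * x) : x ∈ V := by
  let K : Subgroup G := Nm V ⊓ Subgroup.centralizer (Pof V : Set G)
  have hK : Nm V ≤ Subgroup.normalizer (K : Set G) := by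
    intro m hm
    rw [Subgroup.mem_normalizer_iff]
    intro k
    constructor
    · rintro ⟨hk, hkc⟩
      refine Subgroup.mem_inf.mpr ⟨mul_mem (mul_mem hm hk) (inv_mem hm), fun y hy => ?_⟩
      have := hkc _ (T.pof_conj ((Nm V).inv_mem hm) hy)
      have h2 := congrArg (fun t => m * t * m⁻¹) this
      simpa [mul_assoc] using h2
    · rintro ⟨hk, hkc⟩
      have hk' : k ∈ Nm V := by
        have := mul_mem (mul_mem (inv_mem hm) hk) hm
        simpa [mul_assoc] using this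
      refine ⟨hk', fun y hy => ?_⟩
      have := hkc _ (T.pof_conj hm hy)
      have h2 := congrArg (fun t => m⁻¹ * t * m) this
      simpa [mul_assoc] using h2
  have hodd : ∀ y ∈ K, ∀ n : ℕ, Odd n → y ^ n = 1 → y = 1 := by
    have htwo : ∀ t ∈ Qof V, ∀ n : ℕ, Odd n → t ^ n = 1 → t = 1 := by
      intro t ht n hn he
      obtain ⟨j, hj⟩ := T.isPGroup_qof ⟨t, ht⟩
      have hj' : t ^ (2 ^ j) = 1 := congrArg Subtype.val hj
      have hg : t ^ Nat.gcd n (2 ^ j) = 1 := pow_gcd_eq_one.mpr ⟨he, hj'⟩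
      have hco : Nat.Coprime n (2 ^ j) := Nat.Coprime.pow_right _ (Nat.coprime_two_right.mpr hn)
      rwa [hco.gcd_eq_one, pow_one] at hg
    intro y hy n hn hyn
    refine htwo y (T.cent y hy.1 fun q hq => ?_) n hn hyn
    set t := y * q * y⁻¹ * q⁻¹ with ht
    have htP : t ∈ Pof V := by
      refine Subgroup.mem_inf.mpr ⟨mul_mem (T.qof_conj hy.1 hq) (inv_mem hq), ?_⟩
      have hyC : y ∈ Subgroup.centralizer (V : Set G) := fun v hv => hy.2 v (T.le_pof hv)
      have h1 : q * y⁻¹ * q⁻¹ ∈ Subgroup.centralizer (V : Set G) := by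
        have := conj_mem_cj (x := q) (inv_mem hyC)
        rwa [cent_cj, cj_eq_of_mem (T.qof_le hq)] at this
      have := mul_mem hyC h1
      rwa [ht, show y * q * y⁻¹ * q⁻¹ = y * (q * y⁻¹ * q⁻¹) by group]
    have hyt : y * t = t * y := (hy.2 t htP).symm
    have hiter : ∀ i : ℕ, y ^ i * q = t ^ i * q * y ^ i := by
      intro i
      induction i with
      | zero => simp
      | succ i ih =>
        have hyti : y * t ^ i = t ^ i * y := (Commute.pow_right hyt i).eq
        have hyq : y * q = t * q * y := by simp [ht]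
        rw [pow_succ' y, mul_assoc, ih, ← mul_assoc, ← mul_assoc, hyti, mul_assoc (t ^ i), hyq,
          pow_succ t]
        simp only [mul_assoc]
    have ht1 : t ^ n = 1 := by
      have := hiter n
      rw [hyn, one_mul, mul_one] at this
      exact mul_eq_right.mp this.symm
    have := htwo t htP.1 n hn ht1
    rw [ht, mul_inv_eq_one] at this
    exact mul_inv_eq_iff_eq_mul.mp this
  have hKp : IsPGroup 2 ↥K := by
    intro k
    obtain ⟨a, m, hm, he⟩ :=
      Nat.exists_eq_two_pow_mul_odd (n := orderOf k) (orderOf_pos k).ne'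
    refine ⟨a, Subtype.ext ?_⟩
    refine hodd _ (k ^ 2 ^ a).2 m hm ?_
    have := congrArg Subtype.val (pow_orderOf_eq_one k)
    rw [he, pow_mul] at this
    exact this
  have hxQ : x ∈ Qof V :=
    SylowIn.le_pCoreOf (N := K) inf_le_left hK hKp ⟨hx, fun y hy => (hc y hy).symm⟩
  exact T.center_pof ⟨hxQ, fun v hv => (hc v (T.le_pof hv)).symm⟩ hc

end TIData

namespace Pair

variable [Finite G] {V V' : Subgroup G} (h : Pair V V')
include h

theorem mul_card_eq {B : Subgroup G} (hB : Opp V V' B) :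
    Nat.card ↥(Pof V) = Nat.card ↥B * Nat.card ↥(Cof V V') := by
  rw [← Nat.card_prod]
  refine (Nat.card_congr (Equiv.ofBijective (fun q : ↥B × ↥(Cof V V') =>
    (⟨(q.1 : G) * q.2, mul_mem (hB.le q.1.2) q.2.2.1⟩ : ↥(Pof V))) ⟨?_, ?_⟩)).symm
  · rintro ⟨b₁, c₁⟩ ⟨b₂, c₂⟩ he
    have he' : (b₁ : G) * c₁ = b₂ * c₂ := congrArg Subtype.val he
    have h1 : (b₂ : G)⁻¹ * b₁ = (c₂ : G) * (c₁ : G)⁻¹ := by
      have := congrArg (fun t => (b₂ : G)⁻¹ * t * (c₁ : G)⁻¹) he'
      simpa [mul_assoc] using this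
    have h2 := opp_inf hB (mul_mem (inv_mem b₂.2) b₁.2) (h1 ▸ mul_mem c₂.2 (inv_mem c₁.2))
      h.exists_ne_one
    have hb : b₁ = b₂ := Subtype.ext (inv_mul_eq_one.mp h2).symm
    subst hb
    exact Prod.ext rfl (Subtype.ext (mul_left_cancel he'))
  · rintro ⟨x, hx⟩
    obtain ⟨b, hb, hc⟩ := h.decomp hB hx
    exact ⟨(⟨b, hb⟩, ⟨_, hc⟩), Subtype.ext (mul_inv_cancel_left b x)⟩

theorem center_cof {y : G} (hy : y ∈ Cof V V') (hc : ∀ c ∈ Cof V V', y * c = c * y) :
    ∃ u ∈ V', u⁻¹ * y ∈ V := by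
  obtain ⟨B, hB⟩ := h.exists_opp
  obtain ⟨u, hu, he⟩ := h.decomp' hB hy.1
  refine ⟨u, hu, h.T.center_pof (mul_mem (inv_mem (h.le_pof hu)) hy.1) fun x hx => ?_⟩
  obtain ⟨b, hb, hc'⟩ := h.decomp hB hx
  have h1 : u⁻¹ * y * (b⁻¹ * x) = b⁻¹ * x * (u⁻¹ * y) := by
    have e1 : Commute u⁻¹ (b⁻¹ * x) := Commute.inv_left (hc'.2 u hu)
    have e2 : Commute y (b⁻¹ * x) := hc _ hc'
    exact (e1.mul_left e2).eq
  have h2 : Commute (u⁻¹ * y) b := he b hb
  have h3 : Commute (u⁻¹ * y) (b⁻¹ * x) := h1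
  have := h2.mul_right h3
  rwa [mul_inv_cancel_left] at this

theorem surj_comm {B : Subgroup G} (hB : Opp V V' B)
    (hC : ∀ a ∈ Cof V V', ∀ c ∈ Cof V V', a * c = c * a) {x : G} (hx : x ∈ Pof V) (hxV : x ∉ V)
    {v : G} (hv : v ∈ V) : ∃ y ∈ Pof V, ⁅x, y⁆ = v := by
  obtain ⟨b, hb, hc⟩ := h.decomp hB hx
  have key : ∀ y ∈ Pof V, ⁅x, y⁆ = ⁅b⁻¹ * x, y⁆ * ⁅b, y⁆ := by
    intro y hy
    conv_lhs => rw [← mul_inv_cancel_left b x]
    exact commElem_mul_left (h.T.pof_comm (hB.le hb)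
      (h.T.commElem_mem hc.1 hy))
  by_cases hb1 : b = 1
  · subst hb1
    rw [inv_one, one_mul] at hc
    obtain ⟨u, hu, hv'⟩ := h.center_cof hc fun c hc' => hC x hc c hc'
    have hu1 : u ≠ 1 := fun he => hxV (by simpa [he] using hv')
    obtain ⟨d, hd, he⟩ := h.surj_left hB hu hu1 (inv_mem hv)
    refine ⟨d, hB.le hd, ?_⟩
    have h1 : u * (u⁻¹ * x) = x := mul_inv_cancel_left u x
    rw [← h1, commElem_mul_left (h.T.pof_comm (h.le_pof hu)
      (h.T.commElem_mem (h.T.le_pof hv') (hB.le hd))),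
      commutatorElement_eq_one_iff_mul_comm.mpr (h.T.pof_comm (hB.le hd) hv').symm, one_mul,
      ← commutatorElement_inv, he, inv_inv]
  · obtain ⟨u, hu, he⟩ := h.surj_right hB hb hb1 hv
    refine ⟨u, h.le_pof hu, ?_⟩
    rw [key u (h.le_pof hu),
      commutatorElement_eq_one_iff_mul_comm.mpr (hc.2 u hu).symm, one_mul, he]

theorem card_centralizer {B : Subgroup G} (hB : Opp V V' B)
    (hC : ∀ a ∈ Cof V V', ∀ c ∈ Cof V V', a * c = c * a) {x : G} (hx : x ∈ Pof V) (hxV : x ∉ V) :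
    Nat.card ↥(Pof V) = Nat.card ↥(Pof V ⊓ Subgroup.centralizer ({x} : Set G) : Subgroup G) *
      Nat.card ↥V := by
  let φ : ↥(Pof V) →* ↥V :=
    { toFun := fun y => ⟨⁅x, (y : G)⁆, h.T.commElem_mem hx y.2⟩
      map_one' := Subtype.ext (by simp)
      map_mul' := fun y z => Subtype.ext
        (commElem_mul_right (h.T.pof_comm y.2 (h.T.commElem_mem hx z.2))) }
  have hφ : Function.Surjective φ := by
    rintro ⟨v, hv⟩
    obtain ⟨y, hy, he⟩ := h.surj_comm hB hC hx hxV hv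
    exact ⟨⟨y, hy⟩, Subtype.ext he⟩
  have hker : φ.ker = (Pof V ⊓ Subgroup.centralizer ({x} : Set G)).subgroupOf (Pof V) := by
    ext y
    rw [MonoidHom.mem_ker, Subgroup.mem_subgroupOf, Subgroup.mem_inf,
      Subgroup.mem_centralizer_singleton_iff]
    simp [φ, Subtype.ext_iff, commutatorElement_eq_one_iff_mul_comm, y.2, eq_comm]
  have h1 := Subgroup.card_eq_card_quotient_mul_card_subgroup φ.ker
  rw [Nat.card_congr (QuotientGroup.quotientKerEquivOfSurjective φ hφ).toEquiv, hker,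
    Nat.card_congr (Subgroup.subgroupOfEquivOfLe (inf_le_left : _ ≤ Pof V)).toEquiv] at h1
  rw [h1, mul_comm]

/-- `V ≤ O₂(N(V'))`. -/
theorem le_symm : V ≤ Qof V' := by
  obtain ⟨B, hB⟩ := h.exists_opp
  obtain ⟨g, hg⟩ := h.conj
  have T' := h.T'
  have hVN' : V ≤ Nm V' := by
    intro v hv
    rw [Subgroup.mem_normalizer_iff]
    intro u
    constructor
    · intro hu
      rwa [h.comm' hv hu, mul_inv_cancel_right]
    · intro hu
      have h2 := h.comm' (inv_mem hv) hu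
      have h3 : u = v * u * v⁻¹ := by
        have h4 := congrArg (fun t => t * v) h2
        simpa [mul_assoc] using h4
      rwa [h3]
  by_cases hA : ∃ v ∈ V, v ≠ 1 ∧ ∃ r ∈ Pof V', r ∉ Nm V ∧ ⁅r, v⁆ ∈ V'
  · obtain ⟨v, hv, hv1, r, hr, hrN, hrv⟩ := hA
    have hw : r * v * r⁻¹ ∈ V ⊔ V' := by
      rw [conj_eq_mul]
      exact mul_mem (Subgroup.mem_sup_right hrv) (Subgroup.mem_sup_left hv)
    have hwV : r * v * r⁻¹ ∉ V := fun hc => hrN (mem_nm_of_cj_eq (by
      have := h.T.eq_of_common (x := r) (y := 1) (conj_mem_cj hv) (by rwa [cj_one])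
        (fun he => hv1 (conj_eq_one_iff.mp he))
      rwa [cj_one] at this))
    obtain ⟨b, hb, hwb⟩ := h.cover hB hw hwV
    have heq : cj r V = cj b V' := by
      have := h.T.eq_of_common (x := r) (y := b * g) (conj_mem_cj hv)
        (by rwa [← cj_mul, ← hg]) (fun he => hv1 (conj_eq_one_iff.mp he))
      rwa [← cj_mul b g, ← hg] at this
    have hfix : cj r V' = V' := cj_eq_of_mem (T'.pof_le hr)
    have hb1 : b ≠ 1 := by
      rintro rfl
      rw [cj_one, ← hfix] at heq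
      exact h.ne (Subgroup.map_injective (MulAut.conj r).injective heq).symm
    have h1 : cj b⁻¹ V' ≤ Qof V' := by
      have h2 := cj_mono b⁻¹ (cj_mono r h.le)
      rw [qof_cj, heq, ← qof_cj, cj_inv_cj, hfix] at h2
      exact h2
    intro v' hv'
    obtain ⟨u, hu, he⟩ := h.surj_right hB (inv_mem hb) (inv_ne_one.mpr hb1) hv'
    have h3 : b⁻¹ * u * b⁻¹⁻¹ ∈ Qof V' := h1 (conj_mem_cj hu)
    rw [conj_eq_mul, he] at h3
    have := mul_mem h3 (inv_mem (T'.le_qof hu))
    rwa [mul_inv_cancel_right] at this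
  · exfalso
    have hcase : ∀ v ∈ V, v ≠ 1 → ∀ r ∈ Pof V', ⁅r, v⁆ ∈ V' → r ∈ Nm V := by
      intro v hv hv1 r hr hrv
      by_contra hrN
      exact hA ⟨v, hv, hv1, r, hr, hrN, hrv⟩
    -- `V` meets `R` trivially
    have hVR : ∀ v ∈ V, v ∈ Pof V' → v = 1 := by
      intro v hv hvR
      by_contra hv1
      refine hv1 (h.eq_one_of_mem hv (T'.center_pof hvR fun r hr => ?_))
      have hrN := hcase v hv hv1 r hr (T'.commElem_mem hr hvR)
      have h1 : ⁅r, v⁆ ∈ V := by
        rw [commutatorElement_def]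
        exact mul_mem ((Subgroup.mem_normalizer_iff.mp hrN v).mp hv) (inv_mem hv)
      exact (commutatorElement_eq_one_iff_mul_comm.mp
        (h.eq_one_of_mem h1 (T'.commElem_mem hr hvR))).symm
    have hSV : ∀ s ∈ Pof V', s ∈ Nm V → ∀ v ∈ V, s * v = v * s := by
      intro s hs hsN v hv
      refine commutatorElement_eq_one_iff_mul_comm.mp (hVR _ ?_ ?_)
      · rw [commutatorElement_def]
        exact mul_mem ((Subgroup.mem_normalizer_iff.mp hsN v).mp hv) (inv_mem hv)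
      · rw [commutatorElement_def, mul_assoc, mul_assoc, ← mul_assoc v]
        exact mul_mem hs (T'.pof_conj (hVN' hv) (inv_mem hs))
    -- the elements of `C ∩ R` are in `V'`
    have hCN' : ∀ c ∈ Cof V V', c ∈ Nm V' := by
      intro c hc
      rw [Subgroup.mem_normalizer_iff]
      intro u
      constructor
      · intro hu
        rwa [← hc.2 u hu, mul_inv_cancel_right]
      · intro hu
        have h2 : c * (c * u * c⁻¹) * c⁻¹ = c * u * c⁻¹ := by
          rw [← hc.2 _ hu, mul_inv_cancel_right]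
        have h3 : c * u * c⁻¹ = u := by
          have h4 := congrArg (fun t => c⁻¹ * t * c) h2
          simpa [mul_assoc] using h4
        rwa [h3] at hu
    have hCR : ∀ x ∈ Cof V V', x ∈ Pof V' → x ∈ V' := by
      intro x hx hxR
      have hcen : ∀ c ∈ Cof V V', x * c = c * x := by
        intro c hc
        refine commutatorElement_eq_one_iff_mul_comm.mp
          (hVR _ (h.T.commElem_mem hx.1 hc.1) ?_)
        rw [commutatorElement_def, mul_assoc, mul_assoc, ← mul_assoc c]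
        exact mul_mem hxR (T'.pof_conj (hCN' c hc) (inv_mem hxR))
      obtain ⟨u, hu, hv⟩ := h.center_cof hx hcen
      have := hVR _ hv (mul_mem (inv_mem (T'.le_pof hu)) hxR)
      rw [inv_mul_eq_one] at this
      exact this ▸ hu
    have hCS : ∀ c ∈ Cof V V', ∀ s ∈ Pof V', s ∈ Nm V → ⁅c, s⁆ ∈ V' := by
      intro c hc s hs hsN
      refine hCR _ ?_ ?_
      · rw [commutatorElement_def, mul_assoc, mul_assoc, ← mul_assoc s]
        refine mul_mem hc (Subgroup.mem_inf.mpr ⟨h.T.pof_conj hsN (inv_mem hc.1), ?_⟩)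
        intro u hu
        have e1 : Commute u s := (T'.pof_comm hs hu).symm
        have e2 : Commute u c⁻¹ := Commute.inv_right (hc.2 u hu)
        exact ((e1.mul_right e2).mul_right e1.inv_right).eq
      · rw [commutatorElement_def]
        exact mul_mem (T'.pof_conj (hCN' c hc) hs) (inv_mem hs)
    -- `δ r v = r⁻¹ v r v⁻¹`
    have hδ : ∀ r ∈ Pof V', ∀ v ∈ V, r⁻¹ * (v * r * v⁻¹) ∈ Pof V' ∧
        (v ≠ 1 → r⁻¹ * (v * r * v⁻¹) ∈ Nm V) := by
      intro r hr v hv
      have hd : r⁻¹ * (v * r * v⁻¹) ∈ Pof V' :=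
        mul_mem (inv_mem hr) (T'.pof_conj (hVN' hv) hr)
      refine ⟨hd, fun hv1 => hcase v hv hv1 _ hd ?_⟩
      set d := r⁻¹ * (v * r * v⁻¹) with hd'
      have h1 : v * d * v⁻¹ = d⁻¹ := by
        rw [hd', h.T.inv_eq hv, mul_inv_rev, inv_inv, mul_inv_rev, mul_inv_rev, h.T.inv_eq hv]
        simp only [mul_assoc]
        rw [h.T.sq v hv, mul_one]
      have h2 : ⁅d, v⁆ = d * d := by
        rw [commutatorElement_def, mul_assoc, mul_assoc, ← mul_assoc v]
        have h3 : v * d⁻¹ * v⁻¹ = d := by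
          have := congrArg (fun t => t⁻¹) h1
          simpa [mul_assoc] using this
        rw [h3]
      rw [h2]
      exact T'.sq_mem hd
    obtain ⟨v, hv, hv1⟩ := h.exists_ne_one_left
    have hbil : ∀ a b c : G, a ∈ Pof V' → b ∈ Pof V' → c ∈ Pof V' →
        ⁅a * b, c⁆ = ⁅a, c⁆ * ⁅b, c⁆ := by
      intro a b c ha hb hc
      rw [commElem_mul_left (T'.pof_comm ha (T'.commElem_mem hb hc)),
        T'.comm _ (T'.commElem_mem hb hc) _ (T'.commElem_mem ha hc)]
    have hfixc : ∀ c ∈ Subgroup.centralizer (V' : Set G), ∀ a b : G, a ∈ Pof V' → b ∈ Pof V' →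
        ⁅c * a * c⁻¹, c * b * c⁻¹⁆ = ⁅a, b⁆ := by
      intro c hc a b ha hb
      rw [← conjugate_commutatorElement, ← hc _ (T'.commElem_mem ha hb), mul_inv_cancel_right]
    have hvC : v ∈ Subgroup.centralizer (V' : Set G) := fun u hu => (h.comm' hv hu).symm
    -- `C_R(S) ≤ S`
    have hCRS : ∀ r ∈ Pof V', (∀ s ∈ Pof V', s ∈ Nm V → r * s = s * r) → r ∈ Nm V := by
      intro r hr hrS
      obtain ⟨hd, hdN⟩ := hδ r hr v hv
      set d := r⁻¹ * (v * r * v⁻¹) with hd'
      have hvr : v * r * v⁻¹ = r * d := by rw [hd', mul_inv_cancel_left]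
      have hcomm : ∀ z ∈ Pof V', ⁅d, z⁆ = 1 := by
        intro z hz
        have hy : v⁻¹ * z * v ∈ Pof V' := by
          have := T'.pof_conj ((Nm V').inv_mem (hVN' hv)) hz
          rwa [inv_inv] at this
        obtain ⟨he, heN⟩ := hδ _ hy v hv
        set e := (v⁻¹ * z * v)⁻¹ * (v * (v⁻¹ * z * v) * v⁻¹) with he'
        have hye : v⁻¹ * z * v * e = z := by
          rw [he', mul_inv_cancel_left]; simp [mul_assoc]
        have hre : ⁅r, e⁆ = 1 :=
          commutatorElement_eq_one_iff_mul_comm.mpr (hrS e he (heN hv1))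
        have h1 := hfixc v hvC r (v⁻¹ * z * v) hr hy
        rw [hvr, show v * (v⁻¹ * z * v) * v⁻¹ = z by simp [mul_assoc], hbil r d z hr hd hz] at h1
        have h2 : ⁅r, z⁆ = ⁅r, v⁻¹ * z * v⁆ := by
          conv_lhs => rw [← hye]
          rw [commElem_mul_right (T'.pof_comm hy (T'.commElem_mem hr he)), hre, mul_one]
        rw [h2] at h1
        exact mul_eq_left.mp h1
      have hdV : d ∈ V' :=
        T'.center_pof hd fun z hz => commutatorElement_eq_one_iff_mul_comm.mp (hcomm z hz)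
      refine hcase v hv hv1 r hr ?_
      have h1 : ⁅r, v⁆⁻¹ = r * d * r⁻¹ := by
        rw [commutatorElement_inv, commutatorElement_def, hvr]
      have h2 : r * d * r⁻¹ ∈ V' := by
        rwa [T'.pof_comm hr hdV, mul_inv_cancel_right]
      rw [← h1] at h2
      simpa using inv_mem h2
    -- squares in `C` are trivial
    have hRS : ∃ r ∈ Pof V', r ∉ Nm V := by
      by_contra hall
      simp only [not_exists, not_and, not_not] at hall
      refine hv1 (h.eq_one_of_mem hv (T'.cent_pof (hVN' hv) fun r hr => ?_))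
      exact (hSV r hr (hall r hr) v hv).symm
    have hCsq : ∀ c ∈ Cof V V', c * c = 1 := by
      intro c hc
      by_contra hne
      obtain ⟨r, hr, hrN⟩ := hRS
      refine hrN (hcase (c * c) (h.T.sq_mem hc.1) hne r hr ?_)
      set η := r⁻¹ * (c * r * c⁻¹) with hη'
      have hηR : η ∈ Pof V' := mul_mem (inv_mem hr) (T'.pof_conj (hCN' c hc) hr)
      have hcr : c * r * c⁻¹ = r * η := by rw [hη', mul_inv_cancel_left]
      have hηN : η ∈ Nm V := by
        refine hCRS η hηR fun s hs hsN => commutatorElement_eq_one_iff_mul_comm.mp ?_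
        have hu := hCS c hc s hs hsN
        have h1 := hfixc c hc.2 r s hr hs
        rw [hcr, conj_eq_mul c s,
          commElem_mul_right (T'.pof_comm (T'.le_pof hu) (T'.commElem_mem (mul_mem hr hηR) hs)),
          commutatorElement_eq_one_iff_mul_comm.mpr (T'.pof_comm (mul_mem hr hηR) hu), one_mul,
          hbil r η s hr hηR hs] at h1
        exact mul_eq_left.mp h1
      have hu := hCS c hc η hηR hηN
      have h2 : c * c * r * (c * c)⁻¹ = r * η * (⁅c, η⁆ * η) := by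
        rw [← conj_eq_mul c η]
        calc c * c * r * (c * c)⁻¹ = c * (c * r * c⁻¹) * c⁻¹ := by simp [mul_assoc]
          _ = c * (r * η) * c⁻¹ := by rw [hcr]
          _ = c * r * c⁻¹ * (c * η * c⁻¹) := by simp [mul_assoc]
          _ = r * η * (c * η * c⁻¹) := by rw [hcr]
      have h3 : r * η * (⁅c, η⁆ * η) = r * (⁅c, η⁆ * (η * η)) := by
        rw [mul_assoc r, ← mul_assoc η, T'.pof_comm hηR hu, mul_assoc ⁅c, η⁆]
      have h4 : ⁅r, c * c⁆⁻¹ = r * (⁅c, η⁆ * (η * η)) * r⁻¹ := by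
        rw [commutatorElement_inv, commutatorElement_def, h2, h3]
      have h5 : ⁅c, η⁆ * (η * η) ∈ V' := mul_mem hu (T'.sq_mem hηR)
      rw [T'.pof_comm hr h5, mul_inv_cancel_right] at h4
      have h6 : ⁅r, c * c⁆⁻¹ ∈ V' := h4 ▸ h5
      simpa using inv_mem h6
    have hCab : ∀ a ∈ Cof V V', ∀ c ∈ Cof V V', a * c = c * a := by
      intro a ha c hc
      have h1 := hCsq a ha
      have h2 := hCsq c hc
      have h3 := hCsq (a * c) (mul_mem ha hc)
      rw [← inv_eq_of_mul_eq_one_left h3, mul_inv_rev, inv_eq_of_mul_eq_one_left h1,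
        inv_eq_of_mul_eq_one_left h2]
    -- orders
    set q := Nat.card ↥V
    have hq : 1 < q := (Subgroup.one_lt_card_iff_ne_bot V).mpr fun he => hv1 (by
      rwa [he, Subgroup.mem_bot] at hv)
    have hcardC : Nat.card ↥(Cof V V') = q * q := by
      rw [show q * q = Nat.card (↥V × ↥V') by rw [Nat.card_prod, h.card_eq]]
      refine (Nat.card_congr (Equiv.ofBijective (fun x : ↥V × ↥V' =>
        (⟨(x.1 : G) * x.2, mul_mem (h.le_cof x.1.2)
          (Subgroup.mem_inf.mpr ⟨h.le_pof x.2.2, fun w hw => T'.comm w hw x.2 x.2.2⟩)⟩ :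
            ↥(Cof V V'))) ⟨?_, ?_⟩)).symm
      · rintro ⟨v₁, u₁⟩ ⟨v₂, u₂⟩ he
        have he' : (v₁ : G) * u₁ = v₂ * u₂ := congrArg Subtype.val he
        have h1 : (v₂ : G)⁻¹ * v₁ = (u₂ : G) * (u₁ : G)⁻¹ := by
          have := congrArg (fun t => (v₂ : G)⁻¹ * t * (u₁ : G)⁻¹) he'
          simpa [mul_assoc] using this
        have h2 := h.eq_one_of_mem (mul_mem (inv_mem v₂.2) v₁.2)
          (h1 ▸ mul_mem u₂.2 (inv_mem u₁.2))
        have hb : v₁ = v₂ := Subtype.ext (inv_mul_eq_one.mp h2).symm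
        subst hb
        exact Prod.ext rfl (Subtype.ext (mul_left_cancel he'))
      · rintro ⟨c, hc⟩
        obtain ⟨u, hu, hv'⟩ := h.center_cof hc (hCab c hc)
        refine ⟨(⟨_, hv'⟩, ⟨u, hu⟩), Subtype.ext ?_⟩
        show u⁻¹ * c * u = c
        rw [mul_assoc, ← hc.2 u hu, inv_mul_cancel_left]
    have hcardP : Nat.card ↥(Pof V) = q * (q * q) := by
      rw [h.mul_card_eq hB, h.card_opp hB, hcardC]
    have hRcard : Nat.card ↥(Pof V') = q * (q * q) := by
      rw [hg, ← pof_cj, card_cj, hcardP]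
    have hcentR : ∀ x ∈ Pof V', x ∉ V' →
        Nat.card ↥(Pof V' ⊓ Subgroup.centralizer ({x} : Set G) : Subgroup G) = q * q := by
      intro x hx hxV
      have hx1 : g⁻¹ * x * g ∈ Pof V := by
        rw [← mem_cj, pof_cj, ← hg]; exact hx
      have hx2 : g⁻¹ * x * g ∉ V := by
        rw [← mem_cj, ← hg]; exact hxV
      have h1 := h.card_centralizer hB hCab hx1 hx2
      have h2 : cj g (Pof V ⊓ Subgroup.centralizer ({g⁻¹ * x * g} : Set G)) =
          Pof V' ⊓ Subgroup.centralizer ({x} : Set G) := by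
        ext y
        rw [mem_cj, hg, ← pof_cj]
        constructor
        · intro hy
          obtain ⟨hy1, hy2⟩ := Subgroup.mem_inf.mp hy
          refine Subgroup.mem_inf.mpr ⟨mem_cj.mpr hy1, ?_⟩
          rw [Subgroup.mem_centralizer_singleton_iff] at hy2 ⊢
          have h3 := congrArg (fun t => g * t * g⁻¹) hy2
          simpa [mul_assoc] using h3
        · intro hy
          obtain ⟨hy1, hy2⟩ := Subgroup.mem_inf.mp hy
          refine Subgroup.mem_inf.mpr ⟨mem_cj.mp hy1, ?_⟩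
          rw [Subgroup.mem_centralizer_singleton_iff] at hy2 ⊢
          calc g⁻¹ * y * g * (g⁻¹ * x * g) = g⁻¹ * (y * x) * g := by simp [mul_assoc]
            _ = g⁻¹ * (x * y) * g := by rw [hy2]
            _ = _ := by simp [mul_assoc]
      rw [hcardP] at h1
      rw [← h2, card_cj]
      exact Nat.eq_of_mul_eq_mul_right (by omega : 0 < q) (by rw [← h1]; ring)
    let S : Subgroup G := Pof V' ⊓ Nm V
    have hδhom : Nat.card ↥(Pof V') * q ≤ Nat.card ↥S * Nat.card ↥S := by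
      let N' : Subgroup ↥(Pof V') := V'.subgroupOf (Pof V')
      haveI : N'.Normal := ⟨fun n hn a => by
        show ((a : G) * n * (a : G)⁻¹) ∈ V'
        rw [T'.pof_comm a.2 (show (n : G) ∈ V' from hn), mul_inv_cancel_right]
        exact hn⟩
      have hab : ∀ x y : ↥(Pof V') ⧸ N', x * y = y * x := by
        intro x y
        obtain ⟨a, rfl⟩ := QuotientGroup.mk'_surjective N' x
        obtain ⟨b, rfl⟩ := QuotientGroup.mk'_surjective N' y
        rw [← commutatorElement_eq_one_iff_mul_comm, ← map_commutatorElement,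
          QuotientGroup.mk'_apply, QuotientGroup.eq_one_iff]
        exact T'.commElem_mem a.2 b.2
      let φ : ↥(Pof V') →* ↥(Pof V') ⧸ N' :=
        { toFun := fun r => QuotientGroup.mk' N' ⟨_, (hδ r r.2 v hv).1⟩
          map_one' := by
            rw [QuotientGroup.mk'_apply, QuotientGroup.eq_one_iff]
            show (1 : G)⁻¹ * (v * 1 * v⁻¹) ∈ V'
            simp [one_mem]
          map_mul' := fun a b => by
            have e1 : (⟨_, (hδ (a * b : ↥(Pof V')) (a * b).2 v hv).1⟩ : ↥(Pof V')) =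
                b⁻¹ * ⟨_, (hδ a a.2 v hv).1⟩ * b * ⟨_, (hδ b b.2 v hv).1⟩ := by
              apply Subtype.ext
              show ((a : G) * b)⁻¹ * (v * (a * b) * v⁻¹) =
                (b : G)⁻¹ * ((a : G)⁻¹ * (v * a * v⁻¹)) * b * ((b : G)⁻¹ * (v * b * v⁻¹))
              simp [mul_assoc]
            simp only [e1, map_mul]
            congr 1
            rw [hab (QuotientGroup.mk' N' b⁻¹), map_inv, inv_mul_cancel_right] }
      have hker : φ.ker.map (Pof V').subtype ≤ S := by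
        rintro _ ⟨r, hr, rfl⟩
        have hr' : (r : G)⁻¹ * (v * r * v⁻¹) ∈ V' :=
          (QuotientGroup.eq_one_iff (N := N') (⟨_, (hδ r r.2 v hv).1⟩ : ↥(Pof V'))).mp hr
        refine Subgroup.mem_inf.mpr ⟨r.2, hcase v hv hv1 r r.2 ?_⟩
        have h1 : ⁅(r : G), v⁆⁻¹ = (r : G) * ((r : G)⁻¹ * (v * r * v⁻¹)) * (r : G)⁻¹ := by
          rw [commutatorElement_inv, commutatorElement_def, mul_inv_cancel_left]
        rw [T'.pof_comm r.2 hr', mul_inv_cancel_right] at h1
        have h6 : ⁅(r : G), v⁆⁻¹ ∈ V' := h1 ▸ hr'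
        simpa using inv_mem h6
      have hrange : φ.range ≤ (S.subgroupOf (Pof V')).map (QuotientGroup.mk' N') := by
        rintro _ ⟨r, rfl⟩
        exact ⟨_, Subgroup.mem_inf.mpr ⟨(hδ r r.2 v hv).1, (hδ r r.2 v hv).2 hv1⟩, rfl⟩
      have hNS : N' ≤ S.subgroupOf (Pof V') := fun n hn =>
        Subgroup.mem_inf.mpr ⟨n.2, h.le.trans h.T.qof_le hn⟩
      have h1 := Subgroup.card_eq_card_quotient_mul_card_subgroup φ.ker
      rw [Nat.card_congr (QuotientGroup.quotientKerEquivRange φ).toEquiv] at h1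
      have h2 : Nat.card ↥φ.ker ≤ Nat.card ↥S := by
        rw [← Subgroup.card_map_of_injective (K := φ.ker) (Pof V').subtype_injective]
        exact Subgroup.card_le_of_le hker
      have h3 := Subgroup.card_le_of_le hrange
      have h4 : Nat.card ↥((S.subgroupOf (Pof V')).map (QuotientGroup.mk' N')) * q =
          Nat.card ↥S := by
        have h5 := Subgroup.card_mul_index (N'.subgroupOf (S.subgroupOf (Pof V')))
        have h7 : N'.relIndex (S.subgroupOf (Pof V')) = (N'.subgroupOf (S.subgroupOf (Pof V'))).index := rfl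
        rw [← Nat.card_congr
          (Subgroup.subgroupOfEquivOfLe (inf_le_left : S ≤ Pof V')).toEquiv]
        have h6 := Subgroup.relIndex_ker (K := S.subgroupOf (Pof V')) (QuotientGroup.mk' N')
        rw [QuotientGroup.ker_mk'] at h6
        rw [← h6, h7, ← h5, Nat.card_congr (Subgroup.subgroupOfEquivOfLe hNS).toEquiv,
          Nat.card_congr (Subgroup.subgroupOfEquivOfLe T'.le_pof).toEquiv, h.card_eq, mul_comm]
      calc Nat.card ↥(Pof V') * q = Nat.card ↥φ.range * Nat.card ↥φ.ker * q := by rw [← h1]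
        _ ≤ Nat.card ↥((S.subgroupOf (Pof V')).map (QuotientGroup.mk' N')) * Nat.card ↥S * q :=
            Nat.mul_le_mul_right _ (Nat.mul_le_mul h3 h2)
        _ = Nat.card ↥S * Nat.card ↥S := by rw [mul_assoc, mul_comm (Nat.card ↥S) q, ← mul_assoc, h4]
    rw [hRcard] at hδhom
    have hS : q * q ≤ Nat.card ↥S := by
      by_contra hlt
      rw [not_le] at hlt
      have := Nat.mul_lt_mul'' hlt hlt
      nlinarith
    obtain ⟨r, hr, hrN⟩ := hRS
    obtain ⟨hxR, hxN'⟩ := hδ r hr v hv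
    set x := r⁻¹ * (v * r * v⁻¹) with hx'
    have hvr : v * r * v⁻¹ = r * x := by rw [hx', mul_inv_cancel_left]
    have hxN := hxN' hv1
    have hxV : x ∉ V' := by
      intro hxV
      refine hrN (hcase v hv hv1 r hr ?_)
      have h1 : ⁅r, v⁆⁻¹ = r * x * r⁻¹ := by
        rw [commutatorElement_inv, commutatorElement_def, hvr]
      rw [T'.pof_comm hr hxV, mul_inv_cancel_right] at h1
      have h6 : ⁅r, v⁆⁻¹ ∈ V' := h1 ▸ hxV
      simpa using inv_mem h6
    have hSle : S ≤ Pof V' ⊓ Subgroup.centralizer ({x} : Set G) := by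
      intro s hs
      refine Subgroup.mem_inf.mpr ⟨hs.1, ?_⟩
      rw [Subgroup.mem_centralizer_singleton_iff, eq_comm]
      refine commutatorElement_eq_one_iff_mul_comm.mp ?_
      have h1 := hfixc v hvC r s hr hs.1
      rw [hvr, ← hSV s hs.1 hs.2 v hv, mul_inv_cancel_right, hbil r x s hr hxR hs.1] at h1
      exact mul_eq_left.mp h1
    have hSeq : S = Pof V' ⊓ Subgroup.centralizer ({x} : Set G) :=
      Subgroup.eq_of_le_of_card_ge hSle (by rw [hcentR x hxR hxV]; exact hS)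
    have hx2 : x * x = 1 := by
      have h1 : v * x * v⁻¹ = x := by
        rw [← hSV x hxR hxN v hv, mul_inv_cancel_right]
      have h2 : v * x * v⁻¹ = x⁻¹ := by
        rw [hx', h.T.inv_eq hv, mul_inv_rev, inv_inv, mul_inv_rev, mul_inv_rev, h.T.inv_eq hv]
        simp only [mul_assoc]
        rw [h.T.sq v hv, mul_one]
      exact mul_eq_one_iff_eq_inv.mpr (h1.symm.trans h2)
    refine hrN (show r ∈ S from hSeq ▸ Subgroup.mem_inf.mpr ⟨hr, ?_⟩).2
    rw [Subgroup.mem_centralizer_singleton_iff]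
    have h1 : v * (r * r) * v⁻¹ = r * x * (r * x) := by
      calc v * (r * r) * v⁻¹ = v * r * v⁻¹ * (v * r * v⁻¹) := by simp [mul_assoc]
        _ = _ := by rw [hvr]
    rw [h.comm' hv (T'.sq_mem hr), mul_inv_cancel_right, mul_assoc r x] at h1
    have h2 : r = x * (r * x) := mul_left_cancel h1
    calc r * x = x * x * (r * x) := by rw [hx2, one_mul]
      _ = x * (x * (r * x)) := by rw [mul_assoc]
      _ = x * r := by rw [← h2]

theorem symm : Pair V' V where
  T := h.T'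
  conj := by
    obtain ⟨g, rfl⟩ := h.conj
    exact ⟨g⁻¹, (cj_inv_cj g V).symm⟩
  ne := Ne.symm h.ne
  le := h.le_symm

end Pair

end Cfsg.Agent.Lib.K41.TIWeak
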