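import Cfsg.Agent.S1757
import Cfsg.Agent.Lib.K41.TIWeak
import Cfsg.Agent.Lib.PGroups.Frattini

/-!
In a 2-group, distinct members of a conjugation-closed TI family of equal order with nontrivial
Frattini subgroup commute.
-/

set_option autoImplicit false
set_option linter.all false

namespace Cfsg.Agent.Lib.K41.TICommute

open Cfsg.Agent.Lib.K41.TIWeak (cj mem_cj conj_mem_cj cj_mul cj_one card_cj cj_eq_of_mem mem_nm_of_cj_eq Nm)

variable {S : Type*} [Group S] [Finite S]

theorem commute_of_ti_family (hS : IsPGroup 2 S) (Δ : Set (Subgroup S))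
    (hinv : ∀ s : S, ∀ R ∈ Δ, cj s R ∈ Δ) (hΦ : ∀ R ∈ Δ, frattini ↥R ≠ ⊥)
    (hord : ∀ R ∈ Δ, ∀ T ∈ Δ, Nat.card ↥R = Nat.card ↥T)
    (hti : ∀ R ∈ Δ, ∀ T ∈ Δ, R = T ∨ R ⊓ T = ⊥) :
    ∀ R ∈ Δ, ∀ T ∈ Δ, R ≠ T → ∀ a ∈ R, ∀ b ∈ T, a * b = b * a := by
  suffices h : ∀ n : ℕ, ∀ K : Subgroup S, Nat.card ↥K = n → ∀ R ∈ Δ, ∀ T ∈ Δ, R ≤ K → T ≤ K →
      R ≠ T → ∀ a ∈ R, ∀ b ∈ T, a * b = b * a from
    fun R hR T hT => h _ ⊤ rfl R hR T hT le_top le_top
  classical
  intro n
  induction n using Nat.strong_induction_on with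
  | _ n ih =>
    intro K hK R hR T hT hRK hTK hne
    have hex : ∀ X ∈ Δ, ∃ x ∈ X, x * x ≠ 1 := by
      intro X hX
      by_contra hcon
      simp only [not_exists, not_and, not_not] at hcon
      refine hΦ X hX (eq_bot_iff.mpr ?_)
      haveI : Fact (Nat.Prime 2) := ⟨Nat.prime_two⟩
      refine Cfsg.Agent.Lib.PGroups.frattini_le_of_pow_commutator (p := 2) ⊥ ?_ ?_
      · intro x
        rw [Subgroup.mem_bot, pow_two]
        exact Subtype.ext (hcon _ x.2)
      · rw [commutator_def, Subgroup.commutator_le]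
        intro x _ y _
        rw [Subgroup.mem_bot, commutatorElement_eq_one_iff_mul_comm]
        apply Subtype.ext
        have hx := inv_eq_of_mul_eq_one_left (hcon _ x.2)
        have hy := inv_eq_of_mul_eq_one_left (hcon _ y.2)
        have hxy := inv_eq_of_mul_eq_one_left (hcon _ (mul_mem x.2 y.2))
        rw [mul_inv_rev, hx, hy] at hxy
        exact hxy.symm
    -- conjugates inside `K` of a member commute
    have hconj : ∀ X ∈ Δ, X ≤ K → ∀ k ∈ K, cj k X ≠ X →
        ∀ a ∈ cj k X, ∀ b ∈ X, a * b = b * a := by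
      intro X hX hXK k hk hkX
      have hne : X.subgroupOf K ≠ ⊤ := by
        rw [Ne, Subgroup.subgroupOf_eq_top]
        intro hKX
        refine hkX (cj_eq_of_mem ?_)
        exact Subgroup.le_normalizer (hKX hk)
      obtain ⟨M, hM, hXM⟩ := (eq_top_or_exists_le_coatom (X.subgroupOf K)).resolve_left hne
      haveI : Fact (Nat.Prime 2) := ⟨Nat.prime_two⟩
      haveI := Cfsg.Agent.Lib.PGroups.coatom_normal (hS.to_subgroup K) hM
      have hXle : X ≤ M.map K.subtype := fun x hx => ⟨⟨x, hXK hx⟩, hXM hx, rfl⟩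
      have hcle : cj k X ≤ M.map K.subtype := by
        rintro _ ⟨x, hx, rfl⟩
        exact ⟨_, (inferInstance : M.Normal).conj_mem ⟨x, hXK hx⟩ (hXM hx) ⟨k, hk⟩, rfl⟩
      have hlt : Nat.card ↥(M.map K.subtype) < n := by
        rw [Subgroup.card_map_of_injective K.subtype_injective, ← hK]
        exact lt_of_le_of_ne (Subgroup.card_le_card_group M)
          fun h => hM.1 (Subgroup.eq_top_of_card_eq M h)
      exact ih _ hlt _ rfl _ (hinv k X hX) X hX hcle hXle hkX
    -- one normalising the other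
    have hnorm : ∀ X ∈ Δ, ∀ Y ∈ Δ, X ≠ Y → (∀ y ∈ Y, cj y X = X) → ∀ a ∈ X, ∀ b ∈ Y, a * b = b * a := by
      intro X hX Y hY hXY hn
      have hti' : ∀ Z ∈ Δ, ∀ g : S, cj g Z = Z ∨ cj g Z ⊓ Z = ⊥ := fun Z hZ g =>
        hti _ (hinv g Z hZ) _ hZ
      have hb : ⁅X, Y⁆ = ⊥ := Cfsg.Agent.S1757.result 2 X Y (hS.to_subgroup X) (hS.to_subgroup Y)
        (hti' X hX) (hti' Y hY) (hord X hX Y hY).le ((hti X hX Y hY).resolve_left hXY)
        (fun y hy => mem_nm_of_cj_eq (hn y hy))
      intro a ha b hb'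
      exact (Subgroup.mem_centralizer_iff.mp
        ((Subgroup.commutator_eq_bot_iff_le_centralizer.mp hb) ha) b hb').symm
    by_contra hcon
    simp only [not_forall] at hcon
    obtain ⟨a₀, ha₀, b₀, hb₀, hab₀⟩ := hcon
    have hmvR : ∃ t ∈ T, cj t R ≠ R := by
      by_contra h
      simp only [not_exists, not_and, not_not] at h
      exact hab₀ (hnorm R hR T hT hne h a₀ ha₀ b₀ hb₀)
    have hmvT : ∃ r ∈ R, cj r T ≠ T := by
      by_contra h
      simp only [not_exists, not_and, not_not] at h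
      exact hab₀ (hnorm T hT R hR hne.symm h b₀ hb₀ a₀ ha₀).symm
    have hcap : ∀ {X Y : Subgroup S}, X ∈ Δ → Y ∈ Δ → X ≠ Y → ∀ x, x ∈ X → x ∈ Y → x = 1 := by
      intro X Y hX hY hXY x h1 h2
      have : x ∈ X ⊓ Y := ⟨h1, h2⟩
      rw [(hti X hX Y hY).resolve_left hXY] at this
      exact Subgroup.mem_bot.mp this
    -- a mover whose square does not move
    obtain ⟨u, hu, humv, hu2⟩ : ∃ u ∈ T, cj u R ≠ R ∧ cj (u * u) R = R := by
      obtain ⟨t, ht, htmv⟩ := hmvR
      obtain ⟨k, hk⟩ := hS t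
      have hexk : ∃ j, cj (t ^ 2 ^ j) R = R := ⟨k, by rw [hk, cj_one]⟩
      have h0 : Nat.find hexk ≠ 0 := fun h0 => by
        have := Nat.find_spec hexk
        rw [h0, pow_zero, pow_one] at this
        exact htmv this
      obtain ⟨j, hj⟩ : ∃ j, Nat.find hexk = j + 1 := ⟨Nat.find hexk - 1, by omega⟩
      refine ⟨t ^ 2 ^ j, pow_mem ht _, Nat.find_min hexk (by omega), ?_⟩
      have := Nat.find_spec hexk
      rwa [hj, pow_succ, pow_mul, pow_two] at this
    -- every mover in `R` is an involution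
    have hRinv : ∀ r ∈ R, cj r T ≠ T → r * r = 1 := by
      intro r hr hrmv
      set a := u * r * u⁻¹ with ha
      have haR' : a ∈ cj u R := conj_mem_cj hr
      have hcT : r * u⁻¹ * r⁻¹ ∈ cj r T := conj_mem_cj (inv_mem hu)
      have huc := hconj T hT hTK r (hRK hr) hrmv _ hcT u hu
      have har : a * r = r * a := hconj R hR hRK u (hTK hu) humv a haR' r hr
      have hw : u * (a * r⁻¹) * u⁻¹ = a * r⁻¹ := by
        have h1 : a * r⁻¹ = u * (r * u⁻¹ * r⁻¹) := by simp [ha, mul_assoc]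
        rw [h1, ← huc, ← mul_assoc, mul_inv_cancel_right]
        exact huc.symm
      have hb : u * a * u⁻¹ ∈ R := by
        have : u * u * r * (u * u)⁻¹ ∈ cj (u * u) R := conj_mem_cj hr
        rw [hu2] at this
        simpa [ha, mul_assoc] using this
      have h2 : u * a * u⁻¹ * r = a * a := by
        have h3 : u * a * u⁻¹ * a⁻¹ = a * r⁻¹ := by
          rw [← hw]; simp [ha, mul_assoc]
        have h4 : u * a * u⁻¹ = a * r⁻¹ * a := by
          rw [← h3, inv_mul_cancel_right]
        rw [h4, mul_assoc, har, ← mul_assoc, inv_mul_cancel_right]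
      have h5 : a * a = 1 :=
        hcap (hinv u R hR) hR humv _ (mul_mem haR' haR') (h2 ▸ mul_mem hb hr)
      calc r * r = u⁻¹ * (a * a) * u := by simp [ha, mul_assoc]
        _ = 1 := by rw [h5, mul_one, inv_mul_cancel]
    obtain ⟨r, hr, hrmv⟩ := hmvT
    have hr2 := hRinv r hr hrmv
    have hri : r⁻¹ = r := inv_eq_of_mul_eq_one_left hr2
    have hcu : cj r T ≠ T := hrmv
    have huc := hconj T hT hTK r (hRK hr) hrmv _ (conj_mem_cj (x := r) (inv_mem hu)) u hu
    have har : (u * r * u⁻¹) * r = r * (u * r * u⁻¹) :=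
      hconj R hR hRK u (hTK hu) humv _ (conj_mem_cj hr) r hr
    have hu1 : u * u = 1 := by
      set c := r * u⁻¹ * r⁻¹ with hc
      have h1 : u * u * (c * c) = 1 := by
        calc u * u * (c * c) = u * (u * c) * c := by simp only [mul_assoc]
          _ = u * (c * u) * c := by rw [← huc]
          _ = (u * r * u⁻¹ * r⁻¹) * (u * r * u⁻¹ * r⁻¹) := by simp [hc, mul_assoc]
          _ = (u * r * u⁻¹) * r * ((u * r * u⁻¹) * r) := by rw [hri]
          _ = r * (u * r * u⁻¹) * ((u * r * u⁻¹) * r) := by rw [← har]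
          _ = r * (u * (r * r) * u⁻¹) * r := by simp [mul_assoc]
          _ = 1 := by rw [hr2, mul_one, mul_inv_cancel, mul_one, hr2]
      have h2 : u * u = (c * c)⁻¹ := eq_inv_of_mul_eq_one_left h1
      exact hcap hT (hinv r T hT) hrmv.symm _ (mul_mem hu hu)
        (h2 ▸ inv_mem (mul_mem (conj_mem_cj (inv_mem hu)) (conj_mem_cj (inv_mem hu))))
    have hui : u⁻¹ = u := inv_eq_of_mul_eq_one_left hu1
    -- an element of order four of `R`
    obtain ⟨h, hh, hh2, hh4⟩ : ∃ h ∈ R, h * h ≠ 1 ∧ h * h * (h * h) = 1 := by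
      obtain ⟨x, hx, hx2⟩ := hex R hR
      obtain ⟨k, hk⟩ := hS x
      have hexk : ∃ j, x ^ 2 ^ j = 1 := ⟨k, hk⟩
      have h0 : Nat.find hexk ≠ 0 := fun h0 => by
        have := Nat.find_spec hexk
        rw [h0, pow_zero, pow_one] at this
        exact hx2 (by rw [this, one_mul])
      have h1 : Nat.find hexk ≠ 1 := fun h0 => by
        have := Nat.find_spec hexk
        rw [h0, pow_one, pow_two] at this
        exact hx2 this
      obtain ⟨j, hj⟩ : ∃ j, Nat.find hexk = j + 2 := ⟨Nat.find hexk - 2, by omega⟩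
      refine ⟨x ^ 2 ^ j, pow_mem hx _, ?_, ?_⟩
      · rw [← pow_two, ← pow_mul, ← pow_succ]
        exact Nat.find_min hexk (by omega)
      · have := Nat.find_spec hexk
        rw [hj] at this
        rw [← this, show 2 ^ (j + 2) = 2 ^ j + 2 ^ j + (2 ^ j + 2 ^ j) by ring]
        simp only [pow_add]
    have hhn : cj h T = T := by
      by_contra hc
      exact hh2 (hRinv h hh hc)
    have hrh : r * h * r = h⁻¹ := by
      have hc : cj (r * h) T ≠ T := by
        rw [← cj_mul, hhn]; exact hrmv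
      have := hRinv _ (mul_mem hr hh) hc
      rw [← mul_assoc] at this
      exact eq_inv_of_mul_eq_one_left this
    set a := u * h * u⁻¹ with ha
    have haR' : a ∈ cj u R := conj_mem_cj hh
    set k := a * h⁻¹ with hk
    have hkT : k ∈ T := by
      have h1 : h * u⁻¹ * h⁻¹ ∈ T := hhn ▸ conj_mem_cj (inv_mem hu)
      have := mul_mem hu h1
      simpa [hk, ha, mul_assoc] using this
    have hah : a * h = h * a := hconj R hR hRK u (hTK hu) humv a haR' h hh
    have har' : a * r = r * a := hconj R hR hRK u (hTK hu) humv a haR' r hr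
    have hkr : r * k * r⁻¹ = k * (h * h) := by
      rw [hri, hk]
      calc r * (a * h⁻¹) * r = (r * a) * (h⁻¹ * r) := by simp only [mul_assoc]
        _ = a * (r * h⁻¹ * r) := by rw [← har']; simp only [mul_assoc]
        _ = a * (r * h * r)⁻¹ := by rw [mul_inv_rev, mul_inv_rev, hri]; simp only [mul_assoc]
        _ = a * h⁻¹ * (h * h) := by rw [hrh, inv_inv]; simp [mul_assoc]
    have hkh : Commute k (h * h) := by
      have h1 : Commute a (h * h) := (show Commute a h from hah).mul_right hah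
      have h2 : Commute h⁻¹ (h * h) :=
        ((Commute.refl h).mul_right (Commute.refl h)).inv_left
      exact h1.mul_left h2
    have hk2 : k * k = 1 := by
      refine hcap hT (hinv r T hT) hrmv.symm _ (mul_mem hkT hkT) ?_
      have h1 := mul_mem (conj_mem_cj (x := r) hkT) (conj_mem_cj (x := r) hkT)
      rw [hkr] at h1
      rwa [hkh.symm.mul_mul_mul_comm, hh4, mul_one] at h1
    have h3 : a * a = h * h := by
      have h4 : a = k * h := by rw [hk, inv_mul_cancel_right]
      have hkh1 : Commute k h := ((show Commute a h from hah)).mul_left (Commute.refl h).inv_left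
      rw [h4, hkh1.symm.mul_mul_mul_comm, hk2, one_mul]
    exact hh2 (hcap hR (hinv u R hR) humv.symm _ (mul_mem hh hh) (h3 ▸ mul_mem haR' haR'))

end Cfsg.Agent.Lib.K41.TICommute
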