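import Cfsg.Agent.Lib.K41.TIWeak
import Cfsg.Agent.Lib.K41.JordanField
import Cfsg.Agent.Lib.AutPSL.Gen

/-!
For a pair `(V, V')`: the field of order `|V|` inside `End V` and the action of `⟨P, P'⟩` on `V V'` as
`SL₂`.
-/

set_option autoImplicit false
set_option linter.all false

namespace Cfsg.Agent.Lib.K41.TIWeak.Pair

open Cfsg
open scoped commutatorElement
open Cfsg.Agent.Lib.K41.JordanField (IsJordanSet)
open Matrix
open scoped IsMulCommutative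

variable {G : Type*} [Group G] [Finite G] {V V' : Subgroup G} (h : Pair V V')

/-- `v ↦ ⁅x, v⁆` from `V'` to `V`. -/
noncomputable def aHom (x : ↥(Pof V)) : ↥V' →* ↥V where
  toFun u := ⟨⁅(x : G), (u : G)⁆, h.T.commElem_mem x.2 (h.le_pof u.2)⟩
  map_one' := Subtype.ext (by simp)
  map_mul' u w := Subtype.ext (commElem_mul_right
    (h.comm' (h.T.commElem_mem x.2 (h.le_pof w.2)) u.2).symm)

theorem aHom_apply (x : ↥(Pof V)) (u : ↥V') : ((h.aHom x u : ↥V) : G) = ⁅(x : G), (u : G)⁆ := rfl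

variable [IsMulCommutative ↥V] {B : Subgroup G} (hB : Opp V V' B) (b₀ : ↥B) (hb₀ : (b₀ : G) ≠ 1)

/-- The identification of `V'` with `V` by a fixed element. -/
noncomputable def tau : ↥V' ≃* ↥V :=
  MulEquiv.ofBijective (h.aHom ⟨b₀, hB.le b₀.2⟩) <| by
    refine (Nat.bijective_iff_surjective_and_card _).mpr ⟨fun v => ?_, h.card_eq⟩
    obtain ⟨u, hu, he⟩ := h.surj_right hB b₀.2 hb₀ v.2
    exact ⟨⟨u, hu⟩, Subtype.ext he⟩

theorem tau_apply (u : ↥V') : ((h.tau hB b₀ hb₀ u : ↥V) : G) = ⁅(b₀ : G), (u : G)⁆ := rfl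

/-- The endomorphism of `V` given by an element of `P`. -/
noncomputable def phiEnd (x : ↥(Pof V)) : AddMonoid.End (Additive ↥V) :=
  MonoidHom.toAdditive ((h.aHom x).comp (h.tau hB b₀ hb₀).symm.toMonoidHom)

theorem phiEnd_apply (x : ↥(Pof V)) (v : ↥V) :
    ((Additive.toMul (h.phiEnd hB b₀ hb₀ x (Additive.ofMul v)) : ↥V) : G) =
      ⁅(x : G), (((h.tau hB b₀ hb₀).symm v : ↥V') : G)⁆ := rfl

theorem phiEnd_mul (x y : ↥(Pof V)) :
    h.phiEnd hB b₀ hb₀ (x * y) = h.phiEnd hB b₀ hb₀ x + h.phiEnd hB b₀ hb₀ y := by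
  refine AddMonoidHom.ext fun w => ?_
  obtain ⟨v, rfl⟩ : ∃ v, Additive.ofMul v = w := ⟨Additive.toMul w, rfl⟩
  apply Additive.toMul.injective
  apply Subtype.ext
  show ⁅((x * y : ↥(Pof V)) : G), (((h.tau hB b₀ hb₀).symm v : ↥V') : G)⁆ =
    ⁅(x : G), (((h.tau hB b₀ hb₀).symm v : ↥V') : G)⁆ *
      ⁅(y : G), (((h.tau hB b₀ hb₀).symm v : ↥V') : G)⁆
  rw [Subgroup.coe_mul, commElem_mul_left (h.T.pof_comm x.2 (h.T.commElem_mem y.2
    (h.le_pof ((h.tau hB b₀ hb₀).symm v).2)))]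
  exact h.T.comm _ (h.T.commElem_mem y.2 (h.le_pof (Subtype.coe_prop _))) _
    (h.T.commElem_mem x.2 (h.le_pof (Subtype.coe_prop _)))

/-- The additive group of endomorphisms. -/
noncomputable def aSet : AddSubgroup (AddMonoid.End (Additive ↥V)) :=
  (AddMonoidHom.mk' (fun x : Additive ↥(Pof V) => h.phiEnd hB b₀ hb₀ (Additive.toMul x))
    fun x y => h.phiEnd_mul hB b₀ hb₀ _ _).range

theorem mem_aSet {a : AddMonoid.End (Additive ↥V)} :
    a ∈ h.aSet hB b₀ hb₀ ↔ ∃ x : ↥(Pof V), h.phiEnd hB b₀ hb₀ x = a := by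
  constructor
  · rintro ⟨x, rfl⟩
    exact ⟨Additive.toMul x, rfl⟩
  · rintro ⟨x, rfl⟩
    exact ⟨Additive.ofMul x, rfl⟩

/-- The endomorphism of `V` given by an element of `P'`. -/
noncomputable def psiEnd (r : ↥(Pof V')) : AddMonoid.End (Additive ↥V) :=
  MonoidHom.toAdditive ((h.tau hB b₀ hb₀).toMonoidHom.comp (h.symm.aHom r))

theorem psiEnd_mul (r s : ↥(Pof V')) :
    h.psiEnd hB b₀ hb₀ (r * s) = h.psiEnd hB b₀ hb₀ r + h.psiEnd hB b₀ hb₀ s := by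
  refine AddMonoidHom.ext fun w => ?_
  obtain ⟨v, rfl⟩ : ∃ v, Additive.ofMul v = w := ⟨Additive.toMul w, rfl⟩
  apply Additive.toMul.injective
  show h.tau hB b₀ hb₀ (h.symm.aHom (r * s) v) =
    h.tau hB b₀ hb₀ (h.symm.aHom r v) * h.tau hB b₀ hb₀ (h.symm.aHom s v)
  rw [← map_mul]
  congr 1
  apply Subtype.ext
  show ⁅(r : G) * s, (v : G)⁆ = ⁅(r : G), (v : G)⁆ * ⁅(s : G), (v : G)⁆
  rw [commElem_mul_left (h.symm.T.pof_comm r.2 (h.symm.T.commElem_mem s.2 (h.symm.le_pof v.2)))]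
  exact h.symm.T.comm _ (h.symm.T.commElem_mem s.2 (h.symm.le_pof v.2)) _
    (h.symm.T.commElem_mem r.2 (h.symm.le_pof v.2))

/-- Equal conjugates give inverse endomorphisms. -/
theorem phi_mul_psi {x : ↥(Pof V)} {r : ↥(Pof V')}
    (heq : cj (r : G) V = cj (x : G) V') : h.phiEnd hB b₀ hb₀ x * h.psiEnd hB b₀ hb₀ r = 1 := by
  refine AddMonoidHom.ext fun w => ?_
  obtain ⟨v, rfl⟩ : ∃ v, Additive.ofMul v = w := ⟨Additive.toMul w, rfl⟩
  apply Additive.toMul.injective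
  apply Subtype.ext
  show ⁅(x : G), (((h.tau hB b₀ hb₀).symm (h.tau hB b₀ hb₀ (h.symm.aHom r v)) : ↥V') : G)⁆ = (v : G)
  rw [MulEquiv.symm_apply_apply, aHom_apply]
  have h1 : (r : G) * v * (r : G)⁻¹ ∈ cj (x : G) V' := heq ▸ conj_mem_cj v.2
  obtain ⟨u, hu, he⟩ := h1
  have he' : ⁅(x : G), u⁆ * u = ⁅(r : G), (v : G)⁆ * v := by
    rw [← conj_eq_mul, ← conj_eq_mul]; exact he
  have hc := h.symm.T.commElem_mem r.2 (h.symm.le_pof v.2)
  have hd := h.T.commElem_mem x.2 (h.le_pof hu)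
  rw [← h.comm' v.2 hc] at he'
  have h2 : (v : G)⁻¹ * ⁅(x : G), u⁆ = ⁅(r : G), (v : G)⁆ * u⁻¹ := by
    have := congrArg (fun t => (v : G)⁻¹ * t * u⁻¹) he'
    simpa [mul_assoc] using this
  have h3 := h.eq_one_of_mem (mul_mem (inv_mem v.2) hd) (h2 ▸ mul_mem hc (inv_mem hu))
  have h4 : ⁅(r : G), (v : G)⁆ = u := by
    rw [h3] at h2
    exact (mul_inv_eq_one.mp h2.symm)
  rw [h4]
  exact (inv_mul_eq_one.mp h3).symm

theorem phi_eq_zero {x : ↥(Pof V)} (hx : (x : G) ∈ Cof V V') : h.phiEnd hB b₀ hb₀ x = 0 := by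
  refine AddMonoidHom.ext fun w => ?_
  obtain ⟨v, rfl⟩ : ∃ v, Additive.ofMul v = w := ⟨Additive.toMul w, rfl⟩
  apply Additive.toMul.injective
  apply Subtype.ext
  exact commutatorElement_eq_one_iff_mul_comm.mpr
    (hx.2 _ ((h.tau hB b₀ hb₀).symm v).2).symm

theorem phi_of_opp (x : ↥(Pof V)) :
    ∃ b : ↥B, h.phiEnd hB b₀ hb₀ x = h.phiEnd hB b₀ hb₀ ⟨b, hB.le b.2⟩ := by
  obtain ⟨b, hb, hc⟩ := h.decomp hB x.2
  refine ⟨⟨b, hb⟩, ?_⟩
  have : x = (⟨b, hB.le hb⟩ : ↥(Pof V)) * ⟨b⁻¹ * x, hc.1⟩ := Subtype.ext (by simp)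
  conv_lhs => rw [this, phiEnd_mul, h.phi_eq_zero hB b₀ hb₀ (x := ⟨_, hc.1⟩) hc, add_zero]

theorem phi_opp_ne_zero {b : ↥B} (hb : (b : G) ≠ 1) :
    h.phiEnd hB b₀ hb₀ ⟨b, hB.le b.2⟩ ≠ 0 := by
  intro he
  obtain ⟨u, hu, hu1⟩ := h.exists_ne_one
  refine hB.ncomm b b.2 hb u hu hu1 (commutatorElement_eq_one_iff_mul_comm.mp ?_)
  have := congrArg (fun t => ((Additive.toMul t : ↥V) : G))
    (DFunLike.congr_fun he (Additive.ofMul (h.tau hB b₀ hb₀ ⟨u, hu⟩)))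
  rw [phiEnd_apply, MulEquiv.symm_apply_apply] at this
  exact this

/-- A nonzero element of `aSet` has its inverse among the `psiEnd`. -/
theorem exists_psi_inv {a : AddMonoid.End (Additive ↥V)} (ha : a ∈ h.aSet hB b₀ hb₀) (ha0 : a ≠ 0) :
    ∃ r, a * h.psiEnd hB b₀ hb₀ r = 1 := by
  obtain ⟨x, rfl⟩ := (h.mem_aSet hB b₀ hb₀).mp ha
  obtain ⟨b, hb⟩ := h.phi_of_opp hB b₀ hb₀ x
  have hb1 : (b : G) ≠ 1 := by
    intro he
    apply ha0
    rw [hb]
    exact h.phi_eq_zero hB b₀ hb₀ (x := ⟨b, _⟩) (by show (b : G) ∈ _; rw [he]; exact one_mem _)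
  obtain ⟨u, hu, hu1⟩ := h.exists_ne_one
  have hw : (b : G) * u * (b : G)⁻¹ ∈ V' ⊔ V := by
    rw [sup_comm]
    exact h.cj_le_W (hB.le b.2) (conj_mem_cj hu)
  have hwV : (b : G) * u * (b : G)⁻¹ ∉ V' := by
    rw [conj_eq_mul]
    intro hc
    refine hB.ncomm b b.2 hb1 u hu hu1 (commutatorElement_eq_one_iff_mul_comm.mp
      (h.eq_one_of_mem (h.T.commElem_mem (hB.le b.2) (h.le_pof hu)) ?_))
    have := mul_mem hc (inv_mem hu)
    rwa [mul_inv_cancel_right] at this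
  obtain ⟨B', hB'⟩ := h.symm.exists_opp
  obtain ⟨r, hr, hwr⟩ := h.symm.cover hB' hw hwV
  obtain ⟨g, hg⟩ := h.conj
  have heq : cj r V = cj (b : G) V' := by
    rw [hg, cj_mul]
    refine h.T.eq_of_common hwr ?_ fun he => hu1 (conj_eq_one_iff.mp he)
    rw [← cj_mul, ← hg]
    exact conj_mem_cj hu
  refine ⟨⟨r, hB'.le hr⟩, ?_⟩
  rw [hb]
  exact h.phi_mul_psi hB b₀ hb₀ (x := ⟨b, hB.le b.2⟩) (r := ⟨r, hB'.le hr⟩) heq

/-- A nonzero `psiEnd` has its inverse in `aSet`. -/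
theorem exists_phi_inv {r : ↥(Pof V')} (hr : h.psiEnd hB b₀ hb₀ r ≠ 0) :
    ∃ a ∈ h.aSet hB b₀ hb₀, a * h.psiEnd hB b₀ hb₀ r = 1 := by
  obtain ⟨v, hv, hne⟩ : ∃ v ∈ V, ⁅(r : G), v⁆ ≠ 1 := by
    by_contra hcon
    simp only [not_exists, not_and, not_not] at hcon
    refine hr (AddMonoidHom.ext fun w => ?_)
    apply Additive.toMul.injective
    show h.tau hB b₀ hb₀ (h.symm.aHom r (Additive.toMul w)) = 1
    rw [show h.symm.aHom r (Additive.toMul w) = 1 from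
      Subtype.ext (hcon _ (Additive.toMul w).2), map_one]
  have hv1 : v ≠ 1 := fun he => hne (by rw [he]; simp)
  have hc := h.symm.T.commElem_mem r.2 (h.symm.le_pof hv)
  have hw : (r : G) * v * (r : G)⁻¹ ∈ V ⊔ V' := by
    rw [conj_eq_mul]
    exact mul_mem (Subgroup.mem_sup_right hc) (Subgroup.mem_sup_left hv)
  have hwV : (r : G) * v * (r : G)⁻¹ ∉ V := by
    rw [conj_eq_mul]
    intro hm
    refine hne (h.eq_one_of_mem ?_ hc)
    have := mul_mem hm (inv_mem hv)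
    rwa [mul_inv_cancel_right] at this
  obtain ⟨b, hb, hwb⟩ := h.cover hB hw hwV
  obtain ⟨g, hg⟩ := h.conj
  have heq : cj (r : G) V = cj b V' := by
    rw [show cj b V' = cj (b * g) V by rw [← cj_mul, ← hg]]
    refine h.T.eq_of_common (conj_mem_cj hv) ?_ fun he => hv1 (conj_eq_one_iff.mp he)
    rw [← cj_mul, ← hg]
    exact hwb
  exact ⟨_, (h.mem_aSet hB b₀ hb₀).mpr ⟨_, rfl⟩,
    h.phi_mul_psi hB b₀ hb₀ (x := ⟨b, hB.le hb⟩) heq⟩

theorem isJordanSet : IsJordanSet (h.aSet hB b₀ hb₀) where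
  two := by
    intro v
    apply Additive.toMul.injective
    exact Subtype.ext (h.T.sq _ (Additive.toMul v).2)
  one_mem := by
    refine (h.mem_aSet hB b₀ hb₀).mpr ⟨⟨b₀, hB.le b₀.2⟩, AddMonoidHom.ext fun w => ?_⟩
    apply Additive.toMul.injective
    exact (h.tau hB b₀ hb₀).apply_symm_apply (Additive.toMul w)
  inv := by
    intro a ha ha0
    have hself : ∀ x : AddMonoid.End (Additive ↥V), x + x = 0 := fun x => AddMonoidHom.ext fun v =>
      Additive.toMul.injective (Subtype.ext (h.T.sq _ (Additive.toMul (x v)).2))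
    have hone : (1 : AddMonoid.End (Additive ↥V)) ∈ h.aSet hB b₀ hb₀ := by
      refine (h.mem_aSet hB b₀ hb₀).mpr ⟨⟨b₀, hB.le b₀.2⟩, AddMonoidHom.ext fun w => ?_⟩
      apply Additive.toMul.injective
      exact (h.tau hB b₀ hb₀).apply_symm_apply (Additive.toMul w)
    have hcomm : ∀ x y : AddMonoid.End (Additive ↥V), x * y = 1 → y * x = 1 := by
      intro x y hxy
      have hs : Function.Surjective x := fun v => ⟨y v, DFunLike.congr_fun hxy v⟩
      refine AddMonoidHom.ext fun v => ?_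
      exact (Finite.injective_iff_surjective.mpr hs) (DFunLike.congr_fun hxy (x v))
    obtain ⟨r, hr⟩ := h.exists_psi_inv hB b₀ hb₀ ha ha0
    set a' := h.psiEnd hB b₀ hb₀ r
    refine ⟨a', ?_, hr, hcomm _ _ hr⟩
    by_cases hc : 1 + a = 0
    · have ha1 : a = 1 := by
        have := congrArg (1 + ·) hc
        simpa [← add_assoc, hself] using this
      rw [ha1, one_mul] at hr
      rwa [hr]
    obtain ⟨s, hs⟩ := h.exists_psi_inv hB b₀ hb₀ (add_mem hone ha) hc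
    set c' := h.psiEnd hB b₀ hb₀ s
    have hne1 : (1 : AddMonoid.End (Additive ↥V)) ≠ 0 := by
      intro h1
      exact ha0 (by rw [← one_mul a, h1, zero_mul])
    obtain ⟨r₁, hr₁⟩ := h.exists_psi_inv hB b₀ hb₀ hone hne1
    rw [one_mul] at hr₁
    have hψ : h.psiEnd hB b₀ hb₀ (r₁ * s) = c' * a := by
      rw [psiEnd_mul, hr₁]
      have h1 := hcomm _ _ hs
      rw [mul_add, mul_one] at h1
      conv_lhs => rw [← h1]
      calc c' + c' * a + c' = (c' + c') + c' * a := by abel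
        _ = c' * a := by rw [hself, zero_add]
    have hψ0 : h.psiEnd hB b₀ hb₀ (r₁ * s) ≠ 0 := by
      rw [hψ]
      intro h0
      refine ha0 ?_
      calc a = (1 + a) * c' * a := by rw [hs, one_mul]
        _ = 0 := by rw [mul_assoc, h0, mul_zero]
    obtain ⟨t, ht, ht'⟩ := h.exists_phi_inv hB b₀ hb₀ hψ0
    rw [hψ] at ht'
    have h2 : t * c' = a' := by
      calc t * c' = t * (c' * a) * a' := by rw [mul_assoc, mul_assoc c', hr, mul_one]
        _ = a' := by rw [ht', one_mul]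
    have h3 : t = a' + 1 := by
      calc t = t * (c' * (1 + a)) := by rw [hcomm _ _ hs, mul_one]
        _ = a' + 1 := by rw [← mul_assoc, h2, mul_add, mul_one, hcomm _ _ hr]
    have h4 := add_mem ht hone
    rwa [h3, add_assoc, hself, add_zero] at h4

theorem psi_mem (r : ↥(Pof V')) : h.psiEnd hB b₀ hb₀ r ∈ h.aSet hB b₀ hb₀ := by
  by_cases hr : h.psiEnd hB b₀ hb₀ r = 0
  · rw [hr]; exact zero_mem _
  obtain ⟨a, ha, hae⟩ := h.exists_phi_inv hB b₀ hb₀ hr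
  have ha0 : a ≠ 0 := by
    rintro rfl
    rw [zero_mul] at hae
    exact hr (by rw [← one_mul (h.psiEnd hB b₀ hb₀ r), ← hae, zero_mul])
  obtain ⟨b, hb, -, hba⟩ := (h.isJordanSet hB b₀ hb₀).inv a ha ha0
  have : h.psiEnd hB b₀ hb₀ r = b := by
    rw [← one_mul (h.psiEnd hB b₀ hb₀ r), ← hba, mul_assoc, hae, mul_one]
  rwa [this]

theorem card_aSet : Nat.card ↥(h.aSet hB b₀ hb₀) = Nat.card ↥V := by
  rw [← h.card_opp hB]
  refine (Nat.card_congr (Equiv.ofBijective (fun b : ↥B =>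
    (⟨_, (h.mem_aSet hB b₀ hb₀).mpr ⟨⟨b, hB.le b.2⟩, rfl⟩⟩ : ↥(h.aSet hB b₀ hb₀))) ⟨?_, ?_⟩)).symm
  · intro b c he
    have he' := congrArg Subtype.val he
    by_contra hne
    have h1 := h.phi_opp_ne_zero hB b₀ hb₀ (b := b⁻¹ * c) (fun h1 => hne (inv_mul_eq_one.mp (Subtype.ext h1)))
    have h2 : (⟨c, hB.le c.2⟩ : ↥(Pof V)) = ⟨b, hB.le b.2⟩ * ⟨((b⁻¹ * c : ↥B) : G), hB.le (b⁻¹ * c).2⟩ :=
      Subtype.ext (by simp)
    have h3 : h.phiEnd hB b₀ hb₀ ⟨c, hB.le c.2⟩ = h.phiEnd hB b₀ hb₀ ⟨b, hB.le b.2⟩ := he'.symm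
    rw [h2, phiEnd_mul] at h3
    exact h1 (add_eq_left.mp h3)
  · rintro ⟨a, ha⟩
    obtain ⟨x, rfl⟩ := (h.mem_aSet hB b₀ hb₀).mp ha
    obtain ⟨b, hb⟩ := h.phi_of_opp hB b₀ hb₀ x
    exact ⟨b, Subtype.ext hb.symm⟩

include hb₀ in
/-- The field of order `|V|`. -/
theorem exists_field : ∃ (F : Type) (_ : Field F) (_ : Fintype F)
    (ι : F →+* AddMonoid.End (Additive ↥V)), Function.Injective ι ∧
      (∀ a, a ∈ h.aSet hB b₀ hb₀ ↔ ∃ k, ι k = a) ∧ Fintype.card F = Nat.card ↥V := by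
  have hJ := h.isJordanSet hB b₀ hb₀
  obtain ⟨v, hv, hv1⟩ := h.exists_ne_one_left
  haveI : Nontrivial (AddMonoid.End (Additive ↥V)) := by
    refine ⟨0, 1, fun he => hv1 ?_⟩
    exact congrArg (fun t => ((Additive.toMul t : ↥V) : G))
      (DFunLike.congr_fun he (Additive.ofMul (⟨v, hv⟩ : ↥V))).symm
  let K : Subring (AddMonoid.End (Additive ↥V)) :=
    { (h.aSet hB b₀ hb₀) with
      one_mem' := hJ.one_mem
      mul_mem' := fun ha hb => hJ.mul_mem ha hb }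
  letI : Field ↥K := (hJ.isField_of_subring K (fun x hx => hx) (fun x hx y hy => hJ.comm hx hy)).toField
  haveI : Finite ↥K := by
    haveI := hJ.finite_end
    infer_instance
  let e : Shrink.{0} ↥K ≃+* ↥K := Shrink.ringEquiv.{0} ↥K
  refine ⟨Shrink.{0} ↥K, inferInstance, @Fintype.ofEquiv _ _ (Fintype.ofFinite ↥K) (equivShrink.{0} ↥K), (K.subtype : ↥K →+* AddMonoid.End (Additive ↥V)).comp e.toRingHom,
    Subtype.val_injective.comp e.injective, fun a => ⟨fun ha => ⟨e.symm ⟨a, ha⟩, ?_⟩, ?_⟩, ?_⟩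
  · show ((e (e.symm ⟨a, ha⟩) : ↥K) : AddMonoid.End (Additive ↥V)) = a
    rw [e.apply_symm_apply]
  · rintro ⟨k, rfl⟩
    exact (e k).2
  · rw [Fintype.card_eq_nat_card, Nat.card_congr e.toEquiv]
    exact h.card_aSet hB b₀ hb₀

include hb₀ in
theorem exists_psi {a : AddMonoid.End (Additive ↥V)} (ha : a ∈ h.aSet hB b₀ hb₀) :
    ∃ r, h.psiEnd hB b₀ hb₀ r = a := by
  by_cases ha0 : a = 0
  · refine ⟨1, ?_⟩
    have := h.psiEnd_mul hB b₀ hb₀ 1 1
    rw [mul_one] at this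
    rw [ha0]
    exact add_eq_left.mp this.symm
  obtain ⟨b, hb, hab, -⟩ := (h.isJordanSet hB b₀ hb₀).inv a ha ha0
  have hb0 : b ≠ 0 := by
    rintro rfl
    rw [mul_zero] at hab
    exact ha0 (by rw [← one_mul a, ← hab, zero_mul])
  obtain ⟨r, hr⟩ := h.exists_psi_inv hB b₀ hb₀ hb hb0
  exact ⟨r, by rw [← one_mul (h.psiEnd hB b₀ hb₀ r), ← hab, mul_assoc, hr, mul_one]⟩

include h in
theorem le_normalizer_W : Pof V ⊔ Pof V' ≤ Subgroup.normalizer ((V ⊔ V' : Subgroup G) : Set G) := by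
  have key : ∀ {X Y : Subgroup G}, Pair X Y → ∀ x ∈ Pof X, cj x (X ⊔ Y) ≤ X ⊔ Y := by
    intro X Y hXY x hx
    rw [cj, Subgroup.map_sup]
    refine sup_le ?_ (hXY.cj_le_W hx)
    exact (cj_eq_of_mem (hXY.T.pof_le hx)).le.trans le_sup_left
  have heq : ∀ x : G, cj x (V ⊔ V') ≤ V ⊔ V' → cj x (V ⊔ V') = V ⊔ V' := fun x hx =>
    Subgroup.eq_of_le_of_card_ge hx (card_cj x _).ge
  refine sup_le (fun x hx => mem_nm_of_cj_eq (heq x (key h x hx)))
    (fun x hx => mem_nm_of_cj_eq (heq x ?_))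
  rw [sup_comm]
  exact key h.symm x hx

include h in
/-- The group `⟨P, P'⟩` induces `SL₂` on `V V'`, and `P` is `O₂(N(V))`. -/
theorem main : (∃ (F : Type) (_ : Field F) (_ : Fintype F), Fintype.card F = Nat.card ↥V ∧
      ∃ ρ : ↥(Pof V ⊔ Pof V') →* Matrix.SpecialLinearGroup (Fin 2) F, Function.Surjective ρ ∧
        ρ.ker = (Subgroup.centralizer ((V ⊔ V' : Subgroup G) : Set G)).subgroupOf (Pof V ⊔ Pof V')) ∧
      Pof V = Qof V := by
  classical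
  obtain ⟨B, hB⟩ := h.exists_opp
  obtain ⟨v₁, hv₁, hv₁1⟩ := h.exists_ne_one_left
  obtain ⟨b₀, hb₀⟩ : ∃ b : ↥B, (b : G) ≠ 1 := by
    obtain ⟨u, hu, hu1⟩ := h.exists_ne_one
    obtain ⟨b, hb, he⟩ := h.surj_left hB hu hu1 hv₁
    exact ⟨⟨b, hb⟩, fun hb1 => hv₁1 (by rw [← he]; simp only at hb1; rw [hb1]; simp)⟩
  obtain ⟨F, hF, hFt, ι, hιinj, hιmem, hcard⟩ := h.exists_field hB b₀ hb₀
  have hJ := h.isJordanSet hB b₀ hb₀
  let τ := h.tau hB b₀ hb₀
  let ev : F → ↥V := fun k => Additive.toMul (ι k (Additive.ofMul (⟨v₁, hv₁⟩ : ↥V)))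
  have hevadd : ∀ a b, ev (a + b) = ev a * ev b := fun a b => by
    show Additive.toMul (ι (a + b) _) = _
    rw [map_add]
    rfl
  have hevmul : ∀ a b, Additive.toMul (ι a (Additive.ofMul (ev b))) = ev (a * b) := fun a b => by
    show _ = Additive.toMul (ι (a * b) _)
    rw [map_mul]
    rfl
  have hevinj : Function.Injective ev := by
    intro a b he
    by_contra hne
    have h1 : ι (a - b) (Additive.ofMul (⟨v₁, hv₁⟩ : ↥V)) = 0 := by
      rw [map_sub]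
      exact sub_eq_zero.mpr (Additive.toMul.injective he)
    have h2 : ι (a - b) ≠ 0 := fun h3 => hne (sub_eq_zero.mp (hιinj (h3.trans (map_zero ι).symm)))
    have h4 := hJ.inj ((hιmem _).mpr ⟨_, rfl⟩) h2 h1
    exact hv₁1 (congrArg Subtype.val (congrArg Additive.toMul h4))
  have hevbij : Function.Bijective ev := (Nat.bijective_iff_injective_and_card ev).mpr
    ⟨hevinj, by rw [Nat.card_eq_fintype_card, hcard]⟩
  let θ : (Fin 2 → F) → G := fun l => (ev (l 0) : G) * ((τ.symm (ev (l 1)) : ↥V') : G)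
  have hθinj : Function.Injective θ := by
    intro l m he
    have h1 : ((ev (m 0))⁻¹ * ev (l 0) : ↥V).1 =
        ((τ.symm (ev (m 1)) * (τ.symm (ev (l 1)))⁻¹ : ↥V') : G) := by
      have he' : (ev (l 0) : G) * ((τ.symm (ev (l 1)) : ↥V') : G) =
          (ev (m 0) : G) * ((τ.symm (ev (m 1)) : ↥V') : G) := he
      have := congrArg (fun t => (ev (m 0) : G)⁻¹ * t * ((τ.symm (ev (l 1)) : ↥V') : G)⁻¹) he'
      simpa [mul_assoc] using this
    have h2 := h.eq_one_of_mem ((ev (m 0))⁻¹ * ev (l 0) : ↥V).2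
      (h1 ▸ (τ.symm (ev (m 1)) * (τ.symm (ev (l 1)))⁻¹ : ↥V').2)
    rw [h2] at h1
    have e0 : l 0 = m 0 := (hevinj (inv_mul_eq_one.mp (Subtype.ext h2))).symm
    have e1 : l 1 = m 1 := (hevinj (τ.symm.injective (mul_inv_eq_one.mp (Subtype.ext h1.symm)))).symm
    funext i
    fin_cases i
    · exact e0
    · exact e1
  have hθmem : ∀ l, θ l ∈ V ⊔ V' := fun l =>
    h.mem_W.mpr ⟨_, (ev (l 0)).2, _, (τ.symm (ev (l 1))).2, rfl⟩
  have hθsurj : ∀ w ∈ V ⊔ V', ∃ l, θ l = w := by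
    intro w hw
    obtain ⟨v, hv, u, hu, rfl⟩ := h.mem_W.mp hw
    obtain ⟨a, ha⟩ := hevbij.2 ⟨v, hv⟩
    obtain ⟨b, hb⟩ := hevbij.2 (τ ⟨u, hu⟩)
    refine ⟨![a, b], ?_⟩
    show (ev a : G) * ((τ.symm (ev b) : ↥V') : G) = v * u
    rw [ha, hb, MulEquiv.symm_apply_apply]
  let Act : G → SpecialLinearGroup (Fin 2) F → Prop := fun g A =>
    ∀ l, g * θ l * g⁻¹ = θ ((A : Matrix (Fin 2) (Fin 2) F) *ᵥ l)
  have hone : Act 1 1 := fun l => by
    show 1 * θ l * (1 : G)⁻¹ = θ ((1 : Matrix (Fin 2) (Fin 2) F) *ᵥ l)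
    rw [one_mulVec, one_mul, inv_one, mul_one]
  have hmul : ∀ g g' A A', Act g A → Act g' A' → Act (g * g') (A * A') := by
    intro g g' A A' h1 h2 l
    show _ = θ ((A.1 * A'.1) *ᵥ l)
    rw [← mulVec_mulVec, ← h1, ← h2]
    simp [mul_assoc]
  have hinv : ∀ g A, Act g A → Act g⁻¹ A⁻¹ := by
    intro g A h1 l
    have h2 := h1 ((A⁻¹ : SpecialLinearGroup (Fin 2) F).1 *ᵥ l)
    rw [mulVec_mulVec, show A.1 * (A⁻¹).1 = (1 : Matrix (Fin 2) (Fin 2) F) from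
      congrArg Subtype.val (mul_inv_cancel A), one_mulVec] at h2
    rw [← h2]
    simp [mul_assoc]
  have huniq : ∀ g A A', Act g A → Act g A' → A = A' := by
    intro g A A' h1 h2
    refine SpecialLinearGroup.toLin'_injective (LinearEquiv.ext fun l => ?_)
    rw [SpecialLinearGroup.toLin'_apply, SpecialLinearGroup.toLin'_apply, Matrix.toLin'_apply,
      Matrix.toLin'_apply]
    exact hθinj ((h1 l).symm.trans (h2 l))
  have h01 : (0 : Fin 2) ≠ 1 := by decide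
  have htr0 : ∀ (a : F) (l : Fin 2 → F),
      (SpecialLinearGroup.transvection h01 a : Matrix (Fin 2) (Fin 2) F) *ᵥ l
        = ![l 0 + a * l 1, l 1] := by
    intro a l
    funext i
    fin_cases i <;>
      simp [SpecialLinearGroup.transvection_coe, Matrix.mulVec, dotProduct, Fin.sum_univ_two,
        Matrix.one_apply, Matrix.single_apply]
  have htr1 : ∀ (a : F) (l : Fin 2 → F),
      (SpecialLinearGroup.transvection h01.symm a : Matrix (Fin 2) (Fin 2) F) *ᵥ l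
        = ![l 0, a * l 0 + l 1] := by
    intro a l
    funext i
    fin_cases i <;>
      simp [SpecialLinearGroup.transvection_coe, Matrix.mulVec, dotProduct, Fin.sum_univ_two,
        Matrix.one_apply, Matrix.single_apply]
  have hP : ∀ (x : ↥(Pof V)) (a : F), ι a = h.phiEnd hB b₀ hb₀ x →
      Act x (SpecialLinearGroup.transvection h01 a) := by
    intro x a hx l
    rw [htr0]
    show (x : G) * ((ev (l 0) : G) * ((τ.symm (ev (l 1)) : ↥V') : G)) * (x : G)⁻¹ =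
      (ev (l 0 + a * l 1) : G) * ((τ.symm (ev (l 1)) : ↥V') : G)
    rw [hevadd, Subgroup.coe_mul, ← hevmul a (l 1), hx]
    show _ = (ev (l 0) : G) * ⁅(x : G), ((τ.symm (ev (l 1)) : ↥V') : G)⁆ *
      ((τ.symm (ev (l 1)) : ↥V') : G)
    rw [mul_assoc (ev (l 0) : G), ← conj_eq_mul, ← mul_assoc (x : G),
      h.T.pof_comm x.2 (ev (l 0)).2]
    simp [mul_assoc]
  have hR : ∀ (r : ↥(Pof V')) (a : F), ι a = h.psiEnd hB b₀ hb₀ r →
      Act r (SpecialLinearGroup.transvection h01.symm a) := by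
    intro r a hr l
    rw [htr1]
    show (r : G) * ((ev (l 0) : G) * ((τ.symm (ev (l 1)) : ↥V') : G)) * (r : G)⁻¹ =
      (ev (l 0) : G) * ((τ.symm (ev (a * l 0 + l 1)) : ↥V') : G)
    rw [hevadd, map_mul, Subgroup.coe_mul, ← hevmul a (l 0), hr]
    show _ = (ev (l 0) : G) *
      (((τ.symm (τ (h.symm.aHom r (ev (l 0))))) : ↥V') * ((τ.symm (ev (l 1)) : ↥V') : G))
    rw [MulEquiv.symm_apply_apply, aHom_apply]
    have hc := h.symm.T.commElem_mem r.2 (h.symm.le_pof (ev (l 0)).2)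
    calc (r : G) * ((ev (l 0) : G) * ((τ.symm (ev (l 1)) : ↥V') : G)) * (r : G)⁻¹
        = ((r : G) * (ev (l 0) : G) * (r : G)⁻¹) *
            ((r : G) * ((τ.symm (ev (l 1)) : ↥V') : G) * (r : G)⁻¹) := by simp [mul_assoc]
      _ = _ := by
        rw [h.symm.T.pof_comm r.2 (τ.symm (ev (l 1))).2, mul_inv_cancel_right, conj_eq_mul,
          ← h.comm' (ev (l 0)).2 hc, mul_assoc]
  let S : Subgroup G :=
    { carrier := {g | ∃ A, Act g A}
      one_mem' := ⟨1, hone⟩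
      mul_mem' := fun ⟨A, hA⟩ ⟨A', hA'⟩ => ⟨A * A', hmul _ _ _ _ hA hA'⟩
      inv_mem' := fun ⟨A, hA⟩ => ⟨A⁻¹, hinv _ _ hA⟩ }
  have hHS : Pof V ⊔ Pof V' ≤ S := by
    refine sup_le (fun x hx => ?_) (fun r hr => ?_)
    · obtain ⟨a, ha⟩ := (hιmem _).mp ((h.mem_aSet hB b₀ hb₀).mpr ⟨⟨x, hx⟩, rfl⟩)
      exact ⟨_, hP ⟨x, hx⟩ a ha⟩
    · obtain ⟨a, ha⟩ := (hιmem _).mp (h.psi_mem hB b₀ hb₀ ⟨r, hr⟩)
      exact ⟨_, hR ⟨r, hr⟩ a ha⟩
  choose ρf hρf using fun g : ↥(Pof V ⊔ Pof V') => hHS g.2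
  let ρ : ↥(Pof V ⊔ Pof V') →* SpecialLinearGroup (Fin 2) F := MonoidHom.mk' ρf fun g g' =>
    huniq _ _ _ (hρf (g * g')) (hmul _ _ _ _ (hρf g) (hρf g'))
  have hρsurj : Function.Surjective ρ := by
    rw [← MonoidHom.range_eq_top, eq_top_iff, ← AutPSL.closure_transvections, Subgroup.closure_le]
    rintro _ ⟨i, j, hij, a, rfl⟩
    have hup : SpecialLinearGroup.transvection h01 a ∈ ρ.range := by
      obtain ⟨x, hx⟩ := (h.mem_aSet hB b₀ hb₀).mp ((hιmem (ι a)).mpr ⟨a, rfl⟩)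
      refine ⟨⟨x, Subgroup.mem_sup_left x.2⟩, ?_⟩
      exact huniq _ _ _ (hρf ⟨x, Subgroup.mem_sup_left x.2⟩) (hP x a hx.symm)
    have hlow : SpecialLinearGroup.transvection h01.symm a ∈ ρ.range := by
      obtain ⟨r, hr⟩ := h.exists_psi hB b₀ hb₀ ((hιmem (ι a)).mpr ⟨a, rfl⟩)
      refine ⟨⟨r, Subgroup.mem_sup_right r.2⟩, ?_⟩
      exact huniq _ _ _ (hρf ⟨r, Subgroup.mem_sup_right r.2⟩) (hR r a hr.symm)
    fin_cases i <;> fin_cases j
    · exact absurd rfl hij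
    · exact hup
    · exact hlow
    · exact absurd rfl hij
  have hker : ρ.ker =
      (Subgroup.centralizer ((V ⊔ V' : Subgroup G) : Set G)).subgroupOf (Pof V ⊔ Pof V') := by
    ext g
    rw [MonoidHom.mem_ker, Subgroup.mem_subgroupOf, Subgroup.mem_centralizer_iff]
    constructor
    · intro hg w hw
      obtain ⟨l, rfl⟩ := hθsurj w hw
      have h1 := hρf g l
      rw [show (ρf g).1 = (1 : Matrix (Fin 2) (Fin 2) F) from congrArg Subtype.val hg,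
        one_mulVec] at h1
      exact (mul_inv_eq_iff_eq_mul.mp h1).symm
    · intro hg
      refine huniq _ _ _ (hρf g) fun l => ?_
      show _ = θ ((1 : Matrix (Fin 2) (Fin 2) F) *ᵥ l)
      rw [one_mulVec, ← hg _ (hθmem l), mul_inv_cancel_right]
  refine ⟨⟨F, hF, hFt, hcard, ρ, hρsurj, hker⟩, le_antisymm inf_le_left fun q hq => ⟨hq, ?_⟩⟩
  -- a fixed vector of `O₂(N(V))` on `V`
  haveI : (V.subgroupOf (Qof V)).Normal :=
    (Subgroup.normal_subgroupOf_iff_le_normalizer h.T.le_qof).mpr h.T.qof_le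
  have hmeet := Cfsg.Agent.Lib.PGroups.normal_inf_center_ne_bot h.T.isPGroup_qof
    (V.subgroupOf (Qof V)) (fun he => hv₁1 (by
      have : (⟨v₁, h.T.le_qof hv₁⟩ : ↥(Qof V)) ∈ V.subgroupOf (Qof V) := hv₁
      rw [he, Subgroup.mem_bot] at this
      exact congrArg Subtype.val this))
  obtain ⟨z, hz, hz1⟩ := SetLike.exists_of_lt (bot_lt_iff_ne_bot.mpr hmeet)
  obtain ⟨k₀, hk₀⟩ := hevbij.2 ⟨z, hz.1⟩
  intro v hv
  obtain ⟨k, hk⟩ := hevbij.2 ⟨v, hv⟩
  have hk₀0 : k₀ ≠ 0 := by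
    rintro rfl
    refine hz1 (Subgroup.mem_bot.mpr (Subtype.ext ?_))
    have h1 : ev 0 = 1 := by
      show Additive.toMul (ι 0 _) = 1
      rw [map_zero]
      rfl
    rw [h1] at hk₀
    exact (congrArg Subtype.val hk₀).symm
  by_cases hk0 : k = 0
  · subst hk0
    have h1 : ev 0 = 1 := by
      show Additive.toMul (ι 0 _) = 1
      rw [map_zero]
      rfl
    rw [h1] at hk
    have hv' : v = 1 := (congrArg Subtype.val hk).symm
    rw [hv', one_mul, mul_one]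
  obtain ⟨g, hg⟩ := hρsurj (SpecialLinearGroup.diag2n h01 (k / k₀) (div_ne_zero hk0 hk₀0))
  have hgact : ∀ a : F, (g : G) * (ev a : G) * (g : G)⁻¹ = (ev (k / k₀ * a) : G) := by
    intro a
    have h0 : ev 0 = 1 := by
      show Additive.toMul (ι 0 _) = 1
      rw [map_zero]
      rfl
    have h1 := hρf g ![a, 0]
    rw [show ρf g = SpecialLinearGroup.diag2n h01 (k / k₀) (div_ne_zero hk0 hk₀0) from hg] at h1
    have h2 : ((SpecialLinearGroup.diag2n h01 (k / k₀) (div_ne_zero hk0 hk₀0) :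
        SpecialLinearGroup (Fin 2) F) : Matrix (Fin 2) (Fin 2) F) *ᵥ ![a, 0] = ![k / k₀ * a, 0] := by
      funext i
      rw [SpecialLinearGroup.diag2n_coe, Matrix.mulVec_diagonal]
      fin_cases i <;> simp
    rw [h2] at h1
    have h3 : ∀ b : F, θ ![b, 0] = (ev b : G) := by
      intro b
      show (ev b : G) * ((τ.symm (ev 0) : ↥V') : G) = ev b
      rw [h0, map_one, Subgroup.coe_one, mul_one]
    rwa [h3, h3] at h1
  have hgN : (g : G) ∈ Nm V := by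
    refine mem_nm_of_cj_eq (Subgroup.eq_of_le_of_card_ge ?_ (card_cj _ _).ge)
    rintro _ ⟨w, hw, rfl⟩
    obtain ⟨a, ha⟩ := hevbij.2 ⟨w, hw⟩
    show (g : G) * w * (g : G)⁻¹ ∈ V
    rw [show w = (ev a : G) from (congrArg Subtype.val ha).symm, hgact]
    exact (ev _).2
  have hq' : (g : G)⁻¹ * q * g ∈ Qof V := by
    have := h.T.qof_conj ((Nm V).inv_mem hgN) hq
    rwa [inv_inv] at this
  have hzc : ∀ p ∈ Qof V, p * (z : G) = (z : G) * p := fun p hp =>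
    congrArg Subtype.val (Subgroup.mem_center_iff.mp hz.2 (⟨p, hp⟩ : ↥(Qof V)))
  have hvz : (g : G) * (z : G) * (g : G)⁻¹ = v := by
    rw [show (z : G) = (ev k₀ : G) from (congrArg Subtype.val hk₀).symm, hgact,
      div_mul_cancel₀ k hk₀0, hk]
  have h5 := congrArg (fun t => (g : G) * t * (g : G)⁻¹) (hzc _ hq')
  simp only [mul_assoc, mul_inv_cancel_left, mul_inv_cancel, mul_one] at h5
  rw [← hvz]
  simpa [mul_assoc] using h5.symm

end Cfsg.Agent.Lib.K41.TIWeak.Pair
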